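import Cfsg.Agent.Lib.USixTwo.Main
import Cfsg.Agent.Lib.Classical.UnitarySimple

/-!
An involution centraliser `(2 × 2^{1+8}).Aut(U₄(2))`: first properties.
-/

set_option autoImplicit false
set_option linter.unusedSectionVars false
set_option linter.style.haveILetI false

open Cfsg CfsgLib.Extraspecial CfsgLib.USixType CfsgLib.USixTwo
open CfsgLib.HePres (K4)

namespace CfsgLib.FiTwoType

theorem g4_simple : IsSimpleGroup G4 := by
  haveI : Nontrivial G4 := ⟨gen 1, 1, fun h => by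
    have := congrArg natL h
    rw [natL_gen, natL_one] at this
    exact absurd this (by decide +kernel)⟩
  haveI : CharP K4 2 := CharTwo.of_one_ne_zero_of_two_eq_zero one_ne_zero K4.two_eq_zero
  obtain ⟨K⟩ := CfsgLib.Classical.Herm.exists_conj_of_card (F := K4) (q := 2) (by rw [K4.card_eq]; norm_num)
  haveI := CfsgLib.Classical.Herm.isSimpleGroup K 2 (n := 4) (by norm_num) (by norm_num)
  let q4 : Cfsg.PSU 4 K4 2 ≃* G4 :=
    (QuotientGroup.quotientMulEquivOfEq center_G4).trans QuotientGroup.quotientBot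
  exact IsSimpleGroup.isSimpleGroup_of_surjective q4.toMonoidHom q4.surjective

theorem conj_aut (g : G4) (x : MulAut G4) : x * MulAut.conj g * x⁻¹ = MulAut.conj (x g) :=
  MulEquiv.ext fun y => by simp [MulAut.mul_apply, map_mul]

/-- A `2`-group of automorphisms normalised by the inner ones is trivial. -/
theorem two_trivial {P : Subgroup (MulAut G4)} (hP : IsPGroup 2 P)
    (hn : ∀ g : G4, ∀ x ∈ P, MulAut.conj g * x * (MulAut.conj g)⁻¹ ∈ P) {x : MulAut G4} (hx : x ∈ P) : x = 1 := by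
  haveI := g4_simple
  have hN : (P.comap (MulAut.conj : G4 →* MulAut G4)).Normal := ⟨fun y hy g => by
    show MulAut.conj (g * y * g⁻¹) ∈ P
    rw [map_mul, map_mul, map_inv]
    exact hn g _ hy⟩
  have hbot : P.comap (MulAut.conj : G4 →* MulAut G4) = ⊥ := by
    refine hN.eq_bot_or_eq_top.resolve_right fun h => ?_
    have h0 : MulAut.conj (gen 0) ∈ P := (Subgroup.eq_top_iff' _).1 h (gen 0)
    obtain ⟨n, hn'⟩ := hP ⟨_, h0⟩
    have h3 : (gen 0) ^ 3 = 1 := by
      refine natL_inj ?_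
      rw [pow_succ, pow_succ, pow_one, natL_mul, natL_mul, natL_one, natL_gen]
      decide +kernel
    have h2 : (gen 0) ^ 2 ^ n = 1 := conj_inj (by rw [map_pow, map_one]; exact congrArg Subtype.val hn')
    have h1 : gen 0 = 1 := orderOf_eq_one_iff.1 (Nat.dvd_one.1 (by
      have := Nat.dvd_gcd (orderOf_dvd_of_pow_eq_one h3) (orderOf_dvd_of_pow_eq_one h2)
      rwa [Nat.Coprime.gcd_eq_one (Nat.Coprime.pow_right n (by norm_num))] at this))
    have := congrArg natL h1
    rw [natL_gen, natL_one] at this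
    exact absurd this (by decide +kernel)
  refine MulEquiv.ext fun g => ?_
  have h1 : MulAut.conj (g * (x g)⁻¹) ∈ P := by
    rw [map_mul, map_inv, ← conj_aut g x]
    have := P.mul_mem (hn g x hx) (P.inv_mem hx)
    convert this using 1
    group
  have h2 : g * (x g)⁻¹ ∈ P.comap (MulAut.conj : G4 →* MulAut G4) := h1
  rw [hbot, Subgroup.mem_bot, mul_inv_eq_one] at h2
  rw [← h2]; rfl

/-- The hypotheses. -/
structure Big {G : Type*} [Group G] [Finite G] (z a : G) (J : Subgroup G) (π : ↥(Cz z) →* MulAut G4) :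
    Prop where
  hz : orderOf z = 2
  ha : orderOf a = 2
  haz : a ≠ z
  zJ : z ∈ J
  aJ : a ∈ J
  card : Nat.card J = 1024
  JC : J ≤ Cz z
  ker : π.ker = J.subgroupOf (Cz z)
  surj : Function.Surjective π
  comm : ∀ x ∈ J, ∀ y ∈ J, x * y * x⁻¹ * y⁻¹ = 1 ∨ x * y * x⁻¹ * y⁻¹ = z
  sq : ∀ x ∈ J, x * x = 1 ∨ x * x = z
  cent : ∀ x ∈ Cz z, (∀ y ∈ J, y * x = x * y) → x = 1 ∨ x = z ∨ x = a ∨ x = z * a
  aC : ∀ y ∈ J, y * a = a * y

/-- The elements fixing both involutions. -/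
def Hc {G : Type*} [Group G] (z a : G) : Subgroup G := Cz z ⊓ Cz a

namespace Big

variable {G : Type*} [Group G] [Finite G] {z a : G} {J : Subgroup G} {π : ↥(Cz z) →* MulAut G4}
  (B : Big z a J π)
include B

theorem zz : z * z = 1 := by rw [← pow_two, ← B.hz]; exact pow_orderOf_eq_one z

theorem aa : a * a = 1 := by rw [← pow_two, ← B.ha]; exact pow_orderOf_eq_one a

theorem zne : z ≠ 1 := fun e => by simpa [e] using B.hz

theorem ane : a ≠ 1 := fun e => by simpa [e] using B.ha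

theorem za : z * a = a * z := B.aC z B.zJ

theorem zaza : z * a * (z * a) = 1 := by
  rw [mul_assoc, ← mul_assoc a, ← B.za, mul_assoc, B.aa, mul_one, B.zz]

theorem za_ne : z * a ≠ z ∧ z * a ≠ a ∧ z * a ≠ 1 :=
  ⟨fun e => B.ane (mul_eq_left.1 e), fun e => B.zne (mul_eq_right.1 e),
    fun e => B.haz (by rw [← one_mul a, ← B.zz, mul_assoc, e, mul_one])⟩

theorem za_ord : orderOf (z * a) = 2 :=
  orderOf_eq_prime_iff.2 ⟨by rw [pow_two]; exact B.zaza, B.za_ne.2.2⟩

/-- The other central involution plays the same role. -/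
theorem swap : Big z (z * a) J π where
  hz := B.hz
  ha := B.za_ord
  haz := B.za_ne.1
  zJ := B.zJ
  aJ := J.mul_mem B.zJ B.aJ
  card := B.card
  JC := B.JC
  ker := B.ker
  surj := B.surj
  comm := B.comm
  sq := B.sq
  cent := fun x hx h => by
    rcases B.cent x hx h with e | e | e | e
    · exact Or.inl e
    · exact Or.inr (Or.inl e)
    · exact Or.inr (Or.inr (Or.inr (by rw [e, ← mul_assoc, B.zz, one_mul])))
    · exact Or.inr (Or.inr (Or.inl e))
  aC := fun y hy => by rw [← mul_assoc, mem_Cz.1 (B.JC hy), mul_assoc, B.aC y hy, mul_assoc]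

theorem zC : z ∈ Cz z := mem_Cz.2 rfl

theorem aCz : a ∈ Cz z := B.JC B.aJ

theorem JH : J ≤ Hc z a := fun y hy => ⟨B.JC hy, mem_Cz.2 (B.aC y hy)⟩

theorem aut_mul {x y : G} (hx : x ∈ Cz z) (hy : y ∈ Cz z) : aut z π (x * y) = aut z π x * aut z π y := by
  rw [aut, aut, aut, dif_pos ((Cz z).mul_mem hx hy), dif_pos hx, dif_pos hy, ← map_mul]
  rfl

theorem aut_inv {x : G} (hx : x ∈ Cz z) : aut z π x⁻¹ = (aut z π x)⁻¹ := by
  rw [aut, aut, dif_pos ((Cz z).inv_mem hx), dif_pos hx, ← map_inv]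
  rfl

theorem aut_eq_one {x : G} (hx : x ∈ Cz z) : aut z π x = 1 ↔ x ∈ J := by
  rw [aut, dif_pos hx, ← MonoidHom.mem_ker, B.ker, Subgroup.mem_subgroupOf]

theorem aut_J {x : G} (hx : x ∈ J) : aut z π x = 1 := (B.aut_eq_one (B.JC hx)).2 hx

theorem lift (m : MulAut G4) : ∃ c ∈ Cz z, aut z π c = m := by
  obtain ⟨⟨c, hc⟩, rfl⟩ := B.surj m
  exact ⟨c, hc, by rw [aut, dif_pos hc]⟩

theorem conjJ {x j : G} (hx : x ∈ Cz z) (hj : j ∈ J) : x * j * x⁻¹ ∈ J := by
  refine (B.aut_eq_one ((Cz z).mul_mem ((Cz z).mul_mem hx (B.JC hj)) ((Cz z).inv_mem hx))).1 ?_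
  rw [B.aut_mul ((Cz z).mul_mem hx (B.JC hj)) ((Cz z).inv_mem hx), B.aut_mul hx (B.JC hj), B.aut_J hj, mul_one,
    B.aut_inv hx, mul_inv_cancel]

/-- The centraliser permutes the two other central involutions. -/
theorem a_perm {x : G} (hx : x ∈ Cz z) : x * a * x⁻¹ = a ∨ x * a * x⁻¹ = z * a := by
  have hxz : x * z * x⁻¹ = z := by rw [mem_Cz.1 hx]; group
  rcases B.cent (x * a * x⁻¹) (B.JC (B.conjJ hx B.aJ)) (fun y hy => by
    have hy' : x⁻¹ * y * x ∈ J := by
      simpa using B.conjJ ((Cz z).inv_mem hx) hy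
    calc y * (x * a * x⁻¹) = x * (x⁻¹ * y * x * a) * x⁻¹ := by group
      _ = x * (a * (x⁻¹ * y * x)) * x⁻¹ := by rw [B.aC _ hy']
      _ = x * a * x⁻¹ * y := by group) with e | e | e | e
  · exact absurd (conj_eq_one_iff.1 e) B.ane
  · exact absurd (mul_left_cancel (mul_right_cancel (e.trans hxz.symm))) B.haz
  · exact Or.inl e
  · exact Or.inr e

/-- Elements inducing inner automorphisms fix the central involutions. -/
theorem inner_fix {x : G} (hx : x ∈ Cz z) {g : G4} (hg : aut z π x = MulAut.conj g) : x * a = a * x := by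
  classical
  have hm : ∀ {u v : G}, u ∈ Cz z → v ∈ Cz z → (u * v * a = a * (u * v) ↔ (u * a = a * u ↔ v * a = a * v)) := by
    intro u v hu hv
    have e : ∀ {w : G}, w * a = a * w ↔ w * a * w⁻¹ = a := fun {w} => mul_inv_eq_iff_eq_mul.symm
    rw [e, e, e, show u * v * a * (u * v)⁻¹ = u * (v * a * v⁻¹) * u⁻¹ by group]
    rcases B.a_perm hv with e1 | e1 <;> rcases B.a_perm hu with e2 | e2 <;> rw [e1]
    · simp [e2]
    · simp [e2, B.za_ne.2.1]
    · rw [show u * (z * a) * u⁻¹ = (u * z) * a * u⁻¹ by group, mem_Cz.1 hu,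
        show z * u * a * u⁻¹ = z * (u * a * u⁻¹) by group, e2]
      simp [B.za_ne.2.1]
    · rw [show u * (z * a) * u⁻¹ = (u * z) * a * u⁻¹ by group, mem_Cz.1 hu,
        show z * u * a * u⁻¹ = z * (u * a * u⁻¹) by group, e2, ← mul_assoc, B.zz, one_mul]
      simp [B.za_ne.2.1]
  choose c hc hca using fun g : G4 => B.lift (MulAut.conj g)
  have hdiff : ∀ {u v : G}, u ∈ Cz z → v ∈ Cz z → aut z π u = aut z π v → (u * a = a * u ↔ v * a = a * v) := by
    intro u v hu hv e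
    have hj : u⁻¹ * v ∈ J := (B.aut_eq_one ((Cz z).mul_mem ((Cz z).inv_mem hu) hv)).1 (by
      rw [B.aut_mul ((Cz z).inv_mem hu) hv, B.aut_inv hu, e, inv_mul_cancel])
    have := hm hu (B.JC hj)
    rw [mul_inv_cancel_left] at this
    rw [this]
    exact ⟨fun h => ⟨fun _ => B.aC _ hj, fun _ => h⟩, fun h => h.2 (B.aC _ hj)⟩
  let χ : G4 →* ℤˣ := MonoidHom.mk' (fun g => if c g * a = a * c g then 1 else -1) fun g h => by
    have e := hdiff (hc (g * h)) ((Cz z).mul_mem (hc g) (hc h)) (by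
      rw [hca, B.aut_mul (hc g) (hc h), hca, hca, map_mul])
    have e2 := hm (hc g) (hc h)
    by_cases h1 : c g * a = a * c g <;> by_cases h2 : c h * a = a * c h <;> simp [h1, h2, e, e2]
  have h1 := hom_trivial χ (fun _ _ => mul_comm _ _) g
  refine (hdiff hx (hc g) (hg.trans (hca g).symm)).2 ?_
  by_contra h
  have : χ g = -1 := if_neg h
  rw [h1] at this
  exact absurd this (by decide)

theorem lift_Hc (g : G4) : ∃ c ∈ Hc z a, aut z π c = MulAut.conj g := by
  obtain ⟨c, hc, e⟩ := B.lift (MulAut.conj g)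
  exact ⟨c, ⟨hc, mem_Cz.2 (B.inner_fix hc e)⟩, e⟩

theorem two_J : IsPGroup 2 J := IsPGroup.of_card (n := 10) (by rw [B.card]; norm_num)

/-- Elements of odd order centralising `J` are trivial. -/
theorem odd_cent {x : G} (hx : x ∈ Cz z) (hodd : Odd (orderOf x)) (h : ∀ y ∈ J, y * x = x * y) : x = 1 := by
  have key : x * x = 1 := by
    rcases B.cent x hx h with e | e | e | e <;> rw [e]
    exacts [one_mul _, B.zz, B.aa, B.zaza]
  obtain ⟨m, hm⟩ := hodd
  have := pow_orderOf_eq_one x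
  rwa [hm, pow_succ, pow_mul, pow_two, key, one_pow, one_mul] at this

/-- A `2`-subgroup normalised by lifts of all inner automorphisms lies in `J`. -/
theorem two_le {P C : Subgroup G} (hP : IsPGroup 2 P) (hPC : P ≤ Cz z) (hC : C ≤ Cz z)
    (hlift : ∀ g : G4, ∃ c ∈ C, aut z π c = MulAut.conj g) (hn : ∀ c ∈ C, ∀ x ∈ P, c * x * c⁻¹ ∈ P) : P ≤ J := by
  intro x hx
  let P0 : Subgroup (MulAut G4) := (P.subgroupOf (Cz z)).map π
  have hP0 : IsPGroup 2 P0 := (hP.of_equiv (Subgroup.subgroupOfEquivOfLe hPC).symm).map π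
  have hmem : ∀ {y : G}, y ∈ P → aut z π y ∈ P0 := fun {y} hy =>
    ⟨⟨y, hPC hy⟩, hy, by rw [aut, dif_pos (hPC hy)]⟩
  refine (B.aut_eq_one (hPC hx)).1 (two_trivial hP0 (fun g m hm => ?_) (hmem hx))
  obtain ⟨⟨y, hy⟩, hyP, rfl⟩ := hm
  obtain ⟨c, hc, hca⟩ := hlift g
  have hcC := hC hc
  have e := hmem (hn c hc y hyP)
  rwa [B.aut_mul ((Cz z).mul_mem hcC hy) ((Cz z).inv_mem hcC), B.aut_mul hcC hy, B.aut_inv hcC, hca,
    show aut z π y = π ⟨y, hy⟩ by rw [aut, dif_pos hy]] at e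

/-- A subgroup of index at most two of `J` is not abelian. -/
theorem not_abelian {A : Subgroup G} (hA : A ≤ J) (hi : A.relIndex J ≤ 2) :
    ∃ x ∈ A, ∃ y ∈ A, x * y * x⁻¹ * y⁻¹ = z := by
  by_contra hno
  push Not at hno
  have hab : ∀ x ∈ A, ∀ y ∈ A, x * y = y * x := fun x hx y hy => by
    rcases B.comm x (hA hx) y (hA hy) with e | e
    · exact mul_inv_eq_iff_eq_mul.1 (mul_inv_eq_one.1 e)
    · exact absurd e (hno x hx y hy)
  have hcard := A.relIndex J |> fun _ => (A.subgroupOf J).card_mul_index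
  rw [Nat.card_congr (Subgroup.subgroupOfEquivOfLe hA).toEquiv, B.card] at hcard
  change Nat.card A * A.relIndex J = 1024 at hcard
  have h512 : 512 ≤ Nat.card A := by
    rcases Nat.lt_or_ge 0 (A.relIndex J) with h | h
    · nlinarith
    · rw [Nat.le_zero.1 h, mul_zero] at hcard; exact absurd hcard (by norm_num)
  have h1 : A.relIndex J = 1 ∨ A.relIndex J = 2 := by
    rcases Nat.eq_zero_or_pos (A.relIndex J) with h | h
    · rw [h, mul_zero] at hcard; exact absurd hcard (by norm_num)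
    · omega
  -- an element generating `J` over `A`
  obtain ⟨j, hj, hgen⟩ : ∃ j ∈ J, ∀ y ∈ J, y ∈ A ∨ y * j ∈ A := by
    rcases h1 with h | h
    · exact ⟨1, J.one_mem, fun y hy => Or.inl (Subgroup.relIndex_eq_one.1 h hy)⟩
    · obtain ⟨j, hj, hx⟩ := Subgroup.relIndex_eq_two_iff.1 h
      exact ⟨j, hj, fun y hy => (hx y hy).elim (fun h => Or.inr h.1) (fun h => Or.inl h.1)⟩
  classical
  haveI : Fintype A := Fintype.ofFinite A
  let f : A → Bool := fun x => decide ((x : G) * j * (x : G)⁻¹ * j⁻¹ = 1)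
  have hfib : ∀ b, (Finset.univ.filter fun x => f x = b).card ≤ 4 := by
    intro b
    by_cases hne : (Finset.univ.filter fun x => f x = b).Nonempty
    swap
    · rw [Finset.not_nonempty_iff_eq_empty] at hne; rw [hne]; simp
    obtain ⟨x0, hx0⟩ := hne
    simp only [Finset.mem_filter, Finset.mem_univ, true_and] at hx0
    have hsub : ∀ x : A, f x = b → (x0 : G)⁻¹ * x ∈ ({1, z, a, z * a} : Finset G) := by
      intro x hx
      have hw : (x0 : G)⁻¹ * x ∈ A := A.mul_mem (A.inv_mem x0.2) x.2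
      have ee : (x : G) * j * (x : G)⁻¹ * j⁻¹ = (x0 : G) * j * (x0 : G)⁻¹ * j⁻¹ := by
        have hb : decide ((x : G) * j * (x : G)⁻¹ * j⁻¹ = 1) =
            decide ((x0 : G) * j * (x0 : G)⁻¹ * j⁻¹ = 1) := hx.trans hx0.symm
        rcases B.comm x (hA x.2) j hj with e | e <;> rcases B.comm x0 (hA x0.2) j hj with e' | e' <;>
          rw [e, e'] at hb ⊢ <;> simp [B.zne] at hb
      have e1 : (x0 : G)⁻¹ * x * j = j * ((x0 : G)⁻¹ * x) := by
        have e2 : (x : G) * j * (x : G)⁻¹ = (x0 : G) * j * (x0 : G)⁻¹ := mul_right_cancel ee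
        calc (x0 : G)⁻¹ * x * j = (x0 : G)⁻¹ * ((x : G) * j * (x : G)⁻¹) * x := by group
          _ = j * ((x0 : G)⁻¹ * x) := by rw [e2]; group
      have hc := B.cent _ (B.JC (hA hw)) (fun y hy => by
        rcases hgen y hy with h | h
        · exact hab y h _ hw
        · have h2 := hab _ h _ hw
          have e3 : j⁻¹ * ((x0 : G)⁻¹ * x) = (x0 : G)⁻¹ * x * j⁻¹ :=
            ((show Commute ((x0 : G)⁻¹ * x) j from e1).inv_right).eq.symm
          calc y * ((x0 : G)⁻¹ * x) = y * j * (j⁻¹ * ((x0 : G)⁻¹ * x)) := by group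
            _ = y * j * ((x0 : G)⁻¹ * x) * j⁻¹ := by rw [e3, ← mul_assoc]
            _ = (x0 : G)⁻¹ * x * y := by rw [h2]; group)
      simpa using hc
    have : (Finset.univ.filter fun x => f x = b).card ≤ ({1, z, a, z * a} : Finset G).card :=
      Finset.card_le_card_of_injOn (fun x => (x0 : G)⁻¹ * (x : G)) (fun x hx => hsub x (by simpa using hx))
        (fun x _ y _ e => Subtype.ext (mul_left_cancel e))
    exact this.trans (by
      refine (Finset.card_insert_le _ _).trans (Nat.succ_le_succ ((Finset.card_insert_le _ _).trans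
        (Nat.succ_le_succ ((Finset.card_insert_le _ _).trans ?_))))
      simp)
  have hsum := Finset.card_eq_sum_card_fiberwise (s := (Finset.univ : Finset A)) (t := (Finset.univ : Finset Bool))
    (f := f) (fun x _ => Finset.mem_univ _)
  rw [Finset.card_univ, ← Nat.card_eq_fintype_card, Fintype.sum_bool] at hsum
  have := hfib true; have := hfib false
  omega

/-- The elements fixing both involutions have index at most two. -/
theorem Hc_index : (Hc z a).relIndex (Cz z) ≤ 2 := by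
  by_cases hall : ∀ x ∈ Cz z, x * a * x⁻¹ = a
  · have hle : Cz z ≤ Hc z a := fun x hx =>
      Subgroup.mem_inf.2 ⟨hx, mem_Cz.2 (mul_inv_eq_iff_eq_mul.1 (hall x hx))⟩
    rw [Subgroup.relIndex_eq_one.2 hle]
    norm_num
  · push Not at hall
    obtain ⟨e, he, hea⟩ := hall
    have hea' := (B.a_perm he).resolve_left hea
    refine le_of_eq (Subgroup.relIndex_eq_two_iff.2 ⟨e, he, fun x hx => ?_⟩)
    have em : ∀ {w : G}, w ∈ Cz z → (w ∈ Hc z a ↔ w * a * w⁻¹ = a) := fun {w} hw =>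
      ⟨fun h => by rw [mem_Cz.1 (Subgroup.mem_inf.1 h).2]; group,
        fun h => Subgroup.mem_inf.2 ⟨hw, mem_Cz.2 (mul_inv_eq_iff_eq_mul.1 h)⟩⟩
    show Xor _ _
    rw [em ((Cz z).mul_mem hx he), em hx,
      show x * e * a * (x * e)⁻¹ = x * (e * a * e⁻¹) * x⁻¹ by group, hea',
      show x * (z * a) * x⁻¹ = (x * z) * a * x⁻¹ by group, mem_Cz.1 hx,
      show z * x * a * x⁻¹ = z * (x * a * x⁻¹) by group]
    rcases B.a_perm hx with h | h <;> rw [h]
    · exact Or.inr ⟨rfl, B.za_ne.2.1⟩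
    · exact Or.inl ⟨by rw [← mul_assoc, B.zz, one_mul], B.za_ne.2.1⟩

/-- An element matching two subgroups covering the inner automorphisms fixes `z`. -/
theorem fix_z {g : G} {C C' : Subgroup G} (hC : C ≤ Cz z) (hC' : C' ≤ Cz z) (hmap : ∀ c, c ∈ C ↔ g * c * g⁻¹ ∈ C')
    (hlift : ∀ h : G4, ∃ c ∈ C', aut z π c = MulAut.conj h)
    (hnab : ∃ x ∈ J ⊓ C, ∃ y ∈ J ⊓ C, x * y * x⁻¹ * y⁻¹ = z) : g * z * g⁻¹ = z := by
  set P := (J ⊓ C).map (MulAut.conj g).toMonoidHom with hP
  have hPC : P ≤ Cz z := by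
    rintro _ ⟨x, hx, rfl⟩
    exact hC' ((hmap x).1 hx.2)
  have hle : P ≤ J := B.two_le ((B.two_J.to_le inf_le_left).map _) hPC hC' hlift fun c hc y hy => by
    obtain ⟨x, hx, rfl⟩ := hy
    have hc0 : g⁻¹ * c * g ∈ C := (hmap _).2 (by simpa [mul_assoc] using hc)
    refine ⟨g⁻¹ * c * g * x * (g⁻¹ * c * g)⁻¹, ⟨B.conjJ (hC hc0) hx.1,
      C.mul_mem (C.mul_mem hc0 hx.2) (C.inv_mem hc0)⟩, ?_⟩
    simp [mul_assoc]
  obtain ⟨x, hx, y, hy, e⟩ := hnab
  have e2 : g * z * g⁻¹ = (g * x * g⁻¹) * (g * y * g⁻¹) * (g * x * g⁻¹)⁻¹ * (g * y * g⁻¹)⁻¹ := by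
    rw [← e]; group
  rcases B.comm (g * x * g⁻¹) (hle ⟨x, hx, rfl⟩) (g * y * g⁻¹) (hle ⟨y, hy, rfl⟩) with h | h <;> rw [← e2] at h
  · exact absurd (conj_eq_one_iff.1 h) B.zne
  · exact h

/-- No conjugate of `z` equals the second involution. -/
theorem not_conj (g : G) : g * z * g⁻¹ ≠ a := by
  intro hg
  set H0 := Hc z a
  set C := Cz z ⊓ Cz (g⁻¹ * z * g) with hCd
  have hmap : ∀ c, c ∈ C ↔ g * c * g⁻¹ ∈ H0 := by
    intro c
    show c ∈ Cz z ∧ c ∈ Cz (g⁻¹ * z * g) ↔ g * c * g⁻¹ ∈ Cz z ∧ g * c * g⁻¹ ∈ Cz a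
    have e1 : c ∈ Cz (g⁻¹ * z * g) ↔ g * c * g⁻¹ ∈ Cz z := by
      rw [mem_Cz, mem_Cz]
      constructor <;> intro h
      · calc g * c * g⁻¹ * z = g * (c * (g⁻¹ * z * g)) * g⁻¹ := by group
          _ = g * (g⁻¹ * z * g * c) * g⁻¹ := by rw [h]
          _ = _ := by group
      · calc c * (g⁻¹ * z * g) = g⁻¹ * (g * c * g⁻¹ * z) * g := by group
          _ = g⁻¹ * (z * (g * c * g⁻¹)) * g := by rw [h]
          _ = _ := by group
    have e2 : c ∈ Cz z ↔ g * c * g⁻¹ ∈ Cz a := by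
      rw [mem_Cz, mem_Cz, ← hg]
      constructor <;> intro h
      · calc g * c * g⁻¹ * (g * z * g⁻¹) = g * (c * z) * g⁻¹ := by group
          _ = g * (z * c) * g⁻¹ := by rw [h]
          _ = _ := by group
      · calc c * z = g⁻¹ * (g * c * g⁻¹ * (g * z * g⁻¹)) * g := by group
          _ = g⁻¹ * (g * z * g⁻¹ * (g * c * g⁻¹)) * g := by rw [h]
          _ = _ := by group
    rw [e1, e2, and_comm]
  refine B.haz (hg.symm.trans (B.fix_z (g := g) (C := C) (C' := H0) inf_le_left inf_le_left hmap B.lift_Hc ?_))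
  have hH0 : H0.relIndex (Cz z) ≤ 2 := B.Hc_index
  have hcardC : Nat.card C = Nat.card H0 := by
    refine Nat.card_congr
      { toFun := fun c => ⟨g * c * g⁻¹, (hmap _).1 c.2⟩
        invFun := fun c => ⟨g⁻¹ * c * g, (hmap _).2 (by simpa [mul_assoc] using c.2)⟩
        left_inv := fun c => Subtype.ext (by group)
        right_inv := fun c => Subtype.ext (by group) }
  have hCi : C.relIndex (Cz z) ≤ 2 := by
    have h1 := (C.subgroupOf (Cz z)).card_mul_index
    have h2 := (H0.subgroupOf (Cz z)).card_mul_index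
    rw [Nat.card_congr (Subgroup.subgroupOfEquivOfLe (inf_le_left : C ≤ Cz z)).toEquiv] at h1
    rw [Nat.card_congr (Subgroup.subgroupOfEquivOfLe (show H0 ≤ Cz z from inf_le_left)).toEquiv] at h2
    rw [hcardC] at h1
    have : C.relIndex (Cz z) = H0.relIndex (Cz z) :=
      Nat.eq_of_mul_eq_mul_left (Nat.card_pos (α := H0)) (h1.trans h2.symm)
    omega
  have hJi : (J ⊓ C).relIndex J ≤ 2 := by
    rw [inf_comm, Subgroup.inf_relIndex_right]
    have hne : C.relIndex (Cz z) ≠ 0 := Subgroup.index_ne_zero_of_finite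
    exact (Subgroup.relIndex_le_of_le_right B.JC hne).trans hCi
  obtain ⟨x, hx, y, hy, e⟩ := B.not_abelian inf_le_left hJi
  exact ⟨x, hx, y, hy, e⟩

/-- Likewise for the third. -/
theorem not_conj' (g : G) : g * z * g⁻¹ ≠ z * a := B.swap.not_conj g

end Big

end CfsgLib.FiTwoType
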