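import Cfsg.Agent.Lib.FiTwoType.Central

/-!
The second involution central in the centraliser, both quotients large: impossible.
-/

set_option autoImplicit false
set_option linter.unusedSectionVars false
set_option linter.style.haveILetI false
set_option maxRecDepth 100000

open Cfsg CfsgLib.Extraspecial CfsgLib.USixType CfsgLib.USixTwo
open CfsgLib.HePres (K4)

namespace CfsgLib.FiTwoType

/-- An involution with a root and a witness of order four is of transvection type. -/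
theorem shape_witness {G : Type*} [Group G] [Finite G] {z : G} {Q : Subgroup G} {π : ↥(Cz z) →* G4}
    (T : Sp z Q π) (H : Pre z Q π) {x : G} (hx : x ∈ Cz z) (h2 : x * x = 1) (hi : img z π x ≠ 1)
    (hr : HasRoot z x) {v : V8} (hv : app (natL (img z π x)) v = v) (hq : qq bA v = true) :
    ∃ b, Sim z x (T.rp false b) := by
  have ho : orderOf (img z π x) = 2 := by
    refine orderOf_eq_prime ?_ hi
    rw [pow_two, ← H.img_mul hx hx, h2]
    exact H.img_Q Q.one_mem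
  obtain ⟨k, h, hh⟩ := inv_class ho
  have hc : T.s h⁻¹ ∈ Cz z := T.mem _
  set x' := T.s h⁻¹ * x * (T.s h⁻¹)⁻¹ with hx'
  have hx'C : x' ∈ Cz z := (Cz z).mul_mem ((Cz z).mul_mem hc hx) ((Cz z).inv_mem hc)
  obtain ⟨w, b, g, hel⟩ := T.el_surj H hx'C
  have hg : g = evalW (repW k) := by
    rw [← T.el_img H w b g, hel, hx', H.img_conj hc hx, T.sec, hh]
    group
  subst hg
  have hsim : Sim z x (T.el w b (evalW (repW k))) := ⟨_, hc, hel.symm⟩
  have hsq : T.el w b (evalW (repW k)) * T.el w b (evalW (repW k)) = T.el 0 false 1 := by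
    rw [hel, hx', show T.s h⁻¹ * x * (T.s h⁻¹)⁻¹ * (T.s h⁻¹ * x * (T.s h⁻¹)⁻¹) =
      T.s h⁻¹ * (x * x) * (T.s h⁻¹)⁻¹ by group, h2, ← T.j_el, T.C.j_one]
    group
  rw [T.el_mul, natL_evalW] at hsq
  obtain ⟨hfix', hbit, -⟩ := T.el_inj H hsq
  have hfix : app (linW gL (repW k)) w = w := (xr_eq_zero.1 hfix').symm
  rw [hfix, Bool.xor_self, Bool.false_xor] at hbit
  cases k
  swap
  · exfalso
    have hu : app (linW gL (repW true)) (app (natL h⁻¹) v) = app (natL h⁻¹) v := by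
      rw [← natL_evalW, show evalW (repW true) = h⁻¹ * img z π x * h by rw [hh]; group, ← app_comp, ← natL_mul,
        show h⁻¹ * img z π x * h * h⁻¹ = h⁻¹ * img z π x by group, natL_mul, app_comp, hv]
    have := fix_counts.2 _ hu
    rw [qq_natL, hq] at this
    exact Bool.noConfusion this
  have move : ∀ u, ∃ d, Sim z x (T.el (xr (xr u w) (app (gL 1) u)) d (evalW (repW false))) := by
    intro u
    obtain ⟨d, hd⟩ := T.j_conj u w b (evalW (repW false))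
    rw [natL_evalW, sing_facts.2.2.2.2.2] at hd
    exact ⟨d, hsim.trans ⟨_, H.QC (T.C.mem _ _), hd⟩⟩
  rw [sing_facts.2.2.2.2.2] at hfix
  rcases norm_trans w hfix hbit with ⟨u, hu⟩ | hsing
  · obtain ⟨d, hd⟩ := move u
    rw [hu] at hd
    exact ⟨d, hd⟩
  · obtain ⟨e, he, u, hu⟩ := sing_base w hsing
    obtain ⟨d, hd⟩ := move u
    rw [← hu] at hd
    refine absurd (Sim.root ?_ hr) (T.no_root_sing H d)
    refine hd.trans (Sim.symm ⟨T.s (evalW e), T.mem _, ?_⟩)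
    rw [Sp.sg, T.s_conj, natL_evalW, ← invW_eval, ← evalW_append, ← evalW_append]
    congr 1
    refine evalW_eq ?_
    show linW gL (e ++ [1] ++ invW e) = linW gL [1]
    rw [singW_cent e he]
    exact (comp_id _).symm

/-- Without isolation: the subgroup of index two, with its data. -/
theorem two_data {G : Type*} [Group G] [Finite G] {z : G} {Q : Subgroup G} {π : ↥(Cz z) →* MulAut G4}
    (H : Two z Q π) (hni : ¬ ∀ g : G, g * z * g⁻¹ ∈ Cz z → g * z * g⁻¹ = z) :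
    ∃ (G0 : Subgroup G) (hz0 : z ∈ G0) (π0 : ↥(Cz (⟨z, hz0⟩ : G0)) →* G4),
      (∀ x ∈ Cz z, x ∈ G0 ↔ x ∈ inn π) ∧ Pre (⟨z, hz0⟩ : G0) (Q.subgroupOf G0) π0 ∧
      ∃ g : G0, g * ⟨z, hz0⟩ * g⁻¹ ∈ Cz (⟨z, hz0⟩ : G0) ∧ g * ⟨z, hz0⟩ * g⁻¹ ≠ ⟨z, hz0⟩ := by
  obtain ⟨β, S, σ, hK, ⟨F⟩⟩ := H.exists_fr
  by_cases hS : S = wL
  · exact absurd (F.isolatedB H hK hS) hni
  obtain ⟨rfl, rfl, rfl⟩ : β = bA ∧ S = gL ∧ σ = sgA := by
    rcases hK with h | ⟨-, h, -⟩ | ⟨-, h, -⟩ | ⟨-, h, -⟩ | ⟨-, h, -⟩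
    · exact h
    all_goals exact absurd h hS
  obtain ⟨a1, h1⟩ := F.exists_lf H (gen 1)
  obtain ⟨a3, h3⟩ := F.exists_lf H (gen 3)
  have h13 : gen 3 * gen 1 = gen 1 * gen 3 := natL_inj (by
    rw [natL_mul, natL_mul, natL_gen, natL_gen]; decide +kernel)
  have hm := Fr.Lf.mul F H h3 h1
  rw [h13] at hm
  rcases Fr.Lf.unique F H hm (Fr.Lf.mul F H h1 h3) with hcom | hanti
  swap
  · exact absurd (F.isolated_anti H h1 h3 hanti) hni
  obtain ⟨T⟩ := F.exists_split H h1 h3 hcom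
  obtain ⟨V, hVi, hVt⟩ := T.exists_sign H
  have hne : (-1 : ℤˣ) ≠ 1 := by decide
  have htC := T.tC H
  have hinn : ∀ x ∈ Cz z, x ∈ V.ker ↔ x ∈ inn π := by
    refine fun x hx => ⟨fun h => ?_, fun h => hVi x h⟩
    by_contra ho
    have hi : x * T.t ∈ inn π := (H.outer_mul hx htC).2 ⟨fun h' => absurd h' ho, fun h' => absurd h' (T.t_out H)⟩
    have := hVi _ hi
    rw [map_mul, show V x = 1 from h, hVt, one_mul] at this
    exact hne this
  have hz0 : z ∈ V.ker := hVi z H.z_inn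
  obtain ⟨π0, P⟩ := H.exists_pre hz0 hinn
  refine ⟨V.ker, hz0, π0, hinn, P, ?_⟩
  by_contra hno
  push Not at hno
  refine hni fun g hg => ?_
  obtain ⟨g0, hg0, e⟩ : ∃ g0 ∈ V.ker, g * z * g⁻¹ = g0 * z * g0⁻¹ := by
    rcases Int.units_eq_one_or (V g) with e | e
    · exact ⟨g, e, rfl⟩
    · refine ⟨g * T.t, ?_, ?_⟩
      · rw [MonoidHom.mem_ker, map_mul, e, hVt]; rfl
      · calc g * z * g⁻¹ = g * (z * T.t) * T.t⁻¹ * g⁻¹ := by group
          _ = g * (T.t * z) * T.t⁻¹ * g⁻¹ := by rw [mem_Cz.1 htC]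
          _ = _ := by group
  rw [e] at hg ⊢
  exact congrArg Subtype.val (hno ⟨g0, hg0⟩ (mem_Cz.2 (Subtype.ext (mem_Cz.1 hg))))

variable {G : Type*} [Group G] [Finite G] {X : Type*} [Group X] [Finite X]
  {z a : G} {J : Subgroup G} {π : ↥(Cz z) →* MulAut G4}

/-- A large quotient: a conjugate of `z` of transvection type, which classifies those with root and witness. -/
theorem Big.frame (B : Big z a J π) (hH : ∀ x ∈ Cz z, x * a = a * x) {φ : ↥(Cz a) →* X} (Q : Qt a φ)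
    (hno : ¬ OddIso z a) :
    ∃ k g : G, g ∈ Cz a ∧ g * z * g⁻¹ = k ∧ k ∈ Cz z ∧ k ≠ z ∧ k ∉ J ∧
      (∃ y, Inner π y ∧ (y * y = k ∨ y * y = k * a)) ∧
      (∃ q ∈ J, q * q = z ∧ InZ z a (k * q * k⁻¹ * q⁻¹)) ∧
      ∀ y q, Inner π y → y * y ∉ J → y * y * (y * y) = 1 → q ∈ J → q * q = z →
        InZ z a (y * y * q * (y * y)⁻¹ * q⁻¹) →
        ∃ c ∈ Cz z, c * (y * y) * c⁻¹ = k ∨ c * (y * y) * c⁻¹ = k * a ∨
          c * (y * y) * c⁻¹ = z * k ∨ c * (y * y) * c⁻¹ = z * k * a := by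
  obtain ⟨ρ, H2, hcomp⟩ := B.exists_two hH Q
  have hni : ¬ ∀ g : X, g * qm a φ z * g⁻¹ ∈ Cz (qm a φ z) → g * qm a φ z * g⁻¹ = qm a φ z :=
    fun h => hno (B.odd_of_isolated Q h)
  obtain ⟨G0, hz0, π0, hinn, P, hni0⟩ := two_data H2 hni
  rcases exists_sp P with h | ⟨⟨T⟩⟩
  · obtain ⟨g, hg, hne⟩ := hni0
    exact absurd (h g hg) hne
  let z0 : G0 := ⟨qm a φ z, hz0⟩
  have hCz : ∀ {x : G0}, x ∈ Cz z0 → (x : X) ∈ Cz (qm a φ z) := fun {x} h =>
    mem_Cz.2 (congrArg Subtype.val (mem_Cz.1 h))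
  have hCz' : ∀ {x : G0}, (x : X) ∈ Cz (qm a φ z) → x ∈ Cz z0 := fun {x} h => mem_Cz.2 (Subtype.ext (mem_Cz.1 h))
  have hcz : ∀ {x : G}, x ∈ Cz z → x ∈ Hc z a := fun {x} h => Subgroup.mem_inf.2 ⟨h, mem_Cz.2 (hH x h)⟩
  -- the inner elements are those in the subgroup
  have hin : ∀ {x : G}, x ∈ Cz z → (qm a φ x ∈ G0 ↔ Inner π x) := fun {x} hx => by
    rw [hinn _ (B.qm_Hc Q (hcz hx)), H2.mem_inn, hcomp x (hcz hx)]
    exact ⟨fun ⟨_, g, e⟩ => ⟨hx, g, e⟩, fun ⟨_, g, e⟩ => ⟨B.qm_Hc Q (hcz hx), g, e⟩⟩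
  have hlift : ∀ {x : G0}, x ∈ Cz z0 → ∃ x' ∈ Cz z, qm a φ x' = x ∧ Inner π x' := fun {x} h => by
    obtain ⟨x', hx', e⟩ := B.exists_Hc Q (hCz h)
    exact ⟨x', hx'.1, e, (hin hx'.1).1 (e ▸ x.2)⟩
  have hJ0 : ∀ {x : G}, x ∈ J → qm a φ x ∈ (J.subgroupOf (Cz a)).map φ := fun {x} hx =>
    ⟨⟨x, B.JCa hx⟩, hx, by rw [qm, dif_pos (B.JCa hx)]⟩
  have hJm : ∀ {x : G}, x ∈ Cz z → qm a φ x ∈ (J.subgroupOf (Cz a)).map φ → x ∈ J := fun {x} hx h => by
    obtain ⟨⟨j, hj⟩, hjJ, e⟩ := h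
    rcases (Q.qm_eq (hcz hx).2 hj).1 (by rw [← e, qm, dif_pos hj]) with e' | e' <;> rw [e']
    exacts [hjJ, J.mul_mem hjJ B.aJ]
  set t : G0 := T.rp false false with ht
  obtain ⟨-, ⟨g0, hg0⟩, htne⟩ := (T.classes P hni0 t).2
    ⟨_, List.contains_iff_mem.1 (alist_base false).1, T.den_rp false false⟩
  have htC : t ∈ Cz z0 := T.rp_mem P false false
  obtain ⟨g, hg, hge⟩ := Q.qm_surj (g0 : X)
  have hkq : qm a φ (g * z * g⁻¹) = (t : X) := by
    rw [Q.qm_conj hg B.zCa, hge, ← hg0]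
    rfl
  have hka : g * z * g⁻¹ ∈ Cz a := mul_mem (mul_mem hg B.zCa) (inv_mem hg)
  have hk : g * z * g⁻¹ ∈ Cz z := (B.qm_Cz Q hka).1 (hkq ▸ hCz htC)
  have hkJ : g * z * g⁻¹ ∉ J := fun h => by
    have h1 : t ∈ ((J.subgroupOf (Cz a)).map φ).subgroupOf G0 := by
      rw [Subgroup.mem_subgroupOf, ← hkq]; exact hJ0 h
    have h3 := (T.el_img P 0 false (evalW (repW false))).symm.trans (P.img_Q h1)
    refine sing_facts.2.2.2.1 ?_
    have := congrArg natL h3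
    rw [natL_evalW, natL_one] at this
    simpa [repW, linW, comp_id] using this
  refine ⟨_, g, hg, rfl, hk, fun e => hkJ (by rw [e]; exact B.zJ), hkJ, ?_, ?_, ?_⟩
  · obtain ⟨y0, hy0, hy2⟩ := T.root_rp P false
    obtain ⟨y, hy, hye, hyi⟩ := hlift hy0
    refine ⟨y, hyi, (Q.qm_eq (mul_mem (hcz hy).2 (hcz hy).2) hka).1 ?_⟩
    rw [Q.qm_mul (hcz hy).2 (hcz hy).2, hye, hkq, ← Subgroup.coe_mul, hy2]
  · obtain ⟨u, hu, hqu, -⟩ := fix_witness 0 (app_zero _)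
    obtain ⟨⟨q, hqa⟩, hqJ, hqe⟩ : ((T.C.j u false : G0) : X) ∈ (J.subgroupOf (Cz a)).map φ :=
      Subgroup.mem_subgroupOf.1 (T.C.mem u false)
    have hqe' : qm a φ q = ((T.C.j u false : G0) : X) := by rw [qm, dif_pos hqa]; exact hqe
    refine ⟨q, hqJ, (B.sq q hqJ).resolve_left fun e => B.qz_ne Q ?_, ?_⟩
    · have h1 : (T.C.j u false * T.C.j u false : G0) = z0 := by rw [T.C.sq, hqu, T.C.j_z]
      have h2 := congrArg Subtype.val h1
      rw [Subgroup.coe_mul, ← hqe', ← Q.qm_mul hqa hqa, e, Q.qm_one] at h2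
      exact h2.symm
    · have h1 : t * T.C.j u false * t⁻¹ * (T.C.j u false)⁻¹ = 1 := by
        rw [mul_inv_eq_one, ht, Sp.rp, ← T.s_el, T.act, natL_evalW, sing_facts.2.2.2.2.2, hu]
      have h2 := congrArg Subtype.val h1
      simp only [Subgroup.coe_mul, Subgroup.coe_inv, OneMemClass.coe_one, ← hkq, ← hqe'] at h2
      rw [← Q.qm_conj hka hqa, ← Q.qm_inv hqa,
        ← Q.qm_mul (mul_mem (mul_mem hka hqa) (inv_mem hka)) (inv_mem hqa)] at h2
      rcases (Q.qm_eq_one (mul_mem (mul_mem (mul_mem hka hqa) (inv_mem hka)) (inv_mem hqa))).1 h2 with e | e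
      exacts [Or.inl e, Or.inr (Or.inr (Or.inl e))]
  intro y q hy hwJ hw2 hq hqq hcom
  have hwC : y * y ∈ Cz z := mul_mem hy.1 hy.1
  have hwA : y * y ∈ Cz a := mul_mem (hcz hy.1).2 (hcz hy.1).2
  set y0 : G0 := ⟨qm a φ y, (hin hy.1).2 hy⟩ with hy0d
  have hy0 : y0 ∈ Cz z0 := hCz' (B.qm_Hc Q (hcz hy.1))
  set q0 : G0 := ⟨qm a φ q, (hin (B.JC hq)).2 (B.J_inner hq)⟩ with hq0d
  have hw0 : ((y0 * y0 : G0) : X) = qm a φ (y * y) := by
    rw [Q.qm_mul (hcz hy.1).2 (hcz hy.1).2]; rfl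
  obtain ⟨v, d, hvd⟩ := T.C.surj q0 (by rw [Subgroup.mem_subgroupOf]; exact hJ0 hq)
  have hqv : qq bA v = true := by
    by_contra h
    rw [Bool.not_eq_true] at h
    refine B.qz_ne Q ?_
    have h1 : q0 * q0 = 1 := by rw [← hvd, T.C.sq, h, T.C.j_one]
    have h2 : qm a φ q * qm a φ q = 1 := congrArg Subtype.val h1
    rwa [← Q.qm_mul (B.JCa hq) (B.JCa hq), hqq] at h2
  have hwz : y0 * y0 ∈ Cz z0 := mul_mem hy0 hy0
  have hfix : app (natL (img z0 π0 (y0 * y0))) v = v := by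
    obtain ⟨d', hd'⟩ := T.C.conj _ hwz v d
    rw [natL_L T.C.M rfl] at hd'
    have h1 : y0 * y0 * q0 * (y0 * y0)⁻¹ * q0⁻¹ = 1 ∨ y0 * y0 * q0 * (y0 * y0)⁻¹ * q0⁻¹ = z0 := by
      have e1 : ((y0 * y0 * q0 * (y0 * y0)⁻¹ * q0⁻¹ : G0) : X) =
          qm a φ (y * y * q * (y * y)⁻¹ * q⁻¹) := by
        rw [Q.qm_mul (mul_mem (mul_mem hwA (B.JCa hq)) (inv_mem hwA)) (inv_mem (B.JCa hq)),
          Q.qm_conj hwA (B.JCa hq), Q.qm_inv (B.JCa hq), ← hw0]
        rfl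
      rcases hcom with e | e | e | e <;> rw [e] at e1
      · exact Or.inl (Subtype.ext (e1.trans Q.qm_one))
      · exact Or.inr (Subtype.ext e1)
      · exact Or.inl (Subtype.ext (e1.trans ((Q.qm_eq_one (B.JCa B.aJ)).2 (Or.inr rfl))))
      · refine Or.inr (Subtype.ext (e1.trans ?_))
        rw [Q.qm_mul B.zCa (B.JCa B.aJ), (Q.qm_eq_one (B.JCa B.aJ)).2 (Or.inr rfl), mul_one]
    rw [← hvd, hd', T.C.j_inv, T.C.mul] at h1
    rcases h1 with e | e
    · exact xr_eq_zero.1 (T.C.inj _ _ _ _ (e.trans T.C.j_one.symm)).1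
    · exact xr_eq_zero.1 (T.C.inj _ _ _ _ (e.trans T.C.j_z.symm)).1
  obtain ⟨b, c, hc, hce⟩ := shape_witness T P hwz (Subtype.ext (by
      rw [Subgroup.coe_mul, hw0, ← Q.qm_mul hwA hwA, hw2, Q.qm_one]; rfl))
    (fun h => hwJ (hJm hwC (by
      have := (P.img_eq_one hwz).1 h
      rwa [Subgroup.mem_subgroupOf, hw0] at this)))
    ⟨y0, hy0, rfl⟩ hfix hqv
  obtain ⟨c', hc', hce', -⟩ := hlift hc
  refine ⟨c', hc', ?_⟩
  have hca : c' * (y * y) * c'⁻¹ ∈ Cz a := mul_mem (mul_mem (hcz hc').2 hwA) (inv_mem (hcz hc').2)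
  have h3 : qm a φ (c' * (y * y) * c'⁻¹) = ((T.rp false b : G0) : X) := by
    rw [← hce, Q.qm_conj (hcz hc').2 hwA, hce', ← hw0]
    rfl
  cases b
  · rw [← ht, ← hkq] at h3
    rcases (Q.qm_eq hca hka).1 h3 with e | e
    exacts [Or.inl e, Or.inr (Or.inl e)]
  · have h4 : T.rp false true = z0 * T.rp false false := (T.z_rp false false).symm
    rw [h4, Subgroup.coe_mul, ← ht, ← hkq, show ((z0 : G0) : X) = qm a φ z from rfl, ← Q.qm_mul B.zCa hka] at h3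
    rcases (Q.qm_eq hca (mul_mem B.zCa hka)).1 h3 with e | e
    exacts [Or.inr (Or.inr (Or.inl e)), Or.inr (Or.inr (Or.inr e))]

/-- The two other central involutions are not conjugate. -/
theorem Big.a_not_za (B : Big z a J π) (hH : ∀ x ∈ Cz z, x * a = a * x) (g : G) : g * a * g⁻¹ ≠ z * a := by
  intro hg
  haveI : Fact (Nat.Prime 2) := ⟨Nat.prime_two⟩
  obtain ⟨P, hP, hJP⟩ := B.exists_sylow_Cz
  have hcen : ∀ {x : G}, InZ z a x → x ∈ Subgroup.centralizer ((P : Subgroup G) : Set G) := fun {x} h =>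
    Subgroup.mem_centralizer_iff.2 fun p hp => B.inZ_comm h
      (Subgroup.mem_inf.2 ⟨hP hp, mem_Cz.2 (hH p (hP hp))⟩)
  obtain ⟨n, hn, e⟩ := Sylow.conj_eq_normalizer_conj_of_mem_centralizer P a g⁻¹ (hcen (Or.inr (Or.inr (Or.inl rfl))))
    (by rw [inv_inv, hg]; exact hcen (Or.inr (Or.inr (Or.inr rfl))))
  rw [inv_inv, hg] at e
  have hnz : InZ z a (n⁻¹ * z * n⁻¹⁻¹) := by
    rw [inv_inv]
    have hk : ∀ p ∈ (P : Subgroup G), n⁻¹ * z * n * p = p * (n⁻¹ * z * n) := fun p hp => by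
      have h1 : n * p * n⁻¹ ∈ (P : Subgroup G) := (Subgroup.mem_normalizer_iff.1 hn p).1 hp
      calc n⁻¹ * z * n * p = n⁻¹ * (z * (n * p * n⁻¹)) * n := by group
        _ = _ := by rw [← mem_Cz.1 (hP h1)]; group
    exact B.cent_inZ (mem_Cz.2 (hk z (hJP B.zJ))) fun q hq => hk q (hJP hq)
  have h2 := B.z_unique hnz
  have hnC : n⁻¹ ∈ Cz z := mem_Cz.2 (mul_inv_eq_iff_eq_mul.1 h2)
  refine B.za_ne.2.1 (e.trans ?_)
  rw [hH _ hnC]
  group

/-- Both quotients large: impossible. -/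
theorem Big.both_big (B : Big z a J π) (hH : ∀ x ∈ Cz z, x * a = a * x) {φ : ↥(Cz a) →* X} (Q : Qt a φ)
    {Y : Type*} [Group Y] [Finite Y] {ψ : ↥(Cz (z * a)) →* Y} (Q' : Qt (z * a) ψ)
    (hA : ¬ OddIso z a) (hZ : ¬ OddIso z (z * a)) : False := by
  have hH' : ∀ x ∈ Cz z, x * (z * a) = z * a * x := fun x hx => by
    rw [← mul_assoc, mem_Cz.1 hx, mul_assoc, hH x hx, mul_assoc]
  obtain ⟨k, g, hg, hgk, hk, hkne, -, -, -, hcl⟩ := B.frame hH Q hA
  obtain ⟨k', g', hg', hgk', hk', hkne', hkJ', ⟨y, hy, hyk⟩, ⟨q, hq, hqq, hcom⟩, -⟩ := B.swap.frame hH' Q' hZ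
  have hza : ∀ {x : G}, x ∈ Cz z → Commute (z * a) x := fun {x} hx => (hH' x hx).symm
  have k2 : k' * k' = 1 := hgk' ▸ B.conj_sq g'
  have hw : y * y * (y * y) = 1 ∧ y * y ∉ J ∧ InZ z a (y * y * q * (y * y)⁻¹ * q⁻¹) ∧
      (y * y = k' ∨ y * y = k' * (z * a)) := by
    have hcom' : InZ z a (k' * q * k'⁻¹ * q⁻¹) := by
      rcases hcom with e | e | e | e
      exacts [Or.inl e, Or.inr (Or.inl e), Or.inr (Or.inr (Or.inr e)),
        Or.inr (Or.inr (Or.inl (by rw [e, ← mul_assoc, B.zz, one_mul])))]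
    rcases hyk with e | e <;> rw [e]
    · exact ⟨k2, hkJ', hcom', Or.inl rfl⟩
    · refine ⟨?_, fun h => hkJ' ?_, ?_, Or.inr rfl⟩
      · rw [show k' * (z * a) * (k' * (z * a)) = k' * ((z * a) * k') * (z * a) by group, (hza hk').eq,
          show k' * (k' * (z * a)) * (z * a) = k' * k' * ((z * a) * (z * a)) by group, k2, B.zaza, one_mul]
      · have := J.mul_mem h (J.inv_mem (J.mul_mem B.zJ B.aJ))
        rwa [mul_inv_cancel_right] at this
      · rw [show k' * (z * a) * q * (k' * (z * a))⁻¹ * q⁻¹ = k' * ((z * a) * q * (z * a)⁻¹) * k'⁻¹ * q⁻¹ by group,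
          (hza (B.JC hq)).eq, show k' * (q * (z * a) * (z * a)⁻¹) * k'⁻¹ * q⁻¹ = k' * q * k'⁻¹ * q⁻¹ by group]
        exact hcom'
  obtain ⟨hw2, hwJ, hwc, hwk⟩ := hw
  obtain ⟨c, hc, he⟩ := hcl y q hy hwJ hw2 hq hqq hwc
  -- move the second conjugate by `c`
  have hzak : z * a * k = k * (z * a) := (hza hk).eq
  have hcase : c * k' * c⁻¹ = k ∨ c * k' * c⁻¹ = k * a ∨ c * k' * c⁻¹ = z * k ∨ c * k' * c⁻¹ = z * k * a := by
    rcases hwk with e | e <;> rw [e] at he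
    · exact he
    have hm : c * (k' * (z * a)) * c⁻¹ = c * k' * c⁻¹ * (z * a) := by
      calc c * (k' * (z * a)) * c⁻¹ = c * k' * ((z * a) * c⁻¹) := by group
        _ = _ := by rw [(hza (inv_mem hc)).eq]; group
    rw [hm] at he
    have hmv : ∀ {u v : G}, u * (z * a) = v → u = v * (z * a) := fun {u v} h => by
      rw [← h, mul_assoc, B.zaza, mul_one]
    have kz : k * z = z * k := mem_Cz.1 hk
    have ka : k * a = a * k := hH k hk
    rcases he with e1 | e1 | e1 | e1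
    · exact Or.inr (Or.inr (Or.inr (by rw [hmv e1, ← mul_assoc, kz])))
    · exact Or.inr (Or.inr (Or.inl (by
        rw [hmv e1, show k * a * (z * a) = k * (a * z) * a by group, ← B.za,
          show k * (z * a) * a = k * z * (a * a) by group, B.aa, mul_one, kz])))
    · exact Or.inr (Or.inl (by
        rw [hmv e1, show z * k * (z * a) = z * (k * z) * a by group, kz, ← mul_assoc, B.zz, one_mul]))
    · exact Or.inl (by
        rw [hmv e1, show z * k * a * (z * a) = z * k * (a * z) * a by group, ← B.za,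
          show z * k * (z * a) * a = z * (k * z) * (a * a) by group, B.aa, kz, mul_one, ← mul_assoc, B.zz,
          one_mul])
  have hcg : c * g' ∈ Cz (z * a) := mul_mem (mem_Cz.2 (hH' c hc)) hg'
  have hcgk : c * g' * z * (c * g')⁻¹ = c * k' * c⁻¹ := by rw [← hgk']; group
  have hga : g * a * g⁻¹ = a := by rw [mem_Cz.1 hg]; group
  have hgza : g * (z * a) * g⁻¹ = k * a := by
    calc g * (z * a) * g⁻¹ = g * z * g⁻¹ * (g * a * g⁻¹) := by group
      _ = _ := by rw [hgk, hga]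
  have hgz' : (c * g') * (z * a) * (c * g')⁻¹ = z * a := by rw [mem_Cz.1 hcg]; group
  have hga' : (c * g') * a * (c * g')⁻¹ = c * k' * c⁻¹ * (z * a) := by
    calc (c * g') * a * (c * g')⁻¹ = (c * g') * z * (c * g')⁻¹ * ((c * g') * (z * a) * (c * g')⁻¹) := by
          rw [show (c * g') * z * (c * g')⁻¹ * ((c * g') * (z * a) * (c * g')⁻¹) =
            (c * g') * ((z * z) * a) * (c * g')⁻¹ by group, B.zz, one_mul]
      _ = _ := by rw [hcgk, hgz']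
  set p := c * g'
  rcases hcase with e | e | e | e
  · have hC : p⁻¹ * g ∈ Cz z := mem_Cz.2 (by
      calc p⁻¹ * g * z = p⁻¹ * (g * z * g⁻¹) * g := by group
        _ = p⁻¹ * (p * z * p⁻¹) * g := by rw [hgk, hcgk, e]
        _ = _ := by group)
    have hgA : g ∈ Cz (z * a) := by
      rw [show g = p * (p⁻¹ * g) by group]
      exact mul_mem hcg (mem_Cz.2 (hH' _ hC))
    refine hkne ?_
    have h1 : g * (z * a) * g⁻¹ = z * a := by rw [mem_Cz.1 hgA]; group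
    rw [hgza] at h1
    exact mul_right_cancel h1
  · refine B.not_conj' (g⁻¹ * p) ?_
    rw [e] at hcgk
    calc g⁻¹ * p * z * (g⁻¹ * p)⁻¹ = g⁻¹ * (p * z * p⁻¹) * g := by group
      _ = z * a := by rw [hcgk, ← hgza]; group
  · refine B.a_not_za hH (g⁻¹ * p) ?_
    rw [e, show z * k * (z * a) = z * (k * z) * a by group, mem_Cz.1 hk, ← mul_assoc, B.zz, one_mul] at hga'
    calc g⁻¹ * p * a * (g⁻¹ * p)⁻¹ = g⁻¹ * (p * a * p⁻¹) * g := by group
      _ = z * a := by rw [hga', ← hgza]; group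
  · refine B.not_conj (p⁻¹ * g) ?_
    rw [e, show z * k * a * (z * a) = z * k * (a * z) * a by group, ← B.za,
      show z * k * (z * a) * a = z * (k * z) * (a * a) by group, B.aa, mem_Cz.1 hk, mul_one, ← mul_assoc, B.zz,
      one_mul] at hga'
    calc p⁻¹ * g * z * (p⁻¹ * g)⁻¹ = p⁻¹ * (g * z * g⁻¹) * p := by group
      _ = a := by rw [hgk, ← hga']; group

end CfsgLib.FiTwoType
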