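import Cfsg.Agent.Lib.FiTwoType.Fusion
import Cfsg.Agent.Lib.Fi22USix.Main

/-!
One quotient split, the other with `z` isolated: the second involution is central.
-/

set_option autoImplicit false
set_option linter.unusedSectionVars false
set_option linter.style.haveILetI false
set_option maxRecDepth 100000

open Cfsg CfsgLib.Extraspecial CfsgLib.USixType CfsgLib.USixTwo
open CfsgLib.HePres (K4)

namespace CfsgLib.FiTwoType

/-- `U₆(2)` is simple and not abelian. -/
theorem psu6_simple :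
    IsSimpleGroup (Cfsg.PSU 6 K4 2) ∧ Subgroup.center (Cfsg.PSU 6 K4 2) = ⊥ := by
  haveI : CharP K4 2 := CharTwo.of_one_ne_zero_of_two_eq_zero one_ne_zero K4.two_eq_zero
  obtain ⟨K⟩ := CfsgLib.Classical.Herm.exists_conj_of_card (F := K4) (q := 2) (by rw [K4.card_eq]; norm_num)
  exact ⟨CfsgLib.Classical.Herm.isSimpleGroup K 2 (n := 6) (by norm_num) (by norm_num), CfsgLib.Fi22USix.psu_center⟩

/-- An involution fixing only the identity of an odd group inverts it. -/
theorem invert_of_fpf {G : Type*} [Group G] [Finite G] {O : Subgroup G} {t : G} (ht : t * t = 1)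
    (hn : ∀ o ∈ O, t * o * t ∈ O) (hfix : ∀ o ∈ O, t * o = o * t → o = 1) {o : G} (ho : o ∈ O) :
    t * o * t = o⁻¹ := by
  let f : O → O := fun x => ⟨(x : G)⁻¹ * (t * x * t), O.mul_mem (O.inv_mem x.2) (hn x x.2)⟩
  have hf : Function.Injective f := fun x y e => by
    have e' : (x : G)⁻¹ * (t * x * t) = (y : G)⁻¹ * (t * y * t) := congrArg Subtype.val e
    have ti : t⁻¹ = t := inv_eq_of_mul_eq_one_right ht
    have h1 : t * ((y : G) * (x : G)⁻¹) = (y : G) * (x : G)⁻¹ * t := by
      calc t * ((y : G) * (x : G)⁻¹) = t * y * t * (t * (x : G)⁻¹ * t) * t := by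
            rw [show t * y * t * (t * (x : G)⁻¹ * t) * t = t * y * (t * t) * (x : G)⁻¹ * (t * t) by group, ht,
              mul_one, mul_one, mul_assoc]
        _ = (y : G) * ((x : G)⁻¹ * (t * x * t)) * (t * (x : G)⁻¹ * t) * t := by rw [e']; group
        _ = (y : G) * (x : G)⁻¹ * (t * x * (t * t) * (x : G)⁻¹ * t) * t := by group
        _ = (y : G) * (x : G)⁻¹ * t := by rw [ht, mul_one, mul_inv_cancel_right, ht, mul_one]
    have h2 := hfix _ (O.mul_mem y.2 (O.inv_mem x.2)) h1
    exact Subtype.ext (mul_inv_eq_one.1 h2).symm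
  obtain ⟨x, hx⟩ := Finite.surjective_of_injective hf ⟨o, ho⟩
  rw [← show (x : G)⁻¹ * (t * x * t) = o from congrArg Subtype.val hx]
  rw [mul_inv_rev, inv_inv, mul_inv_rev, mul_inv_rev, inv_eq_of_mul_eq_one_right ht]
  calc t * ((x : G)⁻¹ * (t * x * t)) * t = t * (x : G)⁻¹ * (t * x * (t * t)) := by group
    _ = _ := by rw [ht, mul_one]; group

/-- A normal subgroup meeting a self-centralising simple normal subgroup trivially is trivial. -/
theorem simple_le {X : Type*} [Group X] {G0 M : Subgroup X} [G0.Normal] [M.Normal] [IsSimpleGroup ↥G0]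
    (hc : Subgroup.centralizer (G0 : Set X) = ⊥) : M = ⊥ ∨ G0 ≤ M := by
  rcases (Subgroup.Normal.subgroupOf (‹M.Normal›) G0).eq_bot_or_eq_top with h | h
  · left
    rw [eq_bot_iff, ← hc]
    intro m hm
    rw [Subgroup.mem_centralizer_iff]
    intro y hy
    have hd : Disjoint G0 M := disjoint_iff.2 (by rw [inf_comm]; exact disjoint_iff.1 (Subgroup.subgroupOf_eq_bot.1 h))
    exact (Subgroup.commute_of_normal_of_disjoint G0 M inferInstance inferInstance hd y m hy hm).eq
  · exact Or.inr (Subgroup.subgroupOf_eq_top.1 h)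

variable {G : Type*} [Group G] [Finite G] {X : Type*} [Group X] [Finite X]
  {z a : G} {J : Subgroup G} {π : ↥(Cz z) →* MulAut G4}
  {β : V8 → V8 → Bool} {S : Fin 5 → Lin} {σ : Lin}

/-- The second involution is central, the quotient being `U₆(2).2`. -/
theorem Crd.central (C : Crd z a J π β S σ) (B : Big z a J π) (hH : ∀ x ∈ Cz z, x * a = a * x)
    (hZ : OddIso z (z * a)) {φ : ↥(Cz a) →* X} (Q : Qt a φ) (hS : Split6 a φ) :
    Cz a = ⊤ ∧ ∃ (G0 : Subgroup G) (f : ↥G0 →* Cfsg.PSU 6 K4 2), G0.index = 2 ∧ a ∈ G0 ∧ Function.Surjective f ∧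
      ∀ x, f x = 1 ↔ (x : G) = 1 ∨ (x : G) = a := by
  obtain ⟨G0, hidx, ⟨e6⟩, hc⟩ := hS
  obtain ⟨hsimp, hcen⟩ := psu6_simple
  haveI : G0.Normal := Subgroup.normal_of_index_eq_two hidx
  haveI : IsSimpleGroup ↥G0 := by
    haveI := hsimp
    haveI := e6.toEquiv.nontrivial
    exact IsSimpleGroup.isSimpleGroup_of_surjective e6.symm.toMonoidHom e6.symm.surjective
  have hiso := C.a_isolated B hH hZ
  have hsup := sup_oddCore_of_isolated B.ha hiso
  set O := oddCore G with hO
  haveI hn : O.Normal := Transfer.pPrimeCore_normal 2 G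
  have hcop : (Nat.card O).Coprime 2 := Transfer.pPrimeCore_coprime 2
  have hodd : ∀ {x : G}, x ∈ O → Odd (orderOf x) := fun {x} hx => by
    rw [← Nat.not_even_iff_odd, even_iff_two_dvd]
    intro h
    have h2 : 2 ∣ Nat.card O := h.trans ((Subgroup.orderOf_mk x hx).symm ▸ orderOf_dvd_natCard (⟨x, hx⟩ : O))
    have := Nat.dvd_gcd h2 (dvd_refl 2)
    rw [hcop.gcd_eq_one] at this
    exact absurd this (by norm_num)
  -- no fixed points of `z`
  have hOz : ∀ o ∈ O, z * o = o * z → o = 1 := fun o ho hzo => by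
    have hoC : o ∈ Cz z := mem_Cz.2 hzo.symm
    refine B.odd_cent hoC (hodd ho) fun y hy => ?_
    have h1 : y * o * y⁻¹ * o⁻¹ ∈ O := O.mul_mem (hn.conj_mem o ho y) (O.inv_mem ho)
    have h2 : y * o * y⁻¹ * o⁻¹ ∈ J := by
      rw [show y * o * y⁻¹ * o⁻¹ = y * (o * y⁻¹ * o⁻¹) by group]
      exact J.mul_mem hy (B.conjJ hoC (J.inv_mem hy))
    obtain ⟨n, hn2⟩ := B.two_J ⟨_, h2⟩
    exact mul_inv_eq_iff_eq_mul.1 (mul_inv_eq_one.1 (odd_two_pow (hodd h1) (congrArg Subtype.val hn2)))
  -- the centraliser of `a` in `O`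
  have hG0 : 2 ∣ Nat.card G0 := by
    have h512 : 512 ∣ Nat.card X := B.card_image Q ▸ Subgroup.card_subgroup_dvd_card _
    rw [← G0.card_mul_index, hidx] at h512
    exact (show 2 ∣ 256 by norm_num).trans (Nat.dvd_of_mul_dvd_mul_right (by norm_num : 0 < 2) (by simpa using h512))
  have hOa : ∀ o ∈ O, a * o = o * a → o = 1 := fun o ho hao => by
    set M := (O.subgroupOf (Cz a)).map φ with hM
    haveI : M.Normal := (Subgroup.Normal.subgroupOf hn _).map φ Q.surj
    have hMc : Nat.card M ∣ Nat.card O := by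
      refine (Subgroup.card_map_dvd _ φ).trans ?_
      rw [show Nat.card ↥(O.subgroupOf (Cz a)) = Nat.card ↥((O ⊓ Cz a).subgroupOf (Cz a)) by
          rw [Subgroup.inf_subgroupOf_right],
        Nat.card_congr (Subgroup.subgroupOfEquivOfLe inf_le_right).toEquiv]
      exact Subgroup.card_dvd_of_le inf_le_left
    rcases simple_le (M := M) hc with h | h
    · have h1 : φ ⟨o, mem_Cz.2 hao.symm⟩ ∈ M := ⟨_, ho, rfl⟩
      rw [h, Subgroup.mem_bot, Q.ker] at h1
      refine h1.resolve_right fun e => ?_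
      have := hodd ho
      rw [show o = a from e, B.ha] at this
      exact absurd this (by decide)
    · have := Nat.dvd_gcd (hG0.trans ((Subgroup.card_dvd_of_le h).trans hMc)) (dvd_refl 2)
      rw [hcop.gcd_eq_one] at this
      exact absurd this (by norm_num)
  -- both invert, their product centralises
  have hzn : ∀ {t : G}, t * t = 1 → ∀ o ∈ O, t * o * t ∈ O := fun {t} ht o ho => by
    have := hn.conj_mem o ho t
    rwa [inv_eq_of_mul_eq_one_right ht] at this
  have hzaO : ∀ o ∈ O, z * a * o = o * (z * a) := fun o ho => by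
    have h1 := invert_of_fpf B.aa (hzn B.aa) hOa ho
    have h2 := invert_of_fpf B.zz (hzn B.zz) hOz (O.inv_mem ho)
    rw [← h1] at h2
    calc z * a * o = z * (a * o * a) * z * (z * a) := by
          rw [show z * (a * o * a) * z * (z * a) = z * (a * o * a) * (z * z) * a by group, B.zz, mul_one,
            show z * (a * o * a) * a = z * (a * o) * (a * a) by group, B.aa, mul_one, mul_assoc]
      _ = _ := by rw [h2, h1, inv_inv]
  -- the kernel of the action
  have hOb : O = ⊥ := (Subgroup.eq_bot_iff_forall _).2 fun o ho => by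
    set K0 := Subgroup.centralizer (O : Set G) with hK0
    set M := (K0.subgroupOf (Cz a)).map φ with hM
    haveI : K0.Normal := Subgroup.normal_centralizer
    haveI : M.Normal := (Subgroup.Normal.subgroupOf ‹K0.Normal› _).map φ Q.surj
    have hzaK : z * a ∈ K0 := Subgroup.mem_centralizer_iff.2 fun p hp => (hzaO p hp).symm
    have hMne : M ≠ ⊥ := fun h => by
      have h1 : φ ⟨z * a, B.JCa (J.mul_mem B.zJ B.aJ)⟩ ∈ M := ⟨_, hzaK, rfl⟩
      rw [h, Subgroup.mem_bot, Q.ker] at h1
      exact h1.elim B.za_ne.2.2 B.za_ne.2.1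
    have hle := (simple_le hc).resolve_left hMne
    set D : Subgroup G := ((G0.comap φ).map (Cz a).subtype) ⊓ J with hD
    have hD2 : D.relIndex J ≤ 2 := by
      rw [hD, Subgroup.inf_relIndex_right]
      have h2 : ((G0.comap φ).map (Cz a).subtype).relIndex (Cz a) = 2 := by
        rw [Subgroup.relIndex, Subgroup.subgroupOf,
          Subgroup.comap_map_eq_self_of_injective (Cz a).subtype_injective,
          Subgroup.index_comap_of_surjective _ Q.surj, hidx]
      exact (Subgroup.relIndex_le_of_le_right (fun y hy => B.JCa hy) (by rw [h2]; norm_num)).trans h2.le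
    obtain ⟨x, hx, y, hy, e⟩ := B.not_abelian inf_le_right hD2
    have hlift : ∀ w ∈ D, ∃ k ∈ K0, w = k ∨ w = k * a := fun w hw => by
      obtain ⟨⟨w', hw'⟩, hwG, rfl⟩ := (Subgroup.mem_inf.1 hw).1
      obtain ⟨⟨k, hk⟩, hkK, hke⟩ := hle hwG
      exact ⟨k, hkK, (Q.qm_eq hw' hk).1 (by rw [qm, qm, dif_pos hw', dif_pos hk, ← hke])⟩
    obtain ⟨k1, hk1, e1⟩ := hlift x hx
    obtain ⟨k2, hk2, e2⟩ := hlift y hy
    have hzK : z ∈ K0 := by
      have hcom : ∀ {w k : G}, w ∈ D → (w = k ∨ w = k * a) → k * a = a * k := fun {w k} hw h => by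
        have hwa := B.aC w (Subgroup.mem_inf.1 hw).2
        rcases h with rfl | rfl
        · exact hwa
        · rw [mul_assoc k a a, B.aa, mul_one] at hwa
          calc k * a = a * (k * a) * a := by rw [← hwa]
            _ = a * k := by rw [mul_assoc a, mul_assoc k, B.aa, mul_one]
      have c1 := hcom hx e1
      have c2 := hcom hy e2
      have hz' : k1 * k2 * k1⁻¹ * k2⁻¹ = z := by
        rw [← e]
        rcases e1 with rfl | rfl <;> rcases e2 with rfl | rfl
        · rfl
        · calc x * k2 * x⁻¹ * k2⁻¹ = x * k2 * (x⁻¹ * a) * a⁻¹ * k2⁻¹ := by group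
            _ = x * k2 * (a * x⁻¹) * a⁻¹ * k2⁻¹ := by rw [((show Commute x a from c1).inv_left).eq]
            _ = _ := by group
        · calc k1 * y * k1⁻¹ * y⁻¹ = k1 * a * (a⁻¹ * y) * k1⁻¹ * y⁻¹ := by group
            _ = k1 * a * (y * a⁻¹) * k1⁻¹ * y⁻¹ := by rw [((show Commute y a from c2).inv_right).eq]
            _ = _ := by group
        · calc k1 * k2 * k1⁻¹ * k2⁻¹ = k1 * (a * a) * k2 * (a * a)⁻¹ * k1⁻¹ * k2⁻¹ := by rw [B.aa]; group
            _ = k1 * a * (a * k2) * a⁻¹ * (a⁻¹ * k1⁻¹) * k2⁻¹ := by group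
            _ = k1 * a * (k2 * a) * a⁻¹ * (k1⁻¹ * a⁻¹) * k2⁻¹ := by
              rw [c2, ((show Commute k1 a from c1).inv_inv).eq]
            _ = _ := by group
      rw [← hz']
      exact K0.mul_mem (K0.mul_mem (K0.mul_mem hk1 hk2) (K0.inv_mem hk1)) (K0.inv_mem hk2)
    exact hOz o ho (Subgroup.mem_centralizer_iff.1 hzK o ho).symm
  rw [hOb, sup_bot_eq] at hsup
  let inc : G →* ↥(Cz a) := MonoidHom.mk' (fun x => ⟨x, hsup ▸ Subgroup.mem_top x⟩) fun _ _ => rfl
  set ψ : G →* X := φ.comp inc with hψ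
  have hψs : Function.Surjective ψ := fun w => by
    obtain ⟨⟨x, hx⟩, rfl⟩ := Q.surj w
    exact ⟨x, rfl⟩
  have hker : ∀ x, ψ x = 1 ↔ x = 1 ∨ x = a := fun x => Q.ker _
  refine ⟨hsup, G0.comap ψ, e6.toMonoidHom.comp (ψ.subgroupComap G0), ?_, ?_, ?_, fun x => ?_⟩
  · rw [Subgroup.index_comap_of_surjective _ hψs, hidx]
  · show ψ a ∈ G0
    rw [(hker a).2 (Or.inr rfl)]
    exact G0.one_mem
  · exact e6.surjective.comp fun w => by
      obtain ⟨x, hx⟩ := hψs w
      exact ⟨⟨x, by show ψ x ∈ G0; rw [hx]; exact w.2⟩, Subtype.ext hx⟩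
  · show e6 (ψ.subgroupComap G0 x) = 1 ↔ _
    rw [e6.map_eq_one_iff, ← hker, ← Subtype.coe_inj]
    rfl

end CfsgLib.FiTwoType
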