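import Cfsg.Agent.Lib.FiTwentyThreeType.Facts
import Cfsg.Agent.Lib.USixTwo.IsoB

/-!
Finite facts on the models of `U₄(2).2` acting on eight-dimensional space.
-/

set_option autoImplicit false
set_option linter.unusedSectionVars false
set_option linter.style.haveILetI false
set_option maxRecDepth 100000

open CfsgLib.USixType CfsgLib.USixTwo CfsgLib.FiTwentyThreeType
open CfsgLib.HePres (K4)

namespace CfsgLib.FiTwoType

/-! ### The second representative, knowing one product only -/

theorem four_check' : (((List.finRange 256).filter (agrees 1)).all fun a : V8 =>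
    ((List.finRange 256).filter (agrees 16)).all fun b : V8 =>
      let L := mkF a b
      let r := linW gL (repW true)
      let d := linW gL dW
      let L' := comp (comp d L) (comp d d)
      !keeps L || decide (L = idL) || decide (L = r) ||
        !((List.finRange 256).all fun v => !(app r (app L v) == v) || (app r v == v)) ||
        (decide (comp L' L = comp L L') && !decide (L' = L))) = true := by
  decide +kernel

/-! ### Large fixed spaces -/

/-- A matrix fixing many vectors has no singular vector orthogonal to all of them. -/
def bigOK (β : V8 → V8 → Bool) (L : Lin) : Bool :=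
  decide (L = idL) || !decide (comp L L = idL) ||
    (let F := (List.finRange 256).filter fun v => app L v == v
     decide (F.length < 128) || F.all fun v => decide (v = 0) || qq β v || F.any fun w => bb β v w)

theorem bigOK_all : ((sylL gL sgA).all (bigOK bA) && (sylL wL sgB0).all (bigOK bA) && (sylL wL sgB1).all (bigOK bA) &&
    (sylL wL sgB0).all (bigOK bD) && (sylL wL sgB1).all (bigOK bD)) = true := by
  decide +kernel

theorem perp_image : ∀ v : V8, ((List.finRange 256).all fun w => !(app (gL 1) w == w) || !bb bA v w) = true →
    ∃ u : V8, xr (app (gL 1) u) u = v := by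
  decide +kernel

theorem sing_hc : ∀ v : V8, qq bA v = false → hc v v = 0 := by decide +kernel

/-! ### Witnesses in the second representation -/

/-- For a representative: two fixed vectors with commuting words. -/
def witW : Bool → (V8 × List (Fin 5)) × V8 × List (Fin 5)
  | false => ((1, [2, 0, 2, 0]), 2, [2, 0, 2, 0])
  | true => ((2, [2, 3, 1, 2]), 1, [0, 2, 3, 0, 1, 2, 0, 0])

/-- Validity of the witnesses. -/
def witOK (β : V8 → V8 → Bool) (k : Bool) : Bool :=
  let r := linW wL (repW k)
  let e := witW k
  let u := xr e.1.1 (app (linW wL e.1.2) e.1.1)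
  let u' := xr e.2.1 (app (linW wL e.2.2) e.2.1)
  decide (linW gL (e.1.2 ++ repW k) = linW gL (repW k ++ e.1.2)) &&
    decide (linW gL (e.2.2 ++ repW k) = linW gL (repW k ++ e.2.2)) &&
    app r e.1.1 == e.1.1 && app r e.2.1 == e.2.1 && qq β u && qq β u' && qq β (xr u u')

theorem witOK_all : (witOK bA false && witOK bA true && witOK bD false && witOK bD true) = true := by
  decide +kernel

/-! ### Singular vectors in the second representation -/

/-- Words moving a singular vector to orthogonal ones. -/
def sixW : List (List (Fin 5)) := [[1], [3, 0], [2], [4], [0, 2], [1, 2, 0], [0], [0, 0], [2, 0]]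

/-- A singular vector outside the plane has two orthogonal images which are not orthogonal. -/
def sixOK (β : V8 → V8 → Bool) : Bool :=
  (List.finRange 256).all fun v => qq β v || planeF.contains v ||
    sixW.any fun w => sixW.any fun w' =>
      let a := app (linW wL w) v
      let c := app (linW wL w') v
      !bb β a v && !bb β c v && bb β a c

theorem sixOK_all : (sixOK bA && sixOK bD) = true := by decide +kernel

theorem plane_fix : ∀ v ∈ planeF, ∀ k, app (wL k) v = v := by decide +kernel

/-! ### The field structure -/

theorem sc_three : ∀ v : V8, app SC (app SC (app SC v)) = v := by decide +kernel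

theorem sc_sgA : ∀ v : V8, app sgA (app SC v) = app SC (app SC (app sgA v)) := by decide +kernel

theorem sc_scalar : ∀ v : V8, xr v (xr (app SC v) (app SC (app SC v))) = 0 := by decide +kernel

/-- No nonzero vector is orthogonal to every commutator. -/
theorem comm_span : ∀ u : V8,
    ((List.finRange 5).all fun k => (List.finRange 8).all fun i => !bb bA u (xr (app (gL k) (un i)) (un i))) =
      true → u = 0 := by
  decide +kernel

theorem fix_counts : (((List.finRange 256).filter fun v => app (linW gL (repW false)) v == v).length = 64 ∧
    ((List.finRange 256).filter fun v => app (linW gL (repW true)) v == v).length = 16) ∧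
    ∀ v : V8, app (linW gL (repW true)) v = v → qq bA v = false := by
  decide +kernel

/-- An element of the radical of the stabiliser of a line is moved by `dW` to a commuting one. -/
theorem four_move' (g : G4)
    (h : ∀ v, app (linW gL (repW true)) v = v → app (natL g) v = v)
    (hrg : ∀ v, app (linW gL (repW true)) (app (natL g) v) = v → app (linW gL (repW true)) v = v)
    (h1 : g ≠ 1) (h2 : g ≠ evalW (repW true)) :
    evalW dW * g * (evalW dW)⁻¹ ≠ g ∧ Commute (evalW dW * g * (evalW dW)⁻¹) g := by
  obtain ⟨t5, t10, t80, t160⟩ := four_units
  obtain ⟨s1, s4, s16, s64, s5, s80⟩ := sc_units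
  set L := natL g with hL
  have e5 : app L 5 = 5 := h 5 t5
  have e10 : app L 10 = 10 := h 10 t10
  have e80 : app L 80 = 80 := h 80 t80
  have e160 : app L 160 = 160 := h 160 t160
  have e2 : app L 2 = app SC (app L 1) := by rw [hL, sc_natL, s1]
  have e32 : app L 32 = app SC (app L 16) := by rw [hL, sc_natL, s16]
  have e4 : app L 4 = xr (app L 1) 5 := by conv_lhs => rw [show (4 : V8) = xr 1 5 from rfl, app_xr, e5]
  have e8 : app L 8 = xr (app SC (app L 1)) 10 := by
    conv_lhs => rw [show (8 : V8) = xr 2 10 from rfl, app_xr, e2, e10]
  have e64 : app L 64 = xr (app L 16) 80 := by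
    conv_lhs => rw [show (64 : V8) = xr 16 80 from rfl, app_xr, e80]
  have e128 : app L 128 = xr (app SC (app L 16)) 160 := by
    conv_lhs => rw [show (128 : V8) = xr 32 160 from rfl, app_xr, e32, e160]
  have hL' : L = mkF (app L 1) (app L 16) := lin_of_units rfl e2 e4 e8 rfl e32 e64 e128
  have hag : ∀ u, ((List.finRange 256).filter (agrees u)).contains (app L u) = true := by
    intro u
    rw [List.contains_iff_mem, List.mem_filter]
    refine ⟨List.mem_finRange _, ?_⟩
    simp only [agrees, List.all_cons, List.all_nil, Bool.and_eq_true, beq_iff_eq, Bool.and_true, qq]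
    have k : ∀ w, app L w = w → bA (app L u) w = bA u w ∧ bA w (app L u) = bA w u := fun w hw => by
      have h3 := bA_natL g u w
      have h4 := bA_natL g w u
      rw [← hL, hw] at h3 h4
      exact ⟨h3, h4⟩
    exact ⟨⟨k 5 e5, k 10 e10, k 80 e80, k 160 e160⟩, by rw [hL, bA_natL]⟩
  have hc := List.all_eq_true.1 (List.all_eq_true.1 four_check' _ (List.contains_iff_mem.1 (hag 1))) _
    (List.contains_iff_mem.1 (hag 16))
  simp only [← hL'] at hc
  have hne1 : L ≠ idL := fun e => h1 (natL_inj (e.trans natL_one.symm))
  have hne2 : L ≠ linW gL (repW true) := fun e => h2 (natL_inj (e.trans (natL_evalW _).symm))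
  have hk : keeps L = true := keeps_natL g
  have hb : ((List.finRange 256).all fun v =>
      !(app (linW gL (repW true)) (app L v) == v) || (app (linW gL (repW true)) v == v)) = true := by
    rw [List.all_eq_true]
    intro v _
    by_cases hv : app (linW gL (repW true)) (app L v) = v
    · simp [hrg v hv]
    · simp [hv]
  simp only [hk, hne1, hne2, hb, decide_false, Bool.not_true, Bool.false_or, Bool.and_eq_true,
    decide_eq_true_eq, Bool.not_eq_true', decide_eq_false_iff_not] at hc
  have hinv : natL (evalW dW)⁻¹ = comp (linW gL dW) (linW gL dW) := by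
    have e : evalW (dW ++ (dW ++ dW)) = 1 := by
      rw [show (1 : G4) = evalW [] from rfl]; exact evalW_eq dW_facts.2.1
    rw [evalW_append, evalW_append] at e
    rw [inv_eq_of_mul_eq_one_right e, natL_mul, natL_evalW]
  have hcj : natL (evalW dW * g * (evalW dW)⁻¹) =
      comp (comp (linW gL dW) L) (comp (linW gL dW) (linW gL dW)) := by
    rw [natL_mul, natL_mul, natL_evalW, hinv]
  refine ⟨fun e => hc.2 ?_, natL_inj ?_⟩
  · rw [← hcj, e]
  · rw [natL_mul _ g, natL_mul g, hcj]
    exact hc.1

end CfsgLib.FiTwoType
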