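import Cfsg.Agent.Lib.FiTwoType.Models
import Cfsg.Agent.Lib.FiTwoType.Facts

/-!
Coordinates on the radical modulo its centre.
-/

set_option autoImplicit false
set_option linter.unusedSectionVars false
set_option linter.style.haveILetI false
set_option maxRecDepth 100000

open Cfsg CfsgLib.Extraspecial CfsgLib.USixType CfsgLib.USixTwo

namespace CfsgLib.FiTwoType

/-- Vectors of the radical and the matrices of the centraliser. -/
structure Crd {G : Type*} [Group G] (z a : G) (J : Subgroup G) (π : ↥(Cz z) →* MulAut G4)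
    (β : V8 → V8 → Bool) (S : Fin 5 → Lin) (σ : Lin) where
  vec : G → V8
  kind : Kind β S σ
  bil : Bil β
  mul : ∀ x ∈ J, ∀ y ∈ J, vec (x * y) = xr (vec x) (vec y)
  surj : ∀ v, ∃ x ∈ J, vec x = v
  ker : ∀ x ∈ J, vec x = 0 → x = 1 ∨ x = z ∨ x = a ∨ x = z * a
  vz : vec z = 0
  va : vec a = 0
  sq : ∀ x ∈ J, x * x = cond (qq β (vec x)) z 1
  comm : ∀ x ∈ J, ∀ y ∈ J, x * y * x⁻¹ * y⁻¹ = cond (bb β (vec x) (vec y)) z 1
  M : Mdl S
  inner : ∀ c ∈ Cz z, ∀ g, aut z π c = MulAut.conj g → ∀ x ∈ J, vec (c * x * c⁻¹) = app (M.L g) (vec x)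
  outer : ∀ c ∈ Cz z, ∀ g, aut z π c = MulAut.conj g * al →
    ∀ x ∈ J, vec (c * x * c⁻¹) = app (comp (M.L g) σ) (vec x)

/-- The change of basis normalising the outer matrix. -/
theorem normal_form {β : V8 → V8 → Bool} {S : Fin 5 → Lin}
    (hM : (β = bA ∧ S = gL) ∨ (β = bA ∧ S = wL) ∨ (β = bD ∧ S = wL)) (M : Mdl S) {M0 : Lin}
    (hsemi : ∀ g, comp M0 (M.L g) = comp (M.L (al g)) M0) (hsq0 : comp M0 M0 = idL)
    (hq0 : ∀ v, qq β (app M0 v) = qq β v) : ∃ mu mu' σ, Kind β S σ ∧ comp mu mu' = idL ∧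
      comp mu' mu = idL ∧ (∀ k, comp mu (S k) = comp (S k) mu) ∧ (∀ i, gam β mu (un i) (un i) = false) ∧
      (∀ i k, gam β mu (un i) (un k) = gam β mu (un k) (un i)) ∧ comp mu' (comp M0 mu) = σ := by
  have unpack : ∀ {scal : List (Lin × Lin)} {targets : List Lin}, normOK β S M0 scal targets = true →
      (∀ s ∈ targets, Kind β S s) → ∃ mu mu' σ, Kind β S σ ∧ comp mu mu' = idL ∧
      comp mu' mu = idL ∧ (∀ k, comp mu (S k) = comp (S k) mu) ∧ (∀ i, gam β mu (un i) (un i) = false) ∧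
      (∀ i k, gam β mu (un i) (un k) = gam β mu (un k) (un i)) ∧ comp mu' (comp M0 mu) = σ := by
    intro scal targets h hT
    simp only [normOK, List.any_eq_true, Bool.and_eq_true, decide_eq_true_eq, List.all_eq_true,
      Bool.not_eq_true', beq_iff_eq, List.contains_iff_mem] at h
    obtain ⟨m, -, ⟨⟨⟨h1, h2⟩, h3⟩, h4⟩, h5⟩ := h
    exact ⟨m.1, m.2, _, hT _ h5, h1, h2, fun k => h3 k (List.mem_finRange k),
      fun i => (h4 i (List.mem_finRange i)).1, fun i k => (h4 i (List.mem_finRange i)).2 k (List.mem_finRange k), rfl⟩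
  have hnz : ∀ (s : Lin), comp s s = idL → app (comp s M0) 1 ≠ 0 := fun s hs h => by
    have h1 : app M0 (app s (app (comp s M0) 1)) = 1 := by
      rw [app_comp, ← app_comp s s, hs, id_app, ← app_comp, hsq0, id_app]
    rw [h, app_zero, app_zero] at h1
    exact absurd h1 (by decide)
  have hcomm : ∀ (s : Lin), comp s s = idL → (∀ g, comp s (comp (M.L (al g)) s) = M.L g) →
      ∀ k, comp (comp s M0) (S k) = comp (S k) (comp s M0) := by
    intro s hs hg k
    rw [← M.gen_eq, comp_assoc, hsemi, ← comp_assoc]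
    have h1 := congrArg (fun L => comp L s) (hg (gen k))
    simp only [comp_assoc, hs, comp_id] at h1
    rw [h1, comp_assoc]
  have back : ∀ (s : Lin), comp s s = idL → M0 = comp s (comp s M0) := fun s hs => by
    rw [← comp_assoc, hs, id_comp]
  rcases hM with ⟨rfl, rfl⟩ | hB
  · have hX := cent_A (hcomm sgA sgA_facts.1 (fun g => by
      rw [natL_L M rfl, natL_L M rfl]; exact conjA_L g)) (hnz sgA sgA_facts.1)
    have hmem : comp sgA M0 ∈ [idL, omL, comp omL omL] := by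
      rcases hX with e | e | e <;> rw [e] <;> simp
    have h := normA _ hmem
    rw [← back sgA sgA_facts.1] at h
    exact unpack h fun s hs => Or.inl ⟨rfl, rfl, List.mem_singleton.1 hs⟩
  · have hS : S = wL := by rcases hB with ⟨-, h⟩ | ⟨-, h⟩ <;> exact h
    subst hS
    have hs0 : comp sgB0 sgB0 = idL := (sg_facts sgB0 (by simp)).1
    obtain ⟨h6, hp, hq⟩ := cent_W (hcomm sgB0 hs0 (Mdl.al_conj M hs0 (sg_facts sgB0 (by simp)).2)) (hnz sgB0 hs0)
    set X := comp sgB0 M0 with hX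
    have hXe : X = planeL (app X 64) (app X 128) := lin_ext_un fun i => by
      fin_cases i
      · rw [app_un (planeL _ _)]; exact h6 0
      · rw [app_un (planeL _ _)]; exact h6 1
      · rw [app_un (planeL _ _)]; exact h6 2
      · rw [app_un (planeL _ _)]; exact h6 3
      · rw [app_un (planeL _ _)]; exact h6 4
      · rw [app_un (planeL _ _)]; exact h6 5
      · rw [app_un (planeL _ _)]; rfl
      · rw [app_un (planeL _ _)]; rfl
    have hM0 : M0 = comp sgB0 (planeL (app X 64) (app X 128)) := by rw [← hXe]; exact back sgB0 hs0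
    have hfixp : ∀ v ∈ planeF, app sgB0 v = v := by decide +kernel
    have hqp : ∀ v, (v = 64 ∨ v = 128) → qq β (app X v) = qq β v := fun v hv => by
      have hmem : app X v ∈ planeF := by rcases hv with rfl | rfl <;> assumption
      have e : app M0 v = app X v := by
        conv_lhs => rw [back sgB0 hs0, ← hX, app_comp, hfixp _ hmem]
      rw [← e, hq0]
    have hsq : comp (comp sgB0 (planeL (app X 64) (app X 128))) (comp sgB0 (planeL (app X 64) (app X 128))) = idL := by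
      rw [← hM0, hsq0]
    rcases hB with ⟨rfl, -⟩ | ⟨rfl, -⟩
    · have h := (normB _ hp _ hq).1 hsq ((hqp 64 (Or.inl rfl)).trans (by decide +kernel))
        ((hqp 128 (Or.inr rfl)).trans (by decide +kernel))
      rw [← hM0] at h
      refine unpack h fun s hs => ?_
      simp only [List.mem_cons, List.not_mem_nil, or_false] at hs
      rcases hs with rfl | rfl
      · exact Or.inr (Or.inl ⟨rfl, rfl, rfl⟩)
      · exact Or.inr (Or.inr (Or.inl ⟨rfl, rfl, rfl⟩))
    · have h := (normB _ hp _ hq).2 hsq (hqp 64 (Or.inl rfl)) (hqp 128 (Or.inr rfl))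
      rw [← hM0] at h
      refine unpack h fun s hs => ?_
      simp only [List.mem_cons, List.not_mem_nil, or_false] at hs
      rcases hs with rfl | rfl
      · exact Or.inr (Or.inr (Or.inr (Or.inl ⟨rfl, rfl, rfl⟩)))
      · exact Or.inr (Or.inr (Or.inr (Or.inr ⟨rfl, rfl, rfl⟩)))

namespace Big

variable {G : Type*} [Group G] [Finite G] {z a : G} {J : Subgroup G} {π : ↥(Cz z) →* MulAut G4}
  (B : Big z a J π)
include B

set_option maxHeartbeats 1000000 in
theorem exists_crd : ∃ (β : V8 → V8 → Bool) (S : Fin 5 → Lin) (σ : Lin), Nonempty (Crd z a J π β S σ) := by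
  classical
  obtain ⟨hn, φ, Q⟩ := exists_qt a B.aa
  obtain ⟨ρ, hk, hc⟩ := B.exists_map Q
  set J' := (J.subgroupOf (Cz a)).map φ with hJ'
  have hJm : ∀ x ∈ J, qm a φ x ∈ J' := fun x hx =>
    ⟨⟨x, B.JCa hx⟩, hx, by rw [qm, dif_pos (B.JCa hx)]⟩
  have hJC : ∀ x ∈ J, x ∈ Hc z a := fun x hx => B.JH hx
  have hKmem : ∀ {x : G}, x ∈ Hc z a → ∀ g, aut z π x = MulAut.conj g → qm a φ x ∈ inn ρ := fun {x} hx g hg => by
    have h := hc x hx
    rw [aut, dif_pos (B.qm_Hc Q hx), hg] at h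
    exact ⟨⟨_, B.qm_Hc Q hx⟩, ⟨g, h.symm⟩, rfl⟩
  have hQK : J' ≤ inn ρ := by
    rintro _ ⟨⟨x, hx⟩, hxJ, rfl⟩
    have := hKmem (hJC x hxJ) 1 (by rw [map_one]; exact B.aut_J hxJ)
    simpa only [qm, dif_pos hx] using this
  have hzK : qm a φ z ∈ inn ρ := hQK (hJm z B.zJ)
  obtain ⟨π0, P, hπ0⟩ := exists_pre_sub (B.setting Q) (B.card_image Q) hk hQK hzK (fun w hw _ => by
      obtain ⟨⟨w', hw'⟩, ⟨g, hg⟩, rfl⟩ := hw
      exact ⟨g, by show aut _ ρ w' = _; rw [aut, dif_pos hw']; exact hg.symm⟩) (fun g => by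
      obtain ⟨c, hcH, e⟩ := B.lift_Hc g
      exact ⟨_, hKmem hcH g e, B.qm_Hc Q hcH, (hc c hcH).trans e⟩)
  obtain ⟨β, S, hM, ⟨C⟩⟩ := P.exists_co
  have hj : ∀ v b, ∃ x ∈ J, qm a φ x = ((C.j v b : ↥(inn ρ)) : _) := by
    intro v b
    obtain ⟨⟨x, hx⟩, hxJ, e⟩ := C.mem v b
    exact ⟨x, hxJ, by rw [qm, dif_pos hx]; exact e⟩
  have hv : ∀ x ∈ J, ∃ v b, ((C.j v b : ↥(inn ρ)) : _) = qm a φ x := fun x hx => by
    obtain ⟨v, b, e⟩ := C.surj ⟨_, hQK (hJm x hx)⟩ (hJm x hx)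
    exact ⟨v, b, congrArg Subtype.val e⟩
  let vec0 : G → V8 := fun x => if h : x ∈ J then (hv x h).choose else 0
  have hspec : ∀ x ∈ J, ∃ b, ((C.j (vec0 x) b : ↥(inn ρ)) : _) = qm a φ x := fun x hx => by
    simp only [vec0, dif_pos hx]
    exact (hv x hx).choose_spec
  have huniq : ∀ x ∈ J, ∀ v b, ((C.j v b : ↥(inn ρ)) : _) = qm a φ x → vec0 x = v := fun x hx v b e => by
    obtain ⟨b', e'⟩ := hspec x hx
    exact (C.inj _ _ _ _ (Subtype.ext (e'.trans e.symm))).1
  have hmul : ∀ x ∈ J, ∀ y ∈ J, vec0 (x * y) = xr (vec0 x) (vec0 y) := fun x hx y hy => by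
    obtain ⟨b, e⟩ := hspec x hx
    obtain ⟨d, e'⟩ := hspec y hy
    refine huniq _ (J.mul_mem hx hy) _ ((b ^^ d) ^^ β (vec0 x) (vec0 y)) ?_
    rw [← C.mul, Q.qm_mul (B.JCa hx) (B.JCa hy), ← e, ← e']
    rfl
  have hsurj : ∀ v, ∃ x ∈ J, vec0 x = v := fun v => by
    obtain ⟨x, hx, e⟩ := hj v false
    exact ⟨x, hx, huniq x hx v false e.symm⟩
  have hker : ∀ x ∈ J, vec0 x = 0 → x = 1 ∨ x = z ∨ x = a ∨ x = z * a := fun x hx h0 => by
    obtain ⟨b, e⟩ := hspec x hx
    rw [h0] at e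
    rcases C.eq_one_or_z b with e1 | e1 <;> rw [e1] at e
    · rcases (Q.qm_eq_one (B.JCa hx)).1 e.symm with h | h
      exacts [Or.inl h, Or.inr (Or.inr (Or.inl h))]
    · rcases (Q.qm_eq (B.JCa hx) B.zCa).1 e.symm with h | h
      exacts [Or.inr (Or.inl h), Or.inr (Or.inr (Or.inr h))]
  have hzero : vec0 1 = 0 := by
    refine huniq 1 J.one_mem 0 false ?_
    rw [Q.qm_one, C.j_one]; rfl
  have hvz : vec0 z = 0 := huniq z B.zJ 0 true (by rw [C.j_z])
  have hva : vec0 a = 0 := huniq a B.aJ 0 false (by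
    rw [C.j_one, (Q.qm_eq_one (B.JCa B.aJ)).2 (Or.inr rfl)]; rfl)
  have hzero' : ∀ {w : G} {c : Bool}, (w = 1 ∨ w = z) → qm a φ w = ((C.j 0 c : ↥(inn ρ)) : _) → w = cond c z 1 := by
    intro w c hw e
    cases c
    · rw [C.j_one] at e
      rcases hw with h | h
      · exact h
      · exact absurd (h ▸ e) (B.qz_ne Q)
    · rw [C.j_z] at e
      rcases hw with h | h
      · exact absurd ((h ▸ e).symm.trans Q.qm_one) (B.qz_ne Q)
      · exact h
  have hsq : ∀ x ∈ J, x * x = cond (qq β (vec0 x)) z 1 := fun x hx => by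
    obtain ⟨b, e⟩ := hspec x hx
    refine hzero' (B.sq x hx) ?_
    rw [Q.qm_mul (B.JCa hx) (B.JCa hx), ← e, ← C.sq (vec0 x) b]
    rfl
  have hcomm : ∀ x ∈ J, ∀ y ∈ J, x * y * x⁻¹ * y⁻¹ = cond (bb β (vec0 x) (vec0 y)) z 1 := fun x hx y hy => by
    obtain ⟨b, e⟩ := hspec x hx
    obtain ⟨d, e'⟩ := hspec y hy
    have hz1 : z ≠ 1 := B.zne
    have key : x * y = y * x ↔ bb β (vec0 x) (vec0 y) = false := by
      rw [← C.comm_iff (vec0 x) (vec0 y) b d, ← Subtype.coe_inj, Subgroup.coe_mul, Subgroup.coe_mul, e, e',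
        ← Q.qm_mul (B.JCa hx) (B.JCa hy), ← Q.qm_mul (B.JCa hy) (B.JCa hx),
        Q.qm_eq ((Cz a).mul_mem (B.JCa hx) (B.JCa hy)) ((Cz a).mul_mem (B.JCa hy) (B.JCa hx))]
      refine ⟨Or.inl, fun h => h.resolve_right fun e2 => ?_⟩
      have e3 : x * y * x⁻¹ * y⁻¹ = a := by
        calc x * y * x⁻¹ * y⁻¹ = y * x * (a * x⁻¹) * y⁻¹ := by rw [e2]; group
          _ = y * (a * y⁻¹) := by rw [((show Commute a x from (B.aC x hx).symm).inv_right).eq]; group
          _ = _ := by rw [← mul_assoc, B.aC y hy, mul_inv_cancel_right]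
      rcases B.comm x hx y hy with h2 | h2 <;> rw [e3] at h2
      exacts [B.ane h2, B.haz h2]
    cases hb : bb β (vec0 x) (vec0 y)
    · show x * y * x⁻¹ * y⁻¹ = 1
      rw [key.2 hb]; group
    · refine (B.comm x hx y hy).resolve_left fun h => ?_
      have : x * y = y * x := by
        calc x * y = x * y * x⁻¹ * y⁻¹ * (y * x) := by group
          _ = _ := by rw [h, one_mul]
      rw [key.1 this] at hb
      exact Bool.noConfusion hb
  have hinner : ∀ c ∈ Cz z, ∀ g, aut z π c = MulAut.conj g → ∀ x ∈ J,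
      vec0 (c * x * c⁻¹) = app (C.M.L g) (vec0 x) := fun c hcC g hg x hx => by
    have hcH : c ∈ Hc z a := Subgroup.mem_inf.2 ⟨hcC, mem_Cz.2 (B.inner_fix hcC hg)⟩
    set k : ↥(inn ρ) := ⟨qm a φ c, hKmem hcH g hg⟩
    have hkC : k ∈ Cz (⟨qm a φ z, hzK⟩ : ↥(inn ρ)) := mem_Cz.2 (Subtype.ext (mem_Cz.1 (B.qm_Hc Q hcH)))
    have himg : img _ π0 k = g := conj_inj ((hπ0 k hkC).symm.trans ((hc c hcH).trans hg))
    obtain ⟨b, e⟩ := hspec x hx
    obtain ⟨d, hd⟩ := C.conj k hkC (vec0 x) b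
    refine huniq _ (B.conjJ hcC hx) _ d ?_
    rw [Q.qm_conj hcH.2 (B.JCa hx), ← e]
    rw [himg] at hd
    exact (congrArg Subtype.val hd).symm
  -- the outer element
  obtain ⟨e0, he0, ha0⟩ := B.lift al
  choose lf hlfJ hlf using hsurj
  have hwd : ∀ {c : G}, c ∈ Cz z → ∀ x ∈ J, ∀ y ∈ J, vec0 x = vec0 y → vec0 (c * x * c⁻¹) = vec0 (c * y * c⁻¹) := by
    intro c hcC x hx y hy e
    have hw : x * y⁻¹ ∈ J := J.mul_mem hx (J.inv_mem hy)
    have h0 : vec0 (x * y⁻¹) = 0 := by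
      have := hmul (x * y⁻¹) hw y hy
      rw [inv_mul_cancel_right, ← e] at this
      exact xr_left_cancel (a := vec0 x) (by rw [xr_zero, xr_comm]; exact this.symm)
    have hwz : c * (x * y⁻¹) * c⁻¹ ∈ J ∧ vec0 (c * (x * y⁻¹) * c⁻¹) = 0 := by
      refine ⟨B.conjJ hcC hw, ?_⟩
      have hz' : c * z * c⁻¹ = z := mul_inv_eq_iff_eq_mul.2 (mem_Cz.1 hcC)
      rcases hker _ hw h0 with h | h | h | h <;> rw [h]
      · rw [mul_one, mul_inv_cancel]; exact hzero
      · rw [hz']; exact hvz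
      · rcases B.a_perm hcC with h' | h' <;> rw [h']
        · exact hva
        · rw [hmul z B.zJ a B.aJ, hvz, hva, xr_self]
      · rw [show c * (z * a) * c⁻¹ = (c * z * c⁻¹) * (c * a * c⁻¹) by group, hz']
        rcases B.a_perm hcC with h' | h' <;> rw [h']
        · rw [hmul z B.zJ a B.aJ, hvz, hva, xr_self]
        · rw [← mul_assoc, B.zz, one_mul]; exact hva
    have := hmul _ hwz.1 _ (B.conjJ hcC hy)
    rwa [hwz.2, zero_xr, show c * (x * y⁻¹) * c⁻¹ * (c * y * c⁻¹) = c * x * c⁻¹ by group] at this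
  set M0 : Lin := ofFun fun v => vec0 (e0 * lf v * e0⁻¹) with hM0def
  have hM0 : ∀ x ∈ J, vec0 (e0 * x * e0⁻¹) = app M0 (vec0 x) := by
    intro x hx
    rw [hM0def, app_ofFun (fun v w => ?_)]
    · exact hwd he0 x hx _ (hlfJ _) (hlf _).symm
    · rw [← hmul _ (B.conjJ he0 (hlfJ v)) _ (B.conjJ he0 (hlfJ w)),
        hwd he0 (lf (xr v w)) (hlfJ _) (lf v * lf w) (J.mul_mem (hlfJ v) (hlfJ w))
          (by rw [hlf, hmul _ (hlfJ v) _ (hlfJ w), hlf, hlf])]
      congr 1
      group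
  have hconjg : ∀ g, al * MulAut.conj g * al⁻¹ = MulAut.conj (al g) := fun g => MulEquiv.ext fun y => by
    simp [MulAut.mul_apply, map_mul]
  have hsemi : ∀ g, comp M0 (C.M.L g) = comp (C.M.L (al g)) M0 := by
    intro g
    obtain ⟨c, hcC, hcg⟩ := B.lift (MulAut.conj g)
    refine lin_ext fun v => ?_
    obtain ⟨x, hx, rfl⟩ : ∃ x ∈ J, vec0 x = v := ⟨lf v, hlfJ v, hlf v⟩
    have h2 : e0 * c * e0⁻¹ ∈ Cz z := (Cz z).mul_mem ((Cz z).mul_mem he0 hcC) ((Cz z).inv_mem he0)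
    have ha2 : aut z π (e0 * c * e0⁻¹) = MulAut.conj (al g) := by
      rw [B.aut_mul ((Cz z).mul_mem he0 hcC) ((Cz z).inv_mem he0), B.aut_mul he0 hcC, B.aut_inv he0, ha0, hcg,
        hconjg]
    rw [app_comp, app_comp, ← hinner c hcC g hcg x hx, ← hM0 _ (B.conjJ hcC hx), ← hM0 x hx,
      ← hinner _ h2 _ ha2 _ (B.conjJ he0 hx)]
    congr 1
    group
  have hsq0 : comp M0 M0 = idL := lin_ext fun v => by
    have hQ : e0 * e0 ∈ J := (B.aut_eq_one ((Cz z).mul_mem he0 he0)).1 (by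
      rw [B.aut_mul he0 he0, ha0]; exact MulEquiv.ext fun y => alF_alF y)
    obtain ⟨x, hx, rfl⟩ : ∃ x ∈ J, vec0 x = v := ⟨lf v, hlfJ v, hlf v⟩
    rw [app_comp, ← hM0 x hx, ← hM0 _ (B.conjJ he0 hx), id_app,
      show e0 * (e0 * x * e0⁻¹) * e0⁻¹ = e0 * e0 * x * (e0 * e0)⁻¹ by group,
      hinner _ (B.JC hQ) 1 (by rw [map_one]; exact B.aut_J hQ) x hx, C.M.one, id_app]
  have hq0 : ∀ v, qq β (app M0 v) = qq β v := fun v => by
    obtain ⟨x, hx, rfl⟩ : ∃ x ∈ J, vec0 x = v := ⟨lf v, hlfJ v, hlf v⟩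
    rw [← hM0 x hx]
    have h1 := hsq _ (B.conjJ he0 hx)
    rw [show e0 * x * e0⁻¹ * (e0 * x * e0⁻¹) = e0 * (x * x) * e0⁻¹ by group, hsq x hx] at h1
    revert h1
    cases qq β (vec0 x) <;> cases qq β (vec0 (e0 * x * e0⁻¹)) <;> intro h1
    · rfl
    · exact absurd (by simpa using h1.symm) B.zne
    · exact absurd (conj_eq_one_iff.1 h1) B.zne
    · rfl
  -- normal form
  obtain ⟨mu, mu', σ, hK, h12, h21, hcS, hself, hsymm, hσ⟩ : ∃ mu mu' σ, Kind β S σ ∧ comp mu mu' = idL ∧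
      comp mu' mu = idL ∧ (∀ k, comp mu (S k) = comp (S k) mu) ∧ (∀ i, gam β mu (un i) (un i) = false) ∧
      (∀ i k, gam β mu (un i) (un k) = gam β mu (un k) (un i)) ∧ comp mu' (comp M0 mu) = σ :=
    normal_form hM C.M hsemi hsq0 hq0
  have hgs := af_quad C.bil hself hsymm 0
  have hgd : ∀ v, gam β mu v v = false := fun v => by
    have h0 : af β mu 0 0 = false := by
      have := hgs 0 0
      rw [xr_self, gam, app_zero, C.bil.zero_left] at this
      revert this; cases af β mu 0 0 <;> simp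
    have := hgs v v
    rw [xr_self, h0] at this
    revert this; cases af β mu 0 v <;> cases gam β mu v v <;> simp
  have hqm : ∀ v, qq β (app mu' v) = qq β v := fun v => by
    have := hgd (app mu' v)
    rw [gam, ← app_comp, h12, id_app] at this
    show β (app mu' v) (app mu' v) = β v v
    revert this; cases β (app mu' v) (app mu' v) <;> cases β v v <;> simp
  have hbm : ∀ v w, bb β (app mu' v) (app mu' w) = bb β v w := fun v w => by
    have h := hqm (xr v w)
    rw [app_xr, C.bil.qq_xr, C.bil.qq_xr, hqm, hqm] at h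
    revert h
    cases qq β v <;> cases qq β w <;> cases bb β (app mu' v) (app mu' w) <;> cases bb β v w <;> decide
  have hmu : ∀ g : G4, comp (C.M.L g) mu = comp mu (C.M.L g) := by
    intro g
    have hg' : g ∈ Subgroup.closure (Set.range gen) := by rw [gen_top]; exact Subgroup.mem_top g
    rw [← Subgroup.mem_toSubmonoid, Subgroup.closure_toSubmonoid_of_finite] at hg'
    induction hg' using Submonoid.closure_induction with
    | mem x hx => obtain ⟨k, rfl⟩ := hx; rw [C.M.gen_eq]; exact (hcS k).symm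
    | one => rw [C.M.one, comp_id, id_comp]
    | mul x y _ _ hx hy => rw [C.M.mul, comp_assoc, hy, ← comp_assoc, hx, comp_assoc]
  have hmu' : ∀ g v, app mu' (app (C.M.L g) v) = app (C.M.L g) (app mu' v) := fun g v => by
    conv_lhs => rw [show v = app mu (app mu' v) by rw [← app_comp, h12, id_app]]
    rw [← app_comp (C.M.L g) mu, hmu, app_comp mu, ← app_comp mu' mu, h21, id_app]
  exact ⟨β, S, σ, ⟨{
    vec := fun x => app mu' (vec0 x)
    kind := hK
    bil := C.bil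
    mul := fun x hx y hy => by rw [hmul x hx y hy, app_xr]
    surj := fun v => ⟨lf (app mu v), hlfJ _, by rw [hlf, ← app_comp, h21, id_app]⟩
    ker := fun x hx h => hker x hx (by
      have := congrArg (app mu) h
      rwa [← app_comp, h12, id_app, app_zero] at this)
    vz := by rw [hvz, app_zero]
    va := by rw [hva, app_zero]
    sq := fun x hx => by rw [hsq x hx, hqm]
    comm := fun x hx y hy => by rw [hcomm x hx y hy, hbm]
    M := C.M
    inner := fun c hcC g hg x hx => by rw [hinner c hcC g hg x hx, hmu']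
    outer := fun c hcC g hg x hx => by
      have hce : c * e0⁻¹ ∈ Cz z := (Cz z).mul_mem hcC ((Cz z).inv_mem he0)
      have hae : aut z π (c * e0⁻¹) = MulAut.conj g := by
        rw [B.aut_mul hcC ((Cz z).inv_mem he0), B.aut_inv he0, hg, ha0, mul_inv_cancel_right]
      rw [show c * x * c⁻¹ = c * e0⁻¹ * (e0 * x * e0⁻¹) * (c * e0⁻¹)⁻¹ by group,
        hinner _ hce g hae _ (B.conjJ he0 hx), hM0 x hx, hmu', app_comp, ← hσ, app_comp, app_comp,
        ← app_comp mu mu', h12, id_app] }⟩⟩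

end Big

end CfsgLib.FiTwoType
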