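import Cfsg.Agent.Lib.FiTwoType.Lifts

/-!
Sizes of fixed spaces and of their parts with commuting lifts.
-/

set_option autoImplicit false
set_option linter.unusedSectionVars false
set_option linter.style.haveILetI false
set_option maxRecDepth 100000

open Cfsg CfsgLib.Extraspecial CfsgLib.USixType CfsgLib.USixTwo
open CfsgLib.FiTwentyThreeType (SC dW dW_facts sc_fpf sc_natL sc_gen)

namespace CfsgLib.FiTwoType

/-- The fixed vectors of a matrix. -/
def fixS (M : Lin) : Finset V8 := Finset.univ.filter fun v => app M v = v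

theorem mem_fixS {M : Lin} {v : V8} : v ∈ fixS M ↔ app M v = v := by simp [fixS]

theorem perp_card {β : V8 → V8 → Bool} (hβ : Bil β) (v : V8) :
    128 ≤ ((List.finRange 256).filter fun w => !bb β v w).length := by
  classical
  rw [len_filter]
  by_cases h : ∀ w, bb β v w = false
  · rw [Nat.card_congr (Equiv.subtypeUnivEquiv fun w => by rw [h w]; rfl), Nat.card_eq_fintype_card, Fintype.card_fin]
    norm_num
  push Not at h
  obtain ⟨w0, h0⟩ := h
  rw [ne_eq, Bool.not_eq_false] at h0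
  let f : V8 → {w : V8 // (!bb β v w) = true} × Bool := fun w =>
    if hw : (!bb β v w) = true then (⟨w, hw⟩, false)
    else (⟨xr w0 w, by simp only [Bool.not_eq_true', Bool.not_eq_false] at hw; rw [hβ.bb_right, h0, hw]; rfl⟩, true)
  have hf : Function.Injective f := fun a b e => by
    simp only [f] at e
    split at e <;> split at e <;> simp only [Prod.mk.injEq, Subtype.mk.injEq, Bool.true_eq_false,
      Bool.false_eq_true, and_false, and_true] at e
    · exact e
    · exact xr_left_cancel e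
  have := Nat.card_le_card_of_injective f hf
  rw [Nat.card_prod, Nat.card_eq_fintype_card, Fintype.card_fin, Nat.card_eq_fintype_card (α := Bool),
    Fintype.card_bool] at this
  have h' : 128 ≤ Nat.card {w : V8 // (!bb β v w) = true} := by omega
  exact h'

theorem kind_beta {β : V8 → V8 → Bool} {S : Fin 5 → Lin} {σ : Lin} (h : Kind β S σ) :
    β ∈ [bA, bD] ∧ (S = gL ∨ S = wL) := by
  rcases h.model.1 with ⟨h1, h2⟩ | ⟨h1, h2⟩ | ⟨h1, h2⟩ <;> simp [h1, h2]

/-- The matrices commute with the scalar. -/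
theorem sc_sgA' (v : V8) : app SC (app sgA v) = app sgA (app SC (app SC v)) := by
  rw [sc_sgA, sc_sgA, sc_three]

namespace Crd

variable {G : Type*} [Group G] [Finite G] {z a : G} {J : Subgroup G} {π : ↥(Cz z) →* MulAut G4}
  {β : V8 → V8 → Bool} {S : Fin 5 → Lin} {σ : Lin} (C : Crd z a J π β S σ)

open scoped _root_.Classical in
/-- The vectors with commuting lift. -/
noncomputable def rcS (x : G) : Finset V8 := Finset.univ.filter fun v => C.RC x v

theorem mem_rcS {x : G} {v : V8} : v ∈ C.rcS x ↔ C.RC x v := by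
  classical
  simp [rcS]

variable (B : Big z a J π)
include B

theorem rcS_le {x : G} {M : Lin} (hM : C.Mat x M) : C.rcS x ⊆ fixS M := fun _ hv =>
  mem_fixS.2 (C.rc_fix B hM (C.mem_rcS.1 hv))

theorem rcS_mono {x y : G} (h : ∀ q ∈ J, x * q = q * x → y * q = q * y) : C.rcS x ⊆ C.rcS y := fun _ hv =>
  C.mem_rcS.2 (C.rc_sub B h (C.mem_rcS.1 hv))

/-- Where the signs lie in `⟨z⟩` at least half of the vectors have commuting lifts. -/
theorem rc_half {x : G} (hx : x ∈ Hc z a) {U : Finset V8}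
    (hU : ∀ v ∈ U, ∃ s, (s = 1 ∨ s = z) ∧ C.Lf x v s) : U.card ≤ 2 * (C.rcS x).card := by
  classical
  by_cases h : U ⊆ C.rcS x
  · exact (Finset.card_le_card h).trans (Nat.le_mul_of_pos_left _ (by norm_num))
  obtain ⟨w, hwU, hwR⟩ := Finset.not_subset.1 h
  have hz : ∀ v ∈ U, v ∉ C.rcS x → C.Lf x v z := fun v hv hn => by
    obtain ⟨s, hs, hl⟩ := hU v hv
    rcases hs with rfl | rfl
    · exact absurd (C.mem_rcS.2 ((C.rc_iff B hx).2 hl)) hn
    · exact hl
  have h2 : (U.filter fun v => v ∉ C.rcS x).card ≤ (C.rcS x).card := by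
    refine Finset.card_le_card_of_injOn (xr w) (fun v hv => ?_) fun v _ u _ e => xr_left_cancel e
    obtain ⟨hvU, hvR⟩ := Finset.mem_filter.1 hv
    refine Finset.mem_coe.2 (C.mem_rcS.2 ((C.rc_iff B hx).2 ?_))
    have := C.lf_mul B (Or.inr (Or.inl rfl)) (hz w hwU hwR) (hz v hvU hvR)
    rwa [B.zz] at this
  have h1 : (U.filter fun v => v ∈ C.rcS x).card ≤ (C.rcS x).card :=
    Finset.card_le_card fun v hv => (Finset.mem_filter.1 hv).2
  rw [← Finset.card_filter_add_card_filter_not (s := U) (p := fun v => v ∈ C.rcS x)]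
  omega

/-- The centraliser in `J` is covered by four cosets of lifts. -/
theorem card_cent_le {x : G} : Nat.card ↥(J ⊓ Cz x) ≤ 4 * (C.rcS x).card := by
  classical
  haveI : Fintype G := Fintype.ofFinite G
  have hsub : ((J ⊓ Cz x : Subgroup G) : Set G).toFinset.card ≤ 4 * (C.rcS x).card := by
    refine Finset.card_le_mul_card_image_of_maps_to (f := C.vec) (fun q hq => ?_) 4 (fun v _ => ?_)
    · have hq' : q ∈ J ∧ q ∈ Cz x := Subgroup.mem_inf.1 (Set.mem_toFinset.1 hq)
      exact C.mem_rcS.2 ⟨q, hq'.1, rfl, (mem_Cz.1 hq'.2).symm⟩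
    · by_cases hne : ((((J ⊓ Cz x : Subgroup G) : Set G).toFinset).filter fun q => C.vec q = v).Nonempty
      swap
      · rw [Finset.not_nonempty_iff_eq_empty] at hne; rw [hne]; simp
      obtain ⟨q0, hq0⟩ := hne
      obtain ⟨h0, hv0⟩ := Finset.mem_filter.1 hq0
      have h0' : q0 ∈ J ∧ q0 ∈ Cz x := Subgroup.mem_inf.1 (Set.mem_toFinset.1 h0)
      refine (Finset.card_le_card_of_injOn (t := ({1, z, a, z * a} : Finset G)) (fun q => q0⁻¹ * q)
        (fun q hq => ?_) fun q _ p _ e => mul_left_cancel e).trans ?_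
      · obtain ⟨h1, hv1⟩ := Finset.mem_filter.1 hq
        have h1' : q ∈ J ∧ q ∈ Cz x := Subgroup.mem_inf.1 (Set.mem_toFinset.1 h1)
        have := C.vec_eq B h0'.1 h1'.1 (hv0.trans hv1.symm)
        simpa [InZ] using this
      · refine (Finset.card_insert_le _ _).trans (Nat.succ_le_succ ((Finset.card_insert_le _ _).trans
          (Nat.succ_le_succ ((Finset.card_insert_le _ _).trans ?_))))
        simp
  rwa [Set.toFinset_card, ← Nat.card_eq_fintype_card] at hsub

/-- Conjugation does not change the number of fixed vectors. -/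
theorem fix_conj {x c : G} {M N M' : Lin} (hM : C.Mat x M) (hN : C.Mat c N) (hM' : C.Mat (c * x * c⁻¹) M') :
    (fixS M).card = (fixS M').card := by
  classical
  obtain ⟨g', hc'⟩ : ∃ N' : Lin, C.Mat c⁻¹ N' := by
    obtain ⟨g, ⟨-, h⟩ | ⟨-, h⟩⟩ := C.mat_exists B ((Cz z).inv_mem hN.1) <;> exact ⟨_, h⟩
  have e1 : comp g' N = idL := by
    refine C.mat_unique B (C.mat_mul B hc' hN) ?_
    rw [inv_mul_cancel]; exact C.mat_J B J.one_mem
  have e2 : comp N g' = idL := by
    refine C.mat_unique B (C.mat_mul B hN hc') ?_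
    rw [mul_inv_cancel]; exact C.mat_J B J.one_mem
  have eM : M' = comp N (comp M g') := by
    refine C.mat_unique B hM' ?_
    rw [mul_assoc]; exact C.mat_mul B hN (C.mat_mul B hM hc')
  refine Finset.card_bij (fun v _ => app N v) (fun v hv => ?_) (fun v _ u _ e => ?_) fun u hu => ?_
  · rw [mem_fixS, eM, app_comp, app_comp, ← app_comp g' N, e1, id_app, mem_fixS.1 hv]
  · have := congrArg (app g') e
    rwa [← app_comp, ← app_comp, e1, id_app, id_app] at this
  · refine ⟨app g' u, mem_fixS.2 ?_, by rw [← app_comp, e2, id_app]⟩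
    have h := mem_fixS.1 hu
    rw [eM, app_comp, app_comp] at h
    have := congrArg (app g') h
    rwa [← app_comp g' N, e1, id_app] at this

/-- An element of two power order modulo `J` moves into the Sylow list. -/
theorem mat_syl {x : G} (hx : x ∈ Cz z) {n : ℕ} (hn : x ^ 2 ^ n ∈ J) :
    ∃ c ∈ Cz z, ∃ M, C.Mat (c * x * c⁻¹) M ∧ M ∈ sylL S σ := by
  classical
  obtain ⟨P, hPc, hP⟩ := exists_syl_group C.M (kind_beta C.kind).2
  have halP : ∀ g ∈ P, al g ∈ P := by
    intro g hg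
    rw [hP] at hg ⊢
    have hσ := C.kind.model.2.1
    have e : C.M.L (al g) = comp σ (comp (C.M.L g) σ) := by
      rw [← C.al_L B g]
      simp only [comp_assoc, hσ, comp_id]
      rw [← comp_assoc, hσ, id_comp]
    rw [e]
    have hs := C.kind
    rcases hs with ⟨rfl, rfl, rfl⟩ | ⟨rfl, rfl, rfl⟩ | ⟨rfl, rfl, rfl⟩ | ⟨rfl, rfl, rfl⟩ | ⟨rfl, rfl, rfl⟩
    exacts [syl_norm.1 _ hg, syl_norm.2 _ (by simp) _ hg, syl_norm.2 _ (by simp) _ hg,
      syl_norm.2 _ (by simp) _ hg, syl_norm.2 _ (by simp) _ hg]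
  have hψ : (al : MulAut G4) * al = 1 := MulEquiv.ext fun y => alF_alF y
  have hconj : ∀ g, al * MulAut.conj g = MulAut.conj (al g) * al := fun g => MulEquiv.ext fun y => by
    simp [MulAut.mul_apply, map_mul]
  let P2 : Subgroup (MulAut G4) :=
    { carrier := {x | ∃ g ∈ P, x = MulAut.conj g ∨ x = MulAut.conj g * al}
      one_mem' := ⟨1, P.one_mem, Or.inl (map_one _).symm⟩
      mul_mem' := by
        rintro a b ⟨g, hg, rfl | rfl⟩ ⟨k, hk, rfl | rfl⟩
        · exact ⟨g * k, P.mul_mem hg hk, Or.inl (map_mul _ _ _).symm⟩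
        · exact ⟨g * k, P.mul_mem hg hk, Or.inr (by rw [map_mul, mul_assoc])⟩
        · exact ⟨g * al k, P.mul_mem hg (halP k hk), Or.inr (by
            rw [map_mul, mul_assoc, hconj, ← mul_assoc])⟩
        · refine ⟨g * al k, P.mul_mem hg (halP k hk), Or.inl ?_⟩
          rw [map_mul, show MulAut.conj g * al * (MulAut.conj k * al) = MulAut.conj g * (al * MulAut.conj k) * al by group,
            hconj, mul_assoc, mul_assoc, hψ, mul_one]
      inv_mem' := by
        rintro a ⟨g, hg, rfl | rfl⟩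
        · exact ⟨g⁻¹, P.inv_mem hg, Or.inl (map_inv _ _).symm⟩
        · refine ⟨al g⁻¹, halP _ (P.inv_mem hg), Or.inr ?_⟩
          rw [mul_inv_rev, ← map_inv, inv_eq_of_mul_eq_one_right hψ, hconj] }
  have hP2 : Nat.card P2 = 2 ^ 7 := by
    have hcc : Nat.card (↥P × Bool) = 2 ^ 7 := by
      rw [Nat.card_prod, hPc, Nat.card_eq_fintype_card, Fintype.card_bool]; norm_num
    rw [← hcc]
    symm
    have hmem : ∀ p : ↥P × Bool, cond p.2 (MulAut.conj (p.1 : G4) * al) (MulAut.conj (p.1 : G4)) ∈ P2 := by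
      rintro ⟨g, b⟩
      cases b
      exacts [⟨g, g.2, Or.inl rfl⟩, ⟨g, g.2, Or.inr rfl⟩]
    refine Nat.card_congr (Equiv.ofBijective (fun p => (⟨_, hmem p⟩ : P2)) ⟨?_, ?_⟩)
    · rintro ⟨g, b⟩ ⟨k, c⟩ e
      have e' := congrArg Subtype.val e
      cases b <;> cases c <;> simp only [cond_true, cond_false] at e'
      · exact Prod.ext (Subtype.ext (conj_inj e')) rfl
      · exact (inner_outer e').elim
      · exact (inner_outer e'.symm).elim
      · exact Prod.ext (Subtype.ext (conj_inj (mul_right_cancel e'))) rfl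
    · rintro ⟨x, g, hg, rfl | rfl⟩
      exacts [⟨(⟨g, hg⟩, false), rfl⟩, ⟨(⟨g, hg⟩, true), rfl⟩]
  haveI : Fact (Nat.Prime 2) := ⟨Nat.prime_two⟩
  haveI : Finite (MulAut G4) := Nat.finite_of_card_ne_zero (by rw [card_mulAut_G4]; norm_num)
  let SP : Sylow 2 (MulAut G4) := Sylow.ofCard P2 (by
    rw [hP2, card_mulAut_G4, show (51840 : ℕ) = 2 ^ 7 * 405 from rfl,
      Nat.factorization_mul (by norm_num) (by norm_num), Finsupp.add_apply,
      Nat.Prime.factorization_pow Nat.prime_two, Finsupp.single_eq_same,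
      Nat.factorization_eq_zero_of_not_dvd (by norm_num : ¬(2 ∣ 405))])
  have hpow : (aut z π x) ^ 2 ^ n = 1 := by
    have : ∀ k : ℕ, aut z π (x ^ k) = aut z π x ^ k := fun k => by
      induction k with
      | zero => rw [pow_zero, pow_zero]; exact B.aut_J J.one_mem
      | succ k ih => rw [pow_succ, pow_succ, B.aut_mul ((Cz z).pow_mem hx k) hx, ih]
    rw [← this]; exact B.aut_J hn
  have hC : IsPGroup 2 ↥(Subgroup.zpowers (aut z π x)) := by
    obtain ⟨k, -, hk⟩ := (Nat.dvd_prime_pow Nat.prime_two).1 (orderOf_dvd_of_pow_eq_one hpow)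
    exact IsPGroup.of_card (by rw [Nat.card_zpowers, hk])
  obtain ⟨T, hT⟩ := hC.exists_le_sylow
  obtain ⟨m, hm⟩ := MulAction.exists_smul_eq (MulAut G4) T SP
  obtain ⟨c, hc, hcm⟩ := B.lift m
  have hmem : m * aut z π x * m⁻¹ ∈ (m • T : Sylow 2 (MulAut G4)) :=
    ⟨aut z π x, hT (Subgroup.mem_zpowers _), rfl⟩
  rw [hm] at hmem
  obtain ⟨g, hg, hga⟩ := hmem
  have hb : c * x * c⁻¹ ∈ Cz z := (Cz z).mul_mem ((Cz z).mul_mem hc hx) ((Cz z).inv_mem hc)
  have ha : aut z π (c * x * c⁻¹) = m * aut z π x * m⁻¹ := by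
    rw [B.aut_mul ((Cz z).mul_mem hc hx) ((Cz z).inv_mem hc), B.aut_mul hc hx, B.aut_inv hc, hcm]
  refine ⟨c, hc, ?_⟩
  rcases hga with e | e
  · exact ⟨_, ⟨hb, C.inner _ hb g (ha.trans e)⟩, List.mem_append_left _ ((hP g).1 hg)⟩
  · exact ⟨_, ⟨hb, C.outer _ hb g (ha.trans e)⟩, List.mem_append_right _ (List.mem_map.2 ⟨_, (hP g).1 hg, rfl⟩)⟩

/-- Only elements of `J` fix what is orthogonal to a nonzero singular vector. -/
theorem no_big {x : G} (hx : x ∈ Cz z) (hn : x ∉ J) (h2 : x * x ∈ J) {M : Lin} (hM : C.Mat x M) {u : V8}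
    (hu : u ≠ 0) (qu : qq β u = false) (hfix : ∀ v, bb β u v = false → app M v = v) : False := by
  classical
  obtain ⟨c, hc, M', hM', hmem⟩ := C.mat_syl B hx (n := 1) (by rwa [pow_one, pow_two])
  obtain ⟨N, hN⟩ : ∃ N, C.Mat c N := by
    obtain ⟨g, ⟨-, h⟩ | ⟨-, h⟩⟩ := C.mat_exists B hc <;> exact ⟨_, h⟩
  have hn' : c * x * c⁻¹ ∉ J := fun h => hn (by simpa [mul_assoc] using B.conjJ ((Cz z).inv_mem hc) h)
  have hne : M' ≠ idL := fun e => hn' (C.mat_id B (e ▸ hM'))
  have hsq : comp M' M' = idL := by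
    refine C.mat_unique B (C.mat_mul B hM' hM') (C.mat_J B ?_)
    rw [show c * x * c⁻¹ * (c * x * c⁻¹) = c * (x * x) * c⁻¹ by group]; exact B.conjJ hc h2
  set u' := app N u with hu'
  have hcom : comp N M = comp M' N := by
    refine C.mat_unique B (C.mat_mul B hN hM) ?_
    rw [show c * x = c * x * c⁻¹ * c by group]; exact C.mat_mul B hM' hN
  have hfix' : ∀ v, bb β u' v = false → app M' v = v := by
    intro v hv
    obtain ⟨N', hN'⟩ : ∃ N', C.Mat c⁻¹ N' := by
      obtain ⟨g, ⟨-, h⟩ | ⟨-, h⟩⟩ := C.mat_exists B ((Cz z).inv_mem hc) <;> exact ⟨_, h⟩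
    have e1 : app N (app N' v) = v := by
      rw [← app_comp, C.mat_unique B (C.mat_mul B hN hN') (by rw [mul_inv_cancel]; exact C.mat_J B J.one_mem),
        id_app]
    have h1 : bb β u (app N' v) = false := by rw [← C.mat_bb B hN, e1]; exact hv
    rw [← e1, ← app_comp, ← hcom, app_comp, hfix _ h1]
  have hu0 : u' ≠ 0 := fun e => hu (by
    obtain ⟨N', hN'⟩ : ∃ N', C.Mat c⁻¹ N' := by
      obtain ⟨g, ⟨-, h⟩ | ⟨-, h⟩⟩ := C.mat_exists B ((Cz z).inv_mem hc) <;> exact ⟨_, h⟩
    have := congrArg (app N') e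
    rwa [hu', ← app_comp, C.mat_unique B (C.mat_mul B hN' hN) (by rw [inv_mul_cancel]; exact C.mat_J B J.one_mem),
      id_app, app_zero] at this)
  have hok : bigOK β M' = true := by
    have h := bigOK_all
    simp only [Bool.and_eq_true, List.all_eq_true] at h
    obtain ⟨⟨⟨⟨h1, h2⟩, h3⟩, h4⟩, h5⟩ := h
    rcases C.kind with ⟨rfl, rfl, rfl⟩ | ⟨rfl, rfl, rfl⟩ | ⟨rfl, rfl, rfl⟩ | ⟨rfl, rfl, rfl⟩ | ⟨rfl, rfl, rfl⟩
    exacts [h1 _ hmem, h2 _ hmem, h3 _ hmem, h4 _ hmem, h5 _ hmem]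
  have hlen : 128 ≤ ((List.finRange 256).filter fun v => app M' v == v).length := by
    refine (perp_card C.bil u').trans (List.Sublist.length_le ?_)
    exact List.monotone_filter_right _ (fun v hv => by simpa using hfix' v (by simpa using hv))
  simp only [bigOK, hne, hsq, decide_false, decide_true, Bool.not_true, Bool.false_or, Bool.or_eq_true,
    decide_eq_true_eq, List.all_eq_true, List.any_eq_true, List.mem_filter, List.mem_finRange, true_and,
    beq_iff_eq] at hok
  rcases hok with h | h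
  · omega
  have qu' : qq β u' = false := by rw [hu', C.mat_qq B hN]; exact qu
  rcases h u' (hfix' u' (C.bil.bb_self u')) with (h' | h') | ⟨w, hw, hbw⟩
  · exact hu0 h'
  · rw [qu'] at h'; exact Bool.noConfusion h'
  · refine hne (lin_ext fun v => ?_)
    rw [id_app]
    cases hv : bb β u' v
    · exact hfix' v hv
    · have := hfix' (xr v w) (by rw [C.bil.bb_right, hv, hbw]; rfl)
      rw [app_xr, hw] at this
      have h3 := congrArg (fun t => xr t w) this
      simpa only [xr_assoc, xr_self, xr_zero] using h3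

end Crd

/-! ### The natural representation -/

/-- A subgroup of index two invariant under the scalar is everything. -/
theorem sc_full {U R : Finset V8} {P : V8 → Prop} (hP : ∀ v w, P v → P w → P (xr v w))
    (hR : ∀ v ∈ R, P v) (hRx : ∀ v ∈ R, ∀ w ∈ R, xr v w ∈ R) (hRU : R ⊆ U) (hUx : ∀ v ∈ U, ∀ w ∈ U, xr v w ∈ U)
    (hUc : ∀ v ∈ U, app SC v ∈ U) (hPc : ∀ v, P (app SC v) → P v) (hcard : U.card ≤ 2 * R.card) :
    ∀ v ∈ U, P v := by
  classical
  intro v hv
  by_contra hn
  have hvR : v ∉ R := fun h => hn (hR v h)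
  set T := R ∪ R.image (xr v)
  have hT : T ⊆ U := Finset.union_subset hRU fun t ht => by
    obtain ⟨r, hr, rfl⟩ := Finset.mem_image.1 ht
    exact hUx v hv r (hRU hr)
  have hTc : T.card = 2 * R.card := by
    rw [Finset.card_union_of_disjoint, Finset.card_image_of_injective _ fun _ _ e => xr_left_cancel e]
    · omega
    · rw [Finset.disjoint_left]
      intro t ht ht'
      obtain ⟨r, hr, rfl⟩ := Finset.mem_image.1 ht'
      refine hvR ?_
      have := hRx _ ht r hr
      rwa [xr_assoc, xr_self, xr_zero] at this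
  have hTU : T = U := Finset.eq_of_subset_of_card_le hT (by omega)
  have key : ∀ u ∈ U, ¬ P u → ∃ r ∈ R, u = xr v r := fun u hu hPu => by
    rw [← hTU] at hu
    rcases Finset.mem_union.1 hu with h | h
    · exact absurd (hR u h) hPu
    · obtain ⟨r, hr, e⟩ := Finset.mem_image.1 h
      exact ⟨r, hr, e.symm⟩
  have hn1 : ¬ P (app SC v) := fun h => hn (hPc v h)
  have hn2 : ¬ P (app SC (app SC v)) := fun h => hn1 (hPc _ h)
  obtain ⟨r, hr, e1⟩ := key _ (hUc v hv) hn1
  obtain ⟨r', hr', e2⟩ := key _ (hUc _ (hUc v hv)) hn2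
  have h0 := sc_scalar v
  rw [xr_eq_zero, e1, ← e1, e2, e1] at h0
  refine hn ?_
  rw [h0, xr_assoc, ← xr_assoc r v r', xr_comm r v, xr_assoc v r r', ← xr_assoc v v, xr_self, zero_xr]
  exact hP r r' (hR r hr) (hR r' hr')

end CfsgLib.FiTwoType
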