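import Cfsg.Agent.Lib.FiTwoType.IsoWedge
import Cfsg.Agent.Lib.FiTwentyThreeType.Fuse

/-!
The second involution central in the centraliser: fusion of `z`.
-/

set_option autoImplicit false
set_option linter.unusedSectionVars false
set_option linter.style.haveILetI false
set_option maxRecDepth 100000

open Cfsg CfsgLib.Extraspecial CfsgLib.USixType CfsgLib.USixTwo
open CfsgLib.FiTwentyThreeType (le_of_max exists_conj_into)

namespace CfsgLib.FiTwoType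

namespace Big

variable {G : Type*} [Group G] [Finite G] {z a : G} {J : Subgroup G} {π : ↥(Cz z) →* MulAut G4}
  (B : Big z a J π)
include B

theorem exists_sylow_Cz : ∃ P : Sylow 2 G, (P : Subgroup G) ≤ Cz z ∧ J ≤ P := by
  haveI : Fact (Nat.Prime 2) := ⟨Nat.prime_two⟩
  obtain ⟨R⟩ : Nonempty (Sylow 2 ↥(Cz z)) := inferInstance
  set R' : Subgroup G := (R : Subgroup ↥(Cz z)).map (Cz z).subtype with hR'def
  have hR'C : R' ≤ Cz z := Subgroup.map_subtype_le _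
  have hR' : IsPGroup 2 R' := R.2.map _
  have hmax : ∀ E : Subgroup G, IsPGroup 2 E → E ≤ Cz z → R' ≤ E → E ≤ R' := fun E hE hEC h x hx => by
    have h1 := R.3 (hE.of_equiv (Subgroup.subgroupOfEquivOfLe hEC).symm) (fun y hy => h ⟨y, hy, rfl⟩)
    have h2 : (⟨x, hEC hx⟩ : ↥(Cz z)) ∈ E.subgroupOf (Cz z) := hx
    rw [h1] at h2
    exact ⟨_, h2, rfl⟩
  have hJn : R' ≤ Subgroup.normalizer (J : Set G) := fun x hx =>
    Subgroup.mem_normalizer_iff.2 fun q => ⟨B.conjJ (hR'C hx), fun h => by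
      have := B.conjJ ((Cz z).inv_mem (hR'C hx)) h
      rwa [show x⁻¹ * (x * q * x⁻¹) * x⁻¹⁻¹ = q by group] at this⟩
  have hJR : J ≤ R' := le_of_max hR' hR'C hmax B.two_J B.JC hJn
  obtain ⟨P, hP⟩ := hR'.exists_le_sylow
  refine ⟨P, ?_, hJR.trans hP⟩
  by_contra hne
  haveI := P.2.isNilpotent
  have hlt : R'.subgroupOf (P : Subgroup G) < ⊤ := lt_top_iff_ne_top.2 fun h =>
    hne ((Subgroup.subgroupOf_eq_top.1 h).trans hR'C)
  obtain ⟨⟨g, hgP⟩, hgN, hgR⟩ := SetLike.exists_of_lt (normalizerCondition_of_isNilpotent _ hlt)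
  rw [Subgroup.mem_subgroupOf] at hgR
  have hgn : ∀ x ∈ R', g * x * g⁻¹ ∈ R' ∧ g⁻¹ * x * g ∈ R' := fun x hx => by
    have h := Subgroup.mem_normalizer_iff.1 hgN
    refine ⟨(h ⟨x, hP hx⟩).1 hx, ?_⟩
    have h2 := (h (⟨g, hgP⟩⁻¹ * ⟨x, hP hx⟩ * ⟨g, hgP⟩)).2 (by
      rw [show (⟨g, hgP⟩ : ↥(P : Subgroup G)) * (⟨g, hgP⟩⁻¹ * ⟨x, hP hx⟩ * ⟨g, hgP⟩) * ⟨g, hgP⟩⁻¹ =
        ⟨x, hP hx⟩ by group]
      exact hx)
    exact h2
  have hT : InZ z a (g * z * g⁻¹) := B.cent_inZ (hR'C (hgn z (hJR B.zJ)).1) fun q hq => by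
    have h1 := mem_Cz.1 (hR'C (hgn q (hJR hq)).2)
    calc g * z * g⁻¹ * q = g * (z * (g⁻¹ * q * g)) * g⁻¹ := by group
      _ = _ := by rw [← h1]; group
  have hgC : g ∈ Cz z := mem_Cz.2 (mul_inv_eq_iff_eq_mul.1 (B.z_unique hT))
  have h2 := hmax (R' ⊔ Subgroup.zpowers g)
    (P.2.to_le (sup_le hP (Subgroup.zpowers_le.2 hgP))) (sup_le hR'C (Subgroup.zpowers_le.2 hgC)) le_sup_left
  exact hgR (h2 (Subgroup.mem_sup_right (Subgroup.mem_zpowers g)))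

/-- When `a` is central in the centraliser, what centralises a conjugate centralises that of `a`. -/
theorem fixed_share (hH : ∀ x ∈ Cz z, x * a = a * x) {g q : G} (h : g * z * g⁻¹ * q = q * (g * z * g⁻¹)) :
    g * a * g⁻¹ * q = q * (g * a * g⁻¹) := by
  have h1 := hH _ (mem_Cz.2 (pull_comm.2 h.symm))
  exact (pull_comm.1 h1).symm

end Big

namespace Crd

variable {G : Type*} [Group G] [Finite G] {z a : G} {J : Subgroup G} {π : ↥(Cz z) →* MulAut G4}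
  {β : V8 → V8 → Bool} {S : Fin 5 → Lin} {σ : Lin} (C : Crd z a J π β S σ) (B : Big z a J π)
  (hH : ∀ x ∈ Cz z, x * a = a * x) (hZ : OddIso z (z * a))
include C B hH hZ

/-- Only `z` when the conjugate of `a` centralises no more of the radical. -/
theorem core_fixed {g : G} (hk : g * z * g⁻¹ ∈ Cz z)
    (hbk : ∀ q ∈ J, g * a * g⁻¹ * q = q * (g * a * g⁻¹) → g * z * g⁻¹ * q = q * (g * z * g⁻¹)) :
    g * z * g⁻¹ = z := by
  by_contra hne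
  have hb := B.b_Cz (hH _ (B.mirror_Cz hk))
  have hkb : ∀ q ∈ J, g * z * g⁻¹ * q = q * (g * z * g⁻¹) → g * a * g⁻¹ * q = q * (g * a * g⁻¹) :=
    fun q _ h => B.fixed_share hH h
  have hwe : g * (z * a) * g⁻¹ = g * z * g⁻¹ * (g * a * g⁻¹) := by group
  have hbw : ∀ q ∈ J, g * a * g⁻¹ * q = q * (g * a * g⁻¹) →
      g * (z * a) * g⁻¹ * q = q * (g * (z * a) * g⁻¹) := fun q hq h => by
    rw [hwe]
    exact ((show Commute (g * z * g⁻¹) q from hbk q hq h).mul_left (show Commute (g * a * g⁻¹) q from h)).eq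
  have hwb : ∀ q ∈ J, g * (z * a) * g⁻¹ * q = q * (g * (z * a) * g⁻¹) →
      g * a * g⁻¹ * q = q * (g * a * g⁻¹) := fun q hq h => hkb q hq (B.odd_share hZ hk hq h)
  have hw := B.w_Cz hk hb
  obtain ⟨hbJ, hwJ⟩ := C.none_J B hne hk hb hbw hwb hbk
  have sq : ∀ {v : G}, v * v = 1 → g * v * g⁻¹ * (g * v * g⁻¹) = 1 := fun {v} hv => by
    rw [show g * v * g⁻¹ * (g * v * g⁻¹) = g * (v * v) * g⁻¹ by group, hv]; group
  have hkJ : g * z * g⁻¹ ∉ J := fun h => hbJ (C.j_share B h (sq B.zz) hb (by rw [sq B.aa]; exact J.one_mem)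
    (fun e => hne (B.z_unique (C.ker _ h e))) hkb)
  by_cases hall : Inner π (g * z * g⁻¹) ∧ Inner π (g * a * g⁻¹)
  · exact C.inner_false B hall.1 hall.2 hkJ hbJ hwJ hbw hwb hbk hZ
  obtain ⟨x, y, hx, hxJ, hx2, hy, hyo, hxy, hxb⟩ : ∃ x y, Inner π x ∧ x ∉ J ∧ x * x = 1 ∧ y ∈ Cz z ∧
      ¬ Inner π y ∧ (∀ q ∈ J, x * q = q * x → y * q = q * y) ∧
      ∀ q ∈ J, x * q = q * x → g * a * g⁻¹ * q = q * (g * a * g⁻¹) := by
    by_cases hbi : Inner π (g * a * g⁻¹)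
    · exact ⟨_, _, hbi, hbJ, sq B.aa, hk, fun h => hall ⟨h, hbi⟩, hbk, fun _ _ h => h⟩
    by_cases hki : Inner π (g * z * g⁻¹)
    · exact ⟨_, _, hki, hkJ, sq B.zz, hb, hbi, hkb, hkb⟩
    · refine ⟨_, _, ?_, hwJ, sq B.zaza, hb, hbi, hwb, hwb⟩
      rw [hwe, B.inner_iff hk hb]
      exact ⟨fun h => absurd h hki, fun h => absurd h hbi⟩
  rcases (kind_beta C.kind).2 with h | h
  · exact C.inn_out B h hx (fun hz => hxJ (B.inZ_J hz)) (by rw [hx2]; exact J.one_mem) hy hyo hxy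
  · obtain ⟨w0, hw0, hw0z, hxw⟩ := C.root_inner B h hx hxJ (by rw [hx2]; exact J.one_mem)
    have h1 := hxb w0 hw0 hxw
    exact C.core B h (Subgroup.mem_inf.2 ⟨hk, mem_Cz.2 (hH _ hk)⟩) hkJ hbJ hwJ hw0 hw0z
      (hbk w0 hw0 h1).symm h1.symm

/-- Both odd: isolation. -/
theorem iso_fixed (hA : OddIso z a) (g : G) (hk : g * z * g⁻¹ ∈ Cz z) : g * z * g⁻¹ = z :=
  C.core_fixed B hH hZ hk fun _ hq h => B.odd_share hA hk hq h

/-- A conjugate of `z` with a good Sylow subgroup of its centraliser is `z`. -/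
theorem fuse_core {k g : G} {R : Subgroup G} (hk : k ∈ Cz a) (hg : g * k * g⁻¹ = z) (hR : IsPGroup 2 R)
    (hRK : R ≤ Cz a ⊓ Cz k) (hRH : R ≤ Cz z)
    (hmax : ∀ E : Subgroup G, IsPGroup 2 E → E ≤ Cz a ⊓ Cz k → R ≤ E → E ≤ R) : k = z := by
  haveI : Fact (Nat.Prime 2) := ⟨Nat.prime_two⟩
  have hkR : k ∈ R := by
    refine le_of_max hR hRK hmax (D := Subgroup.zpowers k) ?_
      (Subgroup.zpowers_le.2 (Subgroup.mem_inf.2 ⟨hk, mem_Cz.2 rfl⟩)) ?_ (Subgroup.mem_zpowers k)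
    · refine IsPGroup.of_card (n := 1) ?_
      rw [Nat.card_zpowers, pow_one, ← MulEquiv.orderOf_eq (MulAut.conj g), MulAut.conj_apply, hg, B.hz]
    · intro r hr
      refine (Subgroup.centralizer_le_normalizer _) ?_
      exact Subgroup.mem_centralizer_iff.2 fun x hx => by
        obtain ⟨i, rfl⟩ := hx
        exact ((show Commute k r from ((mem_Cz.1 (Subgroup.mem_inf.1 (hRK hr)).2)).symm).zpow_left i).eq
  have hyC : g * z * g⁻¹ ∈ Cz z := mem_Cz.2 (by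
    calc g * z * g⁻¹ * z = g * (z * k) * g⁻¹ := by rw [← hg]; group
      _ = g * (k * z) * g⁻¹ := by rw [mem_Cz.1 (hRH hkR)]
      _ = _ := by rw [← hg]; group)
  have hbk : ∀ q ∈ J, g * a * g⁻¹ * q = q * (g * a * g⁻¹) → g * z * g⁻¹ * q = q * (g * z * g⁻¹) := by
    intro q hq hbq
    set D := (J ⊓ Cz (g * a * g⁻¹)).map (MulAut.conj g⁻¹).toMonoidHom with hD
    have hmem : ∀ {p : G}, p ∈ D ↔ g * p * g⁻¹ ∈ J ∧ g * p * g⁻¹ ∈ Cz (g * a * g⁻¹) := by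
      intro p
      constructor
      · rintro ⟨s, hs, rfl⟩
        show g * (g⁻¹ * s * g⁻¹⁻¹) * g⁻¹ ∈ J ∧ g * (g⁻¹ * s * g⁻¹⁻¹) * g⁻¹ ∈ Cz (g * a * g⁻¹)
        rw [show g * (g⁻¹ * s * g⁻¹⁻¹) * g⁻¹ = s by group]
        exact Subgroup.mem_inf.1 hs
      · intro h
        exact ⟨g * p * g⁻¹, Subgroup.mem_inf.2 h, by show g⁻¹ * (g * p * g⁻¹) * g⁻¹⁻¹ = p; group⟩
    have hDle : D ≤ Cz a ⊓ Cz k := fun p hp => by
      obtain ⟨h1, h2⟩ := hmem.1 hp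
      refine Subgroup.mem_inf.2 ⟨mem_Cz.2 ?_, mem_Cz.2 ?_⟩
      · calc p * a = g⁻¹ * (g * p * g⁻¹ * (g * a * g⁻¹)) * g := by group
          _ = _ := by rw [mem_Cz.1 h2]; group
      · calc p * k = g⁻¹ * (g * p * g⁻¹ * (g * k * g⁻¹)) * g := by group
          _ = _ := by rw [hg, mem_Cz.1 (B.JC h1), ← hg]; group
    have hn : R ≤ Subgroup.normalizer (D : Set G) := by
      have key : ∀ r ∈ Cz a ⊓ Cz k, ∀ p ∈ D, r * p * r⁻¹ ∈ D := fun r hr p hp => by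
        obtain ⟨h1, h2⟩ := hmem.1 hp
        obtain ⟨hra, hrk⟩ := Subgroup.mem_inf.1 hr
        have hrC : g * r * g⁻¹ ∈ Cz z := mem_Cz.2 (by
          rw [← hg]
          calc g * r * g⁻¹ * (g * k * g⁻¹) = g * (r * k) * g⁻¹ := by group
            _ = _ := by rw [mem_Cz.1 hrk]; group)
        have hrb : g * r * g⁻¹ ∈ Cz (g * a * g⁻¹) := mem_Cz.2 (by
          calc g * r * g⁻¹ * (g * a * g⁻¹) = g * (r * a) * g⁻¹ := by group
            _ = _ := by rw [mem_Cz.1 hra]; group)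
        refine hmem.2 ?_
        rw [show g * (r * p * r⁻¹) * g⁻¹ = g * r * g⁻¹ * (g * p * g⁻¹) * (g * r * g⁻¹)⁻¹ by group]
        exact ⟨B.conjJ hrC h1, mul_mem (mul_mem hrb h2) (inv_mem hrb)⟩
      intro r hr
      refine Subgroup.mem_normalizer_iff.2 fun p => ⟨key r (hRK hr) p, fun h => ?_⟩
      have := key r⁻¹ (inv_mem (hRK hr)) _ h
      rwa [show r⁻¹ * (r * p * r⁻¹) * r⁻¹⁻¹ = p by group] at this
    have hDR : D ≤ R := le_of_max hR hRK hmax ((B.two_J.to_le inf_le_left).map _) hDle hn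
    have hu : g⁻¹ * q * g ∈ Cz z := hRH (hDR (hmem.2 (by
      rw [show g * (g⁻¹ * q * g) * g⁻¹ = q by group]
      exact ⟨hq, mem_Cz.2 hbq.symm⟩)))
    exact (pull_comm.1 (mem_Cz.1 hu)).symm
  have hgC : g ∈ Cz z := mem_Cz.2 (mul_inv_eq_iff_eq_mul.1 (C.core_fixed B hH hZ hyC hbk))
  calc k = g⁻¹ * z * g := by rw [← hg]; group
    _ = g⁻¹ * (g * z) := by rw [mul_assoc, ← mem_Cz.1 hgC]
    _ = z := by group

/-- All conjugates of `z` centralising `a` are conjugate in its centraliser. -/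
theorem fusion {k : G} (hk : k ∈ Cz a) (hK : ∃ g : G, g * z * g⁻¹ = k) : ∃ n ∈ Cz a, n * z * n⁻¹ = k := by
  haveI : Fact (Nat.Prime 2) := ⟨Nat.prime_two⟩
  obtain ⟨g, hg⟩ := hK
  obtain ⟨P, hP, -⟩ := B.exists_sylow_Cz
  have hle : Cz z ≤ Cz a := fun x hx => mem_Cz.2 (hH x hx)
  obtain ⟨R⟩ : Nonempty (Sylow 2 ↥(Cz a ⊓ Cz k)) := inferInstance
  set R1 : Subgroup G := (R : Subgroup ↥(Cz a ⊓ Cz k)).map (Cz a ⊓ Cz k).subtype
  have hR1 : R1 ≤ Cz a ⊓ Cz k := Subgroup.map_subtype_le _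
  obtain ⟨n, hn, hnR⟩ := exists_conj_into P hP hle (R.2.map _) (hR1.trans inf_le_left)
  have hC : ∀ {p : G}, p ∈ Cz a ⊓ Cz k → n * p * n⁻¹ ∈ Cz a ⊓ Cz (n * k * n⁻¹) := fun {p} hp =>
    Subgroup.mem_inf.2 ⟨mul_mem (mul_mem hn (Subgroup.mem_inf.1 hp).1) (inv_mem hn), mem_Cz.2 (by
      calc n * p * n⁻¹ * (n * k * n⁻¹) = n * (p * k) * n⁻¹ := by group
        _ = _ := by rw [mem_Cz.1 (Subgroup.mem_inf.1 hp).2]; group)⟩
  have h := C.fuse_core B hH hZ (k := n * k * n⁻¹) (g := g⁻¹ * n⁻¹)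
    (R := R1.map (MulAut.conj n).toMonoidHom) (mul_mem (mul_mem hn hk) (inv_mem hn))
    (by rw [← hg]; group) ((R.2.map _).map _)
    (by rintro _ ⟨p, hp, rfl⟩; exact hC (hR1 hp))
    (by rintro _ ⟨p, hp, rfl⟩; exact hnR p hp) ?_
  · refine ⟨n⁻¹, inv_mem hn, ?_⟩
    rw [← h]; group
  intro E hE hEK hle' e he
  set E' := E.map (MulAut.conj n⁻¹).toMonoidHom
  have hE'K : E' ≤ Cz a ⊓ Cz k := by
    rintro _ ⟨p, hp, rfl⟩
    obtain ⟨h1, h2⟩ := Subgroup.mem_inf.1 (hEK hp)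
    show n⁻¹ * p * n⁻¹⁻¹ ∈ Cz a ⊓ Cz k
    rw [inv_inv]
    exact Subgroup.mem_inf.2 ⟨mul_mem (mul_mem (inv_mem hn) h1) hn, mem_Cz.2 (by
      calc n⁻¹ * p * n * k = n⁻¹ * (p * (n * k * n⁻¹)) * n := by group
        _ = _ := by rw [mem_Cz.1 h2]; group)⟩
  have hle2 : (R : Subgroup ↥(Cz a ⊓ Cz k)) ≤ E'.subgroupOf (Cz a ⊓ Cz k) := fun p hp =>
    ⟨n * p * n⁻¹, hle' ⟨p, ⟨p, hp, rfl⟩, rfl⟩, by
      show n⁻¹ * (n * p * n⁻¹) * n⁻¹⁻¹ = (p : G)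
      group⟩
  have h1 := R.3 ((hE.map _).of_equiv (Subgroup.subgroupOfEquivOfLe hE'K).symm) hle2
  have hm : (⟨n⁻¹ * e * n, by simpa using hE'K ⟨e, he, rfl⟩⟩ : ↥(Cz a ⊓ Cz k)) ∈ E'.subgroupOf (Cz a ⊓ Cz k) :=
    ⟨e, he, by show n⁻¹ * e * n⁻¹⁻¹ = n⁻¹ * e * n; group⟩
  rw [h1] at hm
  exact ⟨n⁻¹ * e * n, ⟨_, hm, rfl⟩, by show n * (n⁻¹ * e * n) * n⁻¹ = e; group⟩

/-- The second involution is isolated. -/
theorem a_isolated (g : G) (hg : g * a * g⁻¹ ∈ Cz a) : g * a * g⁻¹ = a := by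
  haveI : Fact (Nat.Prime 2) := ⟨Nat.prime_two⟩
  obtain ⟨P, hP, -⟩ := B.exists_sylow_Cz
  have hle : Cz z ≤ Cz a := fun x hx => mem_Cz.2 (hH x hx)
  set x := g * a * g⁻¹ with hx
  have hR : IsPGroup 2 (Subgroup.zpowers x) := IsPGroup.of_card (n := 1) (by
    rw [Nat.card_zpowers, pow_one, hx, ← MulAut.conj_apply, MulEquiv.orderOf_eq, B.ha])
  obtain ⟨n, hn, hnx⟩ := exists_conj_into P hP hle hR (Subgroup.zpowers_le.2 hg)
  have hz' := mem_Cz.1 (hnx x (Subgroup.mem_zpowers x))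
  set g' := n * g with hg'
  have h1 : g'⁻¹ * z * g' ∈ Cz a := mem_Cz.2 (by
    calc g'⁻¹ * z * g' * a = g'⁻¹ * (z * (n * x * n⁻¹)) * g' := by rw [hg', hx]; group
      _ = g'⁻¹ * (n * x * n⁻¹ * z) * g' := by rw [hz']
      _ = _ := by rw [hg', hx]; group)
  obtain ⟨m, hm, hme⟩ := C.fusion B hH hZ h1 ⟨g'⁻¹, by group⟩
  have h2 : g' * m ∈ Cz a := hle (mem_Cz.2 (by
    calc g' * m * z = g' * (m * z * m⁻¹) * m := by group
      _ = _ := by rw [hme]; group))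
  have hgN : g ∈ Cz a := by
    rw [show g = n⁻¹ * (g' * m) * m⁻¹ by rw [hg']; group]
    exact mul_mem (mul_mem (inv_mem hn) h2) (inv_mem hm)
  rw [hx, mem_Cz.1 hgN, mul_inv_cancel_right]

end Crd

end CfsgLib.FiTwoType
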