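import Cfsg.Agent.Lib.FiTwoType.IsoSwap

/-!
The two involutions swapped, both odd, natural representation: no other conjugate of `z` in the centraliser.
-/

set_option autoImplicit false
set_option linter.unusedSectionVars false
set_option linter.style.haveILetI false
set_option maxRecDepth 100000

open Cfsg CfsgLib.Extraspecial CfsgLib.USixType CfsgLib.USixTwo
open CfsgLib.FiTwentyThreeType (SC dW dW_facts sc_fpf sc_natL)

namespace CfsgLib.FiTwoType

theorem sing_orbit {v w : V8} (hv : v ≠ 0) (qv : qq bA v = false) (hw : w ≠ 0) (qw : qq bA w = false) :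
    ∃ g : G4, app (natL g) v = w := by
  have key : ∀ {u : V8}, u ≠ 0 → qq bA u = false → ∃ g : G4, app (natL g) 5 = u := by
    intro u hu qu
    have h := tv_all u hu (sing_hc u qu)
    simp only [List.any_eq_true, beq_iff_eq] at h
    obtain ⟨p, hp, rfl⟩ := h
    exact ⟨evalW p.2, by rw [natL_evalW]; exact beq_iff_eq.1 (List.all_eq_true.1 tv_good p hp)⟩
  obtain ⟨g, hg⟩ := key hv qv
  obtain ⟨h, hh⟩ := key hw qw
  refine ⟨h * g⁻¹, ?_⟩
  rw [natL_mul, app_comp, ← hg, ← app_comp (natL g⁻¹), ← natL_mul, inv_mul_cancel, natL_one, id_app, hh]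

theorem cent_half {G : Type*} [Group G] [Finite G] {z a k : G} {J : Subgroup G} {π : ↥(Cz z) →* MulAut G4}
    (B : Big z a J π) (hk : k ∈ J) : (Cz k).relIndex J ≤ 2 := by
  by_cases h : J ≤ Cz k
  · rw [Subgroup.relIndex_eq_one.2 h]; norm_num
  obtain ⟨q0, hq0, hn⟩ := SetLike.not_le_iff_exists.1 h
  have em : ∀ {q : G}, q ∈ J → (q ∈ Cz k ↔ k * q * k⁻¹ * q⁻¹ = 1) := fun {q} hq => by
    rw [mem_Cz]
    constructor <;> intro h
    · rw [← h]; group
    · calc q * k = (k * q * k⁻¹ * q⁻¹)⁻¹ * (k * q) := by group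
        _ = _ := by rw [h, inv_one, one_mul]
  have hz0 : k * q0 * k⁻¹ * q0⁻¹ = z := (B.comm k hk q0 hq0).resolve_left fun e => hn ((em hq0).2 e)
  refine le_of_eq (Subgroup.relIndex_eq_two_iff.2 ⟨q0, hq0, fun q hq => ?_⟩)
  have hzq : z * q = q * z := (mem_Cz.1 (B.JC hq)).symm
  have hmul : k * (q * q0) * k⁻¹ * (q * q0)⁻¹ = k * q * k⁻¹ * q⁻¹ * z := by
    calc k * (q * q0) * k⁻¹ * (q * q0)⁻¹ = k * q * k⁻¹ * (k * q0 * k⁻¹ * q0⁻¹) * q⁻¹ := by group
      _ = k * q * k⁻¹ * (z * q⁻¹) := by rw [hz0]; group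
      _ = _ := by rw [((show Commute z q from hzq).inv_right).eq]; group
  show Xor _ _
  rw [em (J.mul_mem hq hq0), em hq, hmul]
  rcases B.comm k hk q hq with e | e <;> rw [e]
  · exact Or.inr ⟨rfl, by rw [one_mul]; exact B.zne⟩
  · exact Or.inl ⟨B.zz, B.zne⟩

namespace Crd

variable {G : Type*} [Group G] [Finite G] {z a : G} {J : Subgroup G} {π : ↥(Cz z) →* MulAut G4}
  {β : V8 → V8 → Bool} {S : Fin 5 → Lin} {σ : Lin} (C : Crd z a J π β S σ) (B : Big z a J π)
  (I : IsoSwap z a π) (hS : S = gL)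
include C B I hS

/-- Elements of `J` with their mirrors: the centraliser of the second image is large. -/
theorem cent_large {g : G} (hk : g * z * g⁻¹ ∈ J) (hm : g⁻¹ * z * g ∈ J) (hne : g * z * g⁻¹ ≠ z) :
    256 ≤ Nat.card ↥(J ⊓ Cz (g * a * g⁻¹)) := by
  classical
  set k := g * z * g⁻¹ with hkd
  set m := g⁻¹ * z * g with hmd
  set b := g * a * g⁻¹ with hbd
  have hk2 : k * k = 1 := B.conj_sq g
  have hm2 : m * m = 1 := by
    rw [hmd, show g⁻¹ * z * g * (g⁻¹ * z * g) = g⁻¹ * (z * z) * g by group, B.zz]; group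
  have hvk : C.vec k ≠ 0 := fun h => hne (B.z_unique (C.ker k hk h))
  have hvm : C.vec m ≠ 0 := fun h => by
    have hz := B.z_unique (g := g⁻¹) (by rw [inv_inv]; exact C.ker m hm h)
    rw [inv_inv] at hz
    exact B.mirror_ne hne hz
  obtain ⟨g4, hg4⟩ := sing_orbit hvm ((C.natA B hS).1 ▸ C.qq_zero B hm hm2) hvk ((C.natA B hS).1 ▸ C.qq_zero B hk hk2)
  obtain ⟨c, hc, hcg⟩ := B.inner_lift g4
  have hcv : C.vec (c * m * c⁻¹) = C.vec k := by rw [C.inner c hc.1 g4 hcg m hm, C.L_nat B hS, hg4]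
  set t := (c * m * c⁻¹)⁻¹ * k with htd
  have ht : InZ z a t := C.vec_eq B (B.conjJ hc.1 hm) hk hcv
  have hcH := B.inner_Hc hc
  set Q := Hc z a ⊓ Cz k with hQ
  set Qm := Hc z a ⊓ Cz m with hQm
  set D := Cz z ⊓ Cz k ⊓ Cz b with hD
  have hconj : Qm.map (MulAut.conj c).toMonoidHom = Q := by
    ext x
    have key : ∀ {y : G}, y ∈ Hc z a → (y * k = k * y ↔ y * (c * m * c⁻¹) = c * m * c⁻¹ * y) := fun {y} hy => by
      have hyt : y * t = t * y := B.inZ_comm ht hy
      rw [show k = c * m * c⁻¹ * t by rw [htd, mul_inv_cancel_left]]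
      constructor <;> intro e
      · refine mul_right_cancel (b := t) ?_
        calc y * (c * m * c⁻¹) * t = y * (c * m * c⁻¹ * t) := by group
          _ = c * m * c⁻¹ * (t * y) := by rw [e]; group
          _ = _ := by rw [← hyt]; group
      · calc y * (c * m * c⁻¹ * t) = (y * (c * m * c⁻¹)) * t := by group
          _ = c * m * c⁻¹ * (y * t) := by rw [e]; group
          _ = _ := by rw [hyt]; group
    constructor
    · rintro ⟨y, hy, rfl⟩
      obtain ⟨h1, h2⟩ := Subgroup.mem_inf.1 hy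
      show c * y * c⁻¹ ∈ Q
      have hH := mul_mem (mul_mem hcH h1) (inv_mem hcH)
      refine Subgroup.mem_inf.2 ⟨hH, mem_Cz.2 ((key hH).2 ?_)⟩
      calc c * y * c⁻¹ * (c * m * c⁻¹) = c * (y * m) * c⁻¹ := by group
        _ = _ := by rw [mem_Cz.1 h2]; group
    · intro hx
      obtain ⟨h1, h2⟩ := Subgroup.mem_inf.1 hx
      refine ⟨c⁻¹ * x * c, Subgroup.mem_inf.2 ⟨mul_mem (mul_mem (inv_mem hcH) h1) hcH, mem_Cz.2 ?_⟩, by
        show c * (c⁻¹ * x * c) * c⁻¹ = x; group⟩
      calc c⁻¹ * x * c * m = c⁻¹ * (x * (c * m * c⁻¹)) * c := by group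
        _ = _ := by rw [(key h1).1 (mem_Cz.1 h2)]; group
  have hDm : Qm.map (MulAut.conj g).toMonoidHom = D := by
    ext x
    constructor
    · rintro ⟨y, hy, rfl⟩
      obtain ⟨h1, h2⟩ := Subgroup.mem_inf.1 hy
      show g * y * g⁻¹ ∈ D
      have cg : ∀ {v : G}, y * v = v * y → g * y * g⁻¹ * (g * v * g⁻¹) = g * v * g⁻¹ * (g * y * g⁻¹) := fun {v} e => by
        calc g * y * g⁻¹ * (g * v * g⁻¹) = g * (y * v) * g⁻¹ := by group
          _ = _ := by rw [e]; group
      refine Subgroup.mem_inf.2 ⟨Subgroup.mem_inf.2 ⟨mem_Cz.2 ?_, mem_Cz.2 (cg (mem_Cz.1 h1.1))⟩,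
        mem_Cz.2 (cg (mem_Cz.1 h1.2))⟩
      have := cg (mem_Cz.1 h2)
      rwa [show g * m * g⁻¹ = z by rw [hmd]; group] at this
    · intro hx
      obtain ⟨hx1, h3⟩ := Subgroup.mem_inf.1 hx
      obtain ⟨h1, h2⟩ := Subgroup.mem_inf.1 hx1
      refine ⟨g⁻¹ * x * g, Subgroup.mem_inf.2 ⟨Subgroup.mem_inf.2 ⟨mem_Cz.2 (pull_comm.2 (mem_Cz.1 h2)),
        mem_Cz.2 (pull_comm.2 (mem_Cz.1 h3))⟩, mem_Cz.2 ?_⟩, by show g * (g⁻¹ * x * g) * g⁻¹ = x; group⟩
      refine pull_comm.2 ?_
      rw [show g * m * g⁻¹ = z by rw [hmd]; group]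
      exact mem_Cz.1 h1
  have hcard : Nat.card D = Nat.card Q := by
    rw [← hDm, ← hconj, Subgroup.card_map_of_injective (MulAut.conj g).injective,
      Subgroup.card_map_of_injective (MulAut.conj c).injective]
  set P := D ⊓ Hc z a with hP
  have hPi : Nat.card D ≤ 2 * Nat.card P := by
    have h := (P.subgroupOf D).card_mul_index
    rw [Nat.card_congr (Subgroup.subgroupOfEquivOfLe (show P ≤ D from inf_le_left)).toEquiv] at h
    have hle : P.relIndex D ≤ 2 := by
      rw [hP, Subgroup.inf_relIndex_left]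
      exact (Subgroup.relIndex_le_of_le_right (show D ≤ Cz z from inf_le_left.trans inf_le_left)
        Subgroup.index_ne_zero_of_finite).trans B.Hc_index
    calc Nat.card D = Nat.card P * P.relIndex D := h.symm
      _ ≤ Nat.card P * 2 := Nat.mul_le_mul_left _ hle
      _ = _ := mul_comm _ _
  set N := J ⊓ Cz k with hN
  have hPQ : P ≤ Q := fun x hx => by
    obtain ⟨h1, h2⟩ := Subgroup.mem_inf.1 hx
    exact Subgroup.mem_inf.2 ⟨h2, (Subgroup.mem_inf.1 (Subgroup.mem_inf.1 h1).1).2⟩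
  have hNQ : N ≤ Q := fun x hx => Subgroup.mem_inf.2 ⟨B.JH hx.1, hx.2⟩
  have h1 := (N.subgroupOf P).card_mul_index
  have h2 := (N.subgroupOf Q).card_mul_index
  rw [Nat.card_congr (Subgroup.subgroupOfEquivOfLe hNQ).toEquiv] at h2
  have hle : (N.subgroupOf P).index ≤ (N.subgroupOf Q).index :=
    Subgroup.relIndex_le_of_le_right hPQ Subgroup.index_ne_zero_of_finite
  have hNP : Nat.card ↥(N.subgroupOf P) ≤ Nat.card ↥(J ⊓ Cz b) :=
    Nat.card_le_card_of_injective (fun x : ↥(N.subgroupOf P) => (⟨((x : ↥P) : G),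
        Subgroup.mem_inf.2 ⟨(Subgroup.mem_inf.1 x.2).1, (Subgroup.mem_inf.1 (x : ↥P).2.1).2⟩⟩ : ↥(J ⊓ Cz b)))
      fun x y e => Subtype.ext (Subtype.ext (congrArg Subtype.val e :))
  have hN512 : 512 ≤ Nat.card N := by
    have h := (N.subgroupOf J).card_mul_index
    rw [Nat.card_congr (Subgroup.subgroupOfEquivOfLe (show N ≤ J from inf_le_left)).toEquiv, B.card] at h
    have hi : N.relIndex J ≤ 2 := by
      rw [hN, inf_comm, Subgroup.inf_relIndex_right]; exact cent_half B hk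
    have : 1024 ≤ Nat.card N * 2 := by rw [← h]; exact Nat.mul_le_mul_left _ hi
    omega
  by_contra hsmall
  have hb128 : Nat.card ↥(J ⊓ Cz b) ≤ 128 := by
    obtain ⟨n, hn⟩ := IsPGroup.iff_card.1 (B.two_J.to_le (inf_le_left : J ⊓ Cz b ≤ J))
    rw [hn] at hsmall ⊢
    have : n < 8 := by
      by_contra h
      exact hsmall (show (2 : ℕ) ^ 8 ≤ 2 ^ n from Nat.pow_le_pow_right (by norm_num) (by omega))
    exact (Nat.pow_le_pow_right (by norm_num) (show n ≤ 7 by omega)).trans (by norm_num)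
  have hP4 : 4 * Nat.card P ≤ Nat.card Q := by
    have e1 : Nat.card P ≤ 128 * (N.subgroupOf Q).index := by
      rw [← h1]; exact Nat.mul_le_mul (hNP.trans hb128) hle
    calc 4 * Nat.card P ≤ 512 * (N.subgroupOf Q).index := by omega
      _ ≤ Nat.card N * (N.subgroupOf Q).index := Nat.mul_le_mul_right _ hN512
      _ = Nat.card Q := h2
  have := Nat.card_pos (α := ↥Q)
  omega

/-- No conjugate of `z` with its mirror in `J`. -/
theorem no_J {g : G} (hk : g * z * g⁻¹ ∈ J) (hm : g⁻¹ * z * g ∈ J) (hne : g * z * g⁻¹ ≠ z) : False := by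
  classical
  set k := g * z * g⁻¹ with hkd
  obtain ⟨-, hbi, hbJ, -⟩ := C.inner_mirror B I (B.JC hk) hne (B.J_inner hm)
  set b := g * a * g⁻¹ with hbd
  have hb2 : b * b = 1 := by
    rw [hbd, show g * a * g⁻¹ * (g * a * g⁻¹) = g * (a * a) * g⁻¹ by group, B.aa]; group
  obtain ⟨k0, gb, hgb, hcard, hhalf, c, hc, hck⟩ := C.inner_size B hS hbi hbJ (by rw [hb2]; exact J.one_mem)
  have hMb := C.mat_inner B hbi.1 hgb
  have h256 := (C.cent_large B I hS hk hm hne).trans (C.card_cent_le B)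
  rw [← hbd] at h256
  cases k0
  swap
  · have := Finset.card_le_card (C.rcS_le B hMb)
    rw [hcard] at this
    simp only [cond_true] at this
    omega
  have hfull : C.rcS b = fixS (C.M.L gb) :=
    Finset.eq_of_subset_of_card_le (C.rcS_le B hMb) (by rw [hcard]; simp only [cond_false]; omega)
  set b' := c * b * c⁻¹ with hb'
  have hb'I : Inner π b' := B.inner_conj hc.1 hbi
  obtain ⟨gc, hgc⟩ := hc.2
  have hN := C.mat_inner B hc.1 hgc
  have hM' := C.mat_inner B hb'I.1 hck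
  have hfull' : ∀ v, app (linW gL (repW false)) v = v → C.RC b' v := by
    intro v hv
    have hsz := C.fix_conj B hMb hN hM'
    have hle : (C.rcS b).card ≤ (C.rcS b').card :=
      Finset.card_le_card_of_injOn (app (C.M.L gc)) (fun u hu =>
        Finset.mem_coe.2 (C.mem_rcS.2 (C.rc_conj B hN (C.mem_rcS.1 hu)))) fun u _ w _ e => by
        have := congrArg (app (C.M.L gc⁻¹)) e
        rwa [← app_comp, ← app_comp, ← C.M.mul, inv_mul_cancel, C.M.one, id_app, id_app] at this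
    have heq : C.rcS b' = fixS (C.M.L (evalW (repW false))) :=
      Finset.eq_of_subset_of_card_le (C.rcS_le B hM') (by rw [← hsz, ← hfull]; exact hle)
    refine C.mem_rcS.1 (heq ▸ mem_fixS.2 ?_)
    rw [C.L_nat B hS, natL_evalW, hv]
  obtain ⟨u0, hu0, hu0d⟩ := B.inner_lift (evalW dW)
  set j := u0 * b' * u0⁻¹ * b'⁻¹ with hj
  have hjJ : j ∈ J := by
    refine (B.aut_eq_one (mul_mem (mul_mem (mul_mem hu0.1 hb'I.1) (inv_mem hu0.1)) (inv_mem hb'I.1))).1 ?_
    rw [B.aut_mul (mul_mem (mul_mem hu0.1 hb'I.1) (inv_mem hu0.1)) (inv_mem hb'I.1),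
      B.aut_mul (mul_mem hu0.1 hb'I.1) (inv_mem hu0.1), B.aut_mul hu0.1 hb'I.1, B.aut_inv hu0.1,
      B.aut_inv hb'I.1, hu0d, hck, ← map_mul, dW_commute, map_mul]
    group
  have hr1 : linW gL (repW false) = gL 1 := by show comp (gL 1) idL = _; exact comp_id _
  have hperp0 : ∀ v, app (linW gL (repW false)) v = v → bb β (C.vec j) (app (linW gL dW) v) = false := by
    intro v hv
    obtain ⟨q, hq, hqv, hqb⟩ := hfull' v hv
    set q' := u0 * q * u0⁻¹ with hq'
    have hq'J : q' ∈ J := B.conjJ hu0.1 hq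
    have hq'v : C.vec q' = app (linW gL dW) v := by
      rw [hq', C.inner u0 hu0.1 _ hu0d q hq, hqv, C.L_nat B hS, natL_evalW]
    have hfix : app (linW gL (repW false)) (C.vec q') = C.vec q' := by
      rw [hq'v, ← natL_evalW, ← natL_evalW, ← app_comp, ← natL_mul, ← dW_commute, natL_mul, app_comp,
        natL_evalW, natL_evalW, hv]
    obtain ⟨p, hp, hpv, hpb⟩ := hfull' _ hfix
    have hd := C.vec_eq B hp hq'J hpv
    have hq'b : b' * q' = q' * b' := by
      rw [show q' = p * (p⁻¹ * q') by group]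
      exact ((show Commute b' p from hpb).mul_right (show Commute b' (p⁻¹ * q') from
        B.inZ_comm hd (B.inner_Hc hb'I))).eq
    have hju : j * b' * q' = q' * (j * b') := by
      rw [hj, hq', show u0 * b' * u0⁻¹ * b'⁻¹ * b' * (u0 * q * u0⁻¹) = u0 * (b' * q) * u0⁻¹ by group, hqb]
      group
    have hjq : j * q' = q' * j := by
      calc j * q' = j * (q' * b') * b'⁻¹ := by group
        _ = j * b' * q' * b'⁻¹ := by rw [← hq'b]; group
        _ = _ := by rw [hju]; group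
    have h := (C.comm_iff B hjJ hq'J).1 hjq
    rw [hq'v] at h
    exact h
  have hDfix : ∀ v, app (linW gL (repW false)) v = v →
      app (linW gL (repW false)) (app (linW gL dW) v) = app (linW gL dW) v := fun v hv => by
    rw [← natL_evalW, ← natL_evalW, ← app_comp, ← natL_mul, ← dW_commute, natL_mul, app_comp, natL_evalW,
      natL_evalW, hv]
  have hperp : ∀ v, app (linW gL (repW false)) v = v → bb β (C.vec j) v = false := by
    intro v hv
    have h := hperp0 _ (hDfix _ (hDfix v hv))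
    have e : app (linW gL dW) (app (linW gL dW) (app (linW gL dW) v)) = v := by
      rw [← natL_evalW, ← app_comp, ← app_comp, ← natL_mul, ← natL_mul, mul_assoc, dW_cube, natL_one, id_app]
    rwa [e] at h
  obtain ⟨p, hp⟩ := perp_image (C.vec j) (by
    rw [List.all_eq_true]
    intro w _
    by_cases hw : app (gL 1) w = w
    · have := hperp w (by rw [hr1, hw])
      have hb : ∀ v w, bb bA v w = bb β v w := fun v w => by rw [(C.natA B hS).1]
      simp [hb, this]
    · simp [hw])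
  obtain ⟨q, hq, hqp⟩ := C.surj p
  set u1 := q⁻¹ * u0 with hu1
  have hu1I : Inner π u1 :=
    (B.inner_iff (B.JC (J.inv_mem hq)) hu0.1).2 ⟨fun _ => hu0, fun _ => B.J_inner (J.inv_mem hq)⟩
  set t := u1 * b' * u1⁻¹ * b'⁻¹ with ht
  have ht' : t = q⁻¹ * j * (b' * q * b'⁻¹) := by rw [ht, hu1, hj]; group
  have hbq := B.conjJ hb'I.1 hq
  have htZ : InZ z a t := by
    rw [ht']
    refine C.ker _ (J.mul_mem (J.mul_mem (J.inv_mem hq) hjJ) hbq) ?_
    rw [C.mul _ (J.mul_mem (J.inv_mem hq) hjJ) _ hbq, C.mul _ (J.inv_mem hq) _ hjJ, C.vec_inv B hq, hqp,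
      hM'.2 q hq, hqp, C.L_nat B hS, natL_evalW, hr1, ← hp, xr_comm (app (gL 1) p) p, xr_cancel, xr_self]
  have hut : u1 * t * u1⁻¹ = t := by rw [B.inZ_comm htZ (B.inner_Hc hu1I)]; group
  have e2 : u1 * b' * u1⁻¹ = t * b' := by rw [ht]; group
  have hit : ∀ n : ℕ, u1 ^ n * b' * (u1 ^ n)⁻¹ = t ^ n * b' := by
    intro n
    induction n with
    | zero => simp
    | succ n ih =>
      have htn : u1 * t ^ n * u1⁻¹ = t ^ n := by rw [← conj_pow, hut]
      calc u1 ^ (n + 1) * b' * (u1 ^ (n + 1))⁻¹ = u1 * (u1 ^ n * b' * (u1 ^ n)⁻¹) * u1⁻¹ := by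
            rw [pow_succ']; group
        _ = (u1 * t ^ n * u1⁻¹) * (u1 * b' * u1⁻¹) := by rw [ih]; group
        _ = _ := by rw [htn, e2, pow_succ]; group
  set u := u1 ^ 4 with hu
  have hub : u * b' = b' * u := by
    have := hit 4
    rw [show (4 : ℕ) = 2 * 2 from rfl, pow_mul t, pow_two t, B.inZ_sq htZ, one_pow, one_mul] at this
    exact mul_inv_eq_iff_eq_mul.1 this
  have hud : aut z π u = MulAut.conj (evalW dW) := by
    have hu1d : aut z π u1 = MulAut.conj (evalW dW) := by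
      rw [hu1, B.aut_mul (B.JC (J.inv_mem hq)) hu0.1, B.aut_J (J.inv_mem hq), one_mul, hu0d]
    have e : u = u1 * u1 * (u1 * u1) := by
      simp only [hu, show (4 : ℕ) = 0 + 1 + 1 + 1 + 1 from rfl, pow_succ, pow_zero, one_mul, mul_assoc]
    rw [e, B.aut_mul (mul_mem hu1I.1 hu1I.1) (mul_mem hu1I.1 hu1I.1), B.aut_mul hu1I.1 hu1I.1, hu1d, ← map_mul,
      ← map_mul, mul_assoc, dW_cube, mul_one]
  have huC : u ∈ Cz z := pow_mem hu1I.1 4
  -- it commutes with the conjugate of `k`, moving its vector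
  set v' := c⁻¹ * u * c with hv'
  have hv'C : v' ∈ Cz z := mul_mem (mul_mem (inv_mem hc.1) huC) hc.1
  have hv'b : v' * b = b * v' := by
    calc v' * b = c⁻¹ * (u * b') * c := by rw [hv', hb']; group
      _ = _ := by rw [hub, hv', hb']; group
  have ho := I.oddA (g⁻¹ * v' * g) (mem_Cz.2 (pull_comm.2 hv'b))
  have hk2 := B.conj_sq g
  rw [← MulEquiv.orderOf_eq (MulAut.conj g),
    show MulAut.conj g (g⁻¹ * v' * g * z * (g⁻¹ * v' * g)⁻¹ * z) = v' * k * v'⁻¹ * k by
      simp only [MulAut.conj_apply, hkd]; group] at ho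
  have hJ : v' * k * v'⁻¹ * k ∈ J := J.mul_mem (B.conjJ hv'C hk) hk
  obtain ⟨n, hn⟩ := B.two_J ⟨_, hJ⟩
  have h1 := odd_two_pow ho (congrArg Subtype.val hn)
  have hv'k : v' * k * v'⁻¹ = k := by
    calc v' * k * v'⁻¹ = v' * k * v'⁻¹ * k * k⁻¹ := by group
      _ = k := by rw [h1, one_mul, inv_eq_of_mul_eq_one_right hk2]
  set k' := c * k * c⁻¹ with hk'
  have hk'J : k' ∈ J := B.conjJ hc.1 hk
  have huk : u * k' * u⁻¹ = k' := by
    calc u * k' * u⁻¹ = c * (v' * k * v'⁻¹) * c⁻¹ := by rw [hk', hv']; group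
      _ = _ := by rw [hv'k]
  have hfx := C.inner u huC _ hud k' hk'J
  rw [huk, C.L_nat B hS, natL_evalW] at hfx
  have h0 := dW_facts.2.2.2 (C.vec k')
  rw [← hfx, ← hfx, xr_self, xr_zero] at h0
  have hz := C.ker _ hk'J h0
  refine hne (B.z_unique ?_)
  have : k = c⁻¹ * k' * c := by rw [hk']; group
  rw [← hkd, this, mul_assoc, ← B.inZ_comm hz (B.inner_Hc hc), ← mul_assoc, inv_mul_cancel, one_mul]
  exact hz

/-- No other conjugate. -/
theorem isoA (g : G) (hk : g * z * g⁻¹ ∈ Cz z) : g * z * g⁻¹ = z := by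
  classical
  by_contra hne
  -- inner conjugates or inner mirrors are impossible
  have hout : ∀ {g : G}, g * z * g⁻¹ ∈ Cz z → g * z * g⁻¹ ≠ z →
      ¬ Inner π (g * z * g⁻¹) ∧ ¬ Inner π (g⁻¹ * z * g) := by
    intro g hk hne
    constructor <;> intro hi
    · obtain ⟨h1, h2⟩ := C.inner_conj_J B I hk hne (Or.inl hi)
      exact C.no_J B I hS h1 h2 hne
    · obtain ⟨h1, h2⟩ := C.inner_conj_J B I hk hne (Or.inr hi)
      exact C.no_J B I hS h1 h2 hne
  set k := g * z * g⁻¹ with hkd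
  have hko := (hout hk hne).1
  obtain ⟨g4, ⟨hg4, -⟩ | ⟨-, hM⟩⟩ := C.mat_exists B hk
  · exact hko ⟨hk, g4, hg4⟩
  set M := comp (C.M.L g4) σ with hMdef
  -- the fixed space is small
  obtain ⟨v, hvM, hvb⟩ : ∃ v, app M v ≠ v ∧ bb β v (app M v) = false := by
    by_contra hno
    push Not at hno
    have hall : ∀ v, bb β v (app M v) = false → app M v = v := fun v hv =>
      not_not.1 fun h => hno v h hv
    let F : V8 → Bool := fun v => bb β v (app M v)
    have hMM : comp M M = idL := C.mat_unique B (C.mat_mul B hM hM) ((B.conj_sq g).symm ▸ C.mat_J B J.one_mem)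
    have hadd : ∀ v w, F (xr v w) = (F v ^^ F w) := fun v w => by
      have e : bb β w (app M v) = bb β v (app M w) := by
        rw [← C.mat_bb B hM w (app M v), ← app_comp, hMM, id_app, C.bil.bb_comm]
      simp only [F, app_xr, C.bil.bb_left, C.bil.bb_right, e]
      cases bb β v (app M v) <;> cases bb β v (app M w) <;> cases bb β w (app M w) <;> rfl
    have hR : ∀ v ∈ fixS M, app (comp (C.M.L g4) σ) v = v := fun v hv => mem_fixS.1 hv
    have hsq := C.out_square B hS hR (fun v hv w hw => mem_fixS.2 (by rw [app_xr, mem_fixS.1 hv, mem_fixS.1 hw]))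
      (Finset.subset_univ _) (fun _ _ _ _ => Finset.mem_univ _) (fun _ _ => Finset.mem_univ _)
    rw [Finset.card_univ, Fintype.card_fin] at hsq
    have h128 : 128 ≤ (fixS M).card := by
      by_cases hz : ∀ v, F v = false
      · rw [show fixS M = Finset.univ from Finset.eq_univ_iff_forall.2 fun v => mem_fixS.2 (hall v (hz v)),
          Finset.card_univ, Fintype.card_fin]
        norm_num
      push Not at hz
      obtain ⟨w0, hw0⟩ := hz
      rw [ne_eq, Bool.not_eq_false] at hw0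
      have h1 : (Finset.univ.filter fun v => ¬ F v = false).card ≤ (fixS M).card := by
        refine Finset.card_le_card_of_injOn (xr w0) (fun v hv => ?_) fun v _ u _ e => xr_left_cancel e
        have hv' := (Finset.mem_filter.1 hv).2
        rw [Bool.not_eq_false] at hv'
        exact Finset.mem_coe.2 (mem_fixS.2 (hall _ (by
          show F (xr w0 v) = false
          rw [hadd, hw0, hv']; rfl)))
      have h2 : (Finset.univ.filter fun v => F v = false).card ≤ (fixS M).card :=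
        Finset.card_le_card fun v hv => mem_fixS.2 (hall v (Finset.mem_filter.1 hv).2)
      have h3 := Finset.card_filter_add_card_filter_not (s := (Finset.univ : Finset V8)) (p := fun v => F v = false)
      rw [Finset.card_univ, Fintype.card_fin] at h3
      omega
    have := Nat.mul_le_mul h128 h128
    omega
  obtain ⟨h, hh, hhv⟩ := C.surj v
  set k1 := h * k * h⁻¹ with hk1
  set cc := k1 * k with hcc
  have hk2 := B.conj_sq g
  rw [← hkd] at hk2
  have hki : k⁻¹ = k := inv_eq_of_mul_eq_one_right hk2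
  have hccJ : cc ∈ J := by
    rw [hcc, hk1, show h * k * h⁻¹ * k = h * (k * h⁻¹ * k) by group]
    nth_rewrite 2 [← hki]
    exact J.mul_mem hh (B.conjJ hk (J.inv_mem hh))
  have hccv : C.vec cc = xr v (app M v) := by
    have e : cc = h * (k * h⁻¹ * k⁻¹) := by rw [hcc, hk1, hki]; group
    rw [e, C.mul h hh _ (B.conjJ hk (J.inv_mem hh)), hM.2 _ (J.inv_mem hh), C.vec_inv B hh, hhv]
  have hccne : C.vec cc ≠ 0 := fun e => hvM (by rw [hccv, xr_eq_zero] at e; exact e.symm)
  have hcc2 : cc * cc = 1 := by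
    rw [C.sq cc hccJ, hccv, C.bil.qq_xr, C.mat_qq B hM, hvb, Bool.xor_false, Bool.xor_self]
    rfl
  have hk12 : k1 * k1 = 1 := by rw [hk1, show h * k * h⁻¹ * (h * k * h⁻¹) = h * (k * k) * h⁻¹ by group, hk2]; group
  have hcomm : k1 * k = k * k1 := by
    have e : (k1 * k)⁻¹ = k * k1 := by rw [mul_inv_rev, hki, inv_eq_of_mul_eq_one_right hk12]
    rw [← e]
    exact (inv_eq_of_mul_eq_one_right hcc2).symm
  -- the preimage of the second conjugate
  set x := g⁻¹ * k1 * g with hx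
  have hxC : x ∈ Cz z := mem_Cz.2 (pull_comm.2 hcomm)
  have hxe : g⁻¹ * h * g * z * (g⁻¹ * h * g)⁻¹ = x := by rw [hx, hk1, hkd]; group
  have hxne : g⁻¹ * h * g * z * (g⁻¹ * h * g)⁻¹ ≠ z := by
    rw [hxe]
    intro e
    have hk1k : k1 = k := by
      calc k1 = g * x * g⁻¹ := by rw [hx]; group
        _ = k := by rw [e]
    refine hccne ?_
    rw [hcc, hk1k, hk2]; exact C.vec_one B
  obtain ⟨-, hmo⟩ := hout (g := g⁻¹ * h * g) (by rw [hxe]; exact hxC) hxne
  set g' := g⁻¹ * h * g with hg'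
  set m' := g'⁻¹ * z * g' with hm'
  have hm'C : m' ∈ Cz z := B.mirror_Cz (by rw [hxe]; exact hxC)
  have hma : a * m' * a = m' * z := by
    have hsw : m' * a * m'⁻¹ = z * a := (B.a_perm hm'C).resolve_left fun e =>
      hmo (I.fix _ hm'C (mul_inv_eq_iff_eq_mul.1 e))
    have h1 : m' * a = z * a * m' := mul_inv_eq_iff_eq_mul.1 hsw
    calc a * m' * a = a * (z * a * m') := by rw [← h1]; group
      _ = a * z * a * m' := by group
      _ = z * (a * a) * m' := by rw [← B.za]; group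
      _ = _ := by rw [B.aa, mul_one, mem_Cz.1 hm'C]
  -- so the product of `z` and the preimage is a conjugate of `z`
  set g'' := g * (g' * a * g'⁻¹) with hg''
  have hc2 : g'' * z * g''⁻¹ = cc := by
    have e1 : g' * a * g'⁻¹ * z * (g' * a * g'⁻¹)⁻¹ = g' * (a * m' * a) * g'⁻¹ := by
      rw [hm', show (g' * a * g'⁻¹)⁻¹ = g' * a⁻¹ * g'⁻¹ by group, inv_eq_of_mul_eq_one_right B.aa]; group
    calc g'' * z * g''⁻¹ = g * (g' * a * g'⁻¹ * z * (g' * a * g'⁻¹)⁻¹) * g⁻¹ := by rw [hg'']; group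
      _ = g * (g' * (m' * z) * g'⁻¹) * g⁻¹ := by rw [e1, hma]
      _ = g * (z * x) * g⁻¹ := by rw [hm', ← hxe]; group
      _ = k * k1 := by rw [hx, hkd]; group
      _ = _ := by rw [← hcomm]
  have hcne : g'' * z * g''⁻¹ ≠ z := fun e => hccne (by rw [← hc2, e, C.vz])
  exact (hout (g := g'') (by rw [hc2]; exact B.JC hccJ) hcne).1 (by rw [hc2]; exact B.J_inner hccJ)

end Crd

end CfsgLib.FiTwoType
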