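import Cfsg.Agent.Lib.FiTwoType.Share

/-!
The two involutions swapped, both quotients with `z` isolated: inner conjugates lie in `J`.
-/

set_option autoImplicit false
set_option linter.unusedSectionVars false
set_option linter.style.haveILetI false
set_option maxRecDepth 100000

open Cfsg CfsgLib.Extraspecial CfsgLib.USixType CfsgLib.USixTwo

namespace CfsgLib.FiTwoType

/-- The hypotheses of this case: the centraliser of `a` induces inner automorphisms, and both are odd. -/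
structure IsoSwap {G : Type*} [Group G] (z a : G) (π : ↥(Cz z) →* MulAut G4) : Prop where
  fix : ∀ x ∈ Cz z, x * a = a * x → Inner π x
  oddA : OddIso z a
  oddZ : OddIso z (z * a)

namespace Crd

variable {G : Type*} [Group G] [Finite G] {z a : G} {J : Subgroup G} {π : ↥(Cz z) →* MulAut G4}
  {β : V8 → V8 → Bool} {S : Fin 5 → Lin} {σ : Lin} (C : Crd z a J π β S σ) (B : Big z a J π)
include C B

/-- A square of an element fixing the central involutions fixes a lift of the top vector. -/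
theorem sq_top (hS : S = wL) {c q : G} (hc : c ∈ Hc z a) (hq : q ∈ J) (hqv : C.vec q = 192) :
    c * c * q = q * (c * c) := by
  obtain ⟨M, hM, h1⟩ := C.mat_top B hS hc.1
  obtain ⟨t, ht, q', hq', hqv', hqt⟩ := C.lf_exists B hM h1
  have hd := C.vec_eq B hq' hq (hqv'.trans hqv.symm)
  have htw : c * t * c⁻¹ = t := by rw [B.inZ_comm ht hc]; group
  have hdd : c * c * (q'⁻¹ * q) = q'⁻¹ * q * (c * c) := B.inZ_comm hd (mul_mem hc hc)
  have hq1 : c * c * q' = q' * (c * c) := by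
    refine mul_inv_eq_iff_eq_mul.1 ?_
    calc c * c * q' * (c * c)⁻¹ = c * (c * q' * c⁻¹) * c⁻¹ := by group
      _ = c * (q' * t) * c⁻¹ := by rw [hqt]
      _ = c * q' * c⁻¹ * (c * t * c⁻¹) := by group
      _ = q' * (t * t) := by rw [hqt, htw]; group
      _ = _ := by rw [B.inZ_sq ht, mul_one]
  calc c * c * q = c * c * q' * (q'⁻¹ * q) := by group
    _ = q' * (c * c * (q'⁻¹ * q)) := by rw [hq1]; group
    _ = _ := by rw [hdd]; group

variable (I : IsoSwap z a π)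
include I

/-- An outer conjugate has no inner mirror. -/
theorem outer_false {g : G} (hk : g * z * g⁻¹ ∈ Cz z) (hko : ¬ Inner π (g * z * g⁻¹))
    (hb : g * a * g⁻¹ ∈ Cz z) (hbJ : g * a * g⁻¹ ∉ J) (hwJ : g * (z * a) * g⁻¹ ∉ J) : False := by
  obtain ⟨hbw, hwb, hbk⟩ := B.share I.oddA I.oddZ hk
  have hw := B.w_Cz hk hb
  have hwe : g * (z * a) * g⁻¹ = g * z * g⁻¹ * (g * a * g⁻¹) := by group
  have sq : ∀ {v : G}, v * v = 1 → g * v * g⁻¹ * (g * v * g⁻¹) = 1 := fun {v} hv => by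
    rw [show g * v * g⁻¹ * (g * v * g⁻¹) = g * (v * v) * g⁻¹ by group, hv]; group
  have hxor : ¬ (Inner π (g * a * g⁻¹) ↔ Inner π (g * (z * a) * g⁻¹)) := by
    rw [hwe, B.inner_iff hk hb]
    tauto
  obtain ⟨x, y, hx, hxJ, hx2, hy, hyo, hxy, hxb⟩ : ∃ x y, Inner π x ∧ x ∉ J ∧ x * x = 1 ∧ y ∈ Cz z ∧
      ¬ Inner π y ∧ (∀ q ∈ J, x * q = q * x → y * q = q * y) ∧
      ∀ q ∈ J, x * q = q * x → g * a * g⁻¹ * q = q * (g * a * g⁻¹) := by
    by_cases hbi : Inner π (g * a * g⁻¹)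
    · exact ⟨_, _, hbi, hbJ, sq B.aa, hw, fun h => hxor ⟨fun _ => h, fun _ => hbi⟩, hbw, fun _ _ h => h⟩
    · refine ⟨_, _, ?_, hwJ, sq B.zaza, hb, hbi, hwb, hwb⟩
      by_contra h
      exact hxor ⟨fun h' => absurd h' hbi, fun h' => absurd h' h⟩
  rcases (kind_beta C.kind).2 with h | h
  · exact C.inn_out B h hx (fun hz => hxJ (B.inZ_J hz)) (by rw [hx2]; exact J.one_mem) hy hyo hxy
  · obtain ⟨w0, hw0, hw0z, hxw⟩ := C.root_inner B h hx hxJ (by rw [hx2]; exact J.one_mem)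
    have h1 := hxb w0 hw0 hxw
    have h2 := hbk w0 hw0 h1
    obtain ⟨q, hq, hqv⟩ := C.surj 192
    have hqq : q * q = z := C.sq_z B hq (by rw [hqv]; exact (top_sigma C.kind h).2)
    have hws : g⁻¹ * w0 * g ∈ Hc z a :=
      Subgroup.mem_inf.2 ⟨mem_Cz.2 (pull_comm.2 h2.symm), mem_Cz.2 (pull_comm.2 h1.symm)⟩
    have hm := C.sq_top B h hws hq hqv
    rw [show g⁻¹ * w0 * g * (g⁻¹ * w0 * g) = g⁻¹ * (w0 * w0) * g by group, hw0z] at hm
    have hqs : g * q * g⁻¹ ∈ Cz z := mem_Cz.2 (by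
      calc g * q * g⁻¹ * z = g * (q * (g⁻¹ * z * g)) * g⁻¹ := by group
        _ = _ := by rw [← hm]; group)
    refine hko ?_
    have := B.sq_inner hqs
    rwa [show g * q * g⁻¹ * (g * q * g⁻¹) = g * (q * q) * g⁻¹ by group, hqq] at this

/-- With inner mirror a conjugate lies in `J`, the other two images being inner and outside. -/
theorem inner_mirror {g : G} (hk : g * z * g⁻¹ ∈ Cz z) (hne : g * z * g⁻¹ ≠ z)
    (hm : Inner π (g⁻¹ * z * g)) :
    g * z * g⁻¹ ∈ J ∧ Inner π (g * a * g⁻¹) ∧ g * a * g⁻¹ ∉ J ∧ g * (z * a) * g⁻¹ ∉ J := by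
  obtain ⟨hbw, hwb, hbk⟩ := B.share I.oddA I.oddZ hk
  have hb := B.b_Cz (mem_Cz.1 (B.inner_Hc hm).2)
  obtain ⟨hbJ, hwJ⟩ := C.none_J B hne hk hb hbw hwb hbk
  by_cases hki : Inner π (g * z * g⁻¹)
  swap
  · exact (C.outer_false B I hk hki hb hbJ hwJ).elim
  have hbi : Inner π (g * a * g⁻¹) := by
    refine I.fix _ hb (mul_inv_eq_iff_eq_mul.1 ?_)
    by_contra hno
    have e := (B.a_perm hb).resolve_left hno
    have has : g⁻¹ * a * g ∈ Cz z := mem_Cz.2 (pull_comm.2 (mem_Cz.1 (B.inner_Hc hki).2).symm)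
    set as := g⁻¹ * a * g with hasd
    have e1 : a * as * a⁻¹ * as⁻¹ = g⁻¹ * z * g := by
      calc a * as * a⁻¹ * as⁻¹ = g⁻¹ * (g * a * g⁻¹ * a * (g * a * g⁻¹)⁻¹ * a⁻¹) * g := by rw [hasd]; group
        _ = _ := by rw [e]; group
    have hai : a⁻¹ = a := inv_eq_of_mul_eq_one_right B.aa
    rw [show a * as * a⁻¹ * as⁻¹ = a * (as * a⁻¹ * as⁻¹) by group, hai] at e1
    rcases B.a_perm has with h | h <;> rw [h] at e1
    · rw [B.aa] at e1
      refine B.zne ?_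
      calc z = g * (g⁻¹ * z * g) * g⁻¹ := by group
        _ = 1 := by rw [← e1]; group
    · rw [B.za, ← mul_assoc, B.aa, one_mul] at e1
      exact B.mirror_ne hne e1.symm
  refine ⟨?_, hbi, hbJ, hwJ⟩
  by_contra hkJ
  exact C.inner_false B hki hbi hkJ hbJ hwJ hbw hwb hbk I.oddZ

/-- Inner conjugates lie in `J` with their mirrors. -/
theorem inner_conj_J {g : G} (hk : g * z * g⁻¹ ∈ Cz z) (hne : g * z * g⁻¹ ≠ z)
    (hi : Inner π (g * z * g⁻¹) ∨ Inner π (g⁻¹ * z * g)) : g * z * g⁻¹ ∈ J ∧ g⁻¹ * z * g ∈ J := by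
  have hm : g⁻¹ * z * g⁻¹⁻¹ ∈ Cz z := by rw [inv_inv]; exact B.mirror_Cz hk
  have hmne : g⁻¹ * z * g⁻¹⁻¹ ≠ z := by rw [inv_inv]; exact B.mirror_ne hne
  have hmir : Inner π (g * z * g⁻¹) → g⁻¹ * z * g ∈ J := fun h => by
    have := (C.inner_mirror B I hm hmne (by rwa [inv_inv])).1
    rwa [inv_inv] at this
  rcases hi with h | h
  · have hmJ := hmir h
    exact ⟨(C.inner_mirror B I hk hne (B.J_inner hmJ)).1, hmJ⟩
  · have hkJ := (C.inner_mirror B I hk hne h).1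
    exact ⟨hkJ, hmir (B.J_inner hkJ)⟩

end Crd

end CfsgLib.FiTwoType
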