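import Cfsg.Agent.Lib.FiTwoType.IsoNat

/-!
The two involutions swapped, both odd: `z` is isolated.
-/

set_option autoImplicit false
set_option linter.unusedSectionVars false
set_option linter.style.haveILetI false
set_option maxRecDepth 100000

open Cfsg CfsgLib.Extraspecial CfsgLib.USixType CfsgLib.USixTwo

namespace CfsgLib.FiTwoType

namespace Crd

variable {G : Type*} [Group G] [Finite G] {z a : G} {J : Subgroup G} {π : ↥(Cz z) →* MulAut G4}
  {β : V8 → V8 → Bool} {S : Fin 5 → Lin} {σ : Lin} (C : Crd z a J π β S σ) (B : Big z a J π)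
  (I : IsoSwap z a π) (hS : S = wL)
include C B I hS

/-- Conjugates with their mirrors lie in `J`. -/
theorem conj_J {g : G} (hk : g * z * g⁻¹ ∈ Cz z) (hne : g * z * g⁻¹ ≠ z) :
    g * z * g⁻¹ ∈ J ∧ g⁻¹ * z * g ∈ J := by
  set k := g * z * g⁻¹ with hkd
  refine C.inner_conj_J B I hk hne ?_
  by_contra hno
  push Not at hno
  obtain ⟨hko, hmo⟩ := hno
  have hswap : k * a * k⁻¹ = z * a :=
    (B.a_perm hk).resolve_left fun e => hko (I.fix _ hk (mul_inv_eq_iff_eq_mul.1 e))
  have hkz : k * z * k⁻¹ = z := by rw [mem_Cz.1 hk]; group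
  obtain ⟨M, hM, h1⟩ := C.mat_top B hS hk
  obtain ⟨t, ht, y, hy, hyv, hyt⟩ := C.lf_exists B hM h1
  have hk2 : k * k = 1 := B.conj_sq g
  have ht2 : t * (k * t * k⁻¹) = 1 := by
    have e : k * (k * y * k⁻¹) * k⁻¹ = y := by
      calc k * (k * y * k⁻¹) * k⁻¹ = (k * k) * y * (k * k)⁻¹ := by group
        _ = y := by rw [hk2]; group
    rw [hyt, show k * (y * t) * k⁻¹ = k * y * k⁻¹ * (k * t * k⁻¹) by group, hyt, mul_assoc] at e
    exact mul_eq_left.1 e
  have hyy : y * y = z := C.sq_z B hy (by rw [hyv]; exact (top_sigma C.kind hS).2)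
  obtain ⟨w, hw, hww, hwk⟩ : ∃ w ∈ J, w * w = z ∧ k * w * k⁻¹ = w := by
    rcases ht with e | e | e | e <;> rw [e] at hyt ht2
    · exact ⟨y, hy, hyy, hyt.trans (mul_one y)⟩
    · refine ⟨y * a, J.mul_mem hy B.aJ, ?_, ?_⟩
      · calc y * a * (y * a) = y * (a * y) * a := by group
          _ = y * y * (a * a) := by rw [← B.aC y hy]; group
          _ = z := by rw [hyy, B.aa, mul_one]
      · calc k * (y * a) * k⁻¹ = k * y * k⁻¹ * (k * a * k⁻¹) := by group
          _ = y * (z * z) * a := by rw [hyt, hswap]; group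
          _ = _ := by rw [B.zz, mul_one]
    · rw [hswap, B.za, ← mul_assoc, B.aa, one_mul] at ht2
      exact absurd ht2 B.zne
    · rw [show k * (z * a) * k⁻¹ = (k * z * k⁻¹) * (k * a * k⁻¹) by group, hkz, hswap, ← mul_assoc z z, B.zz,
        one_mul, mul_assoc, B.aa, mul_one] at ht2
      exact absurd ht2 B.zne
  refine hmo ?_
  have hwC : g⁻¹ * w * g ∈ Cz z := mem_Cz.2 (pull_comm.2 (mul_inv_eq_iff_eq_mul.1 hwk).symm)
  have := B.sq_inner hwC
  rwa [show g⁻¹ * w * g * (g⁻¹ * w * g) = g⁻¹ * (w * w) * g by group, hww] at this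

/-- No other conjugate. -/
theorem isoB (g : G) (hk : g * z * g⁻¹ ∈ Cz z) : g * z * g⁻¹ = z := by
  classical
  by_contra hne
  obtain ⟨hkJ, hmJ⟩ := C.conj_J B I hS hk hne
  set k := g * z * g⁻¹ with hkd
  set v := C.vec k with hv
  have hv0 : v ≠ 0 := fun h => hne (B.z_unique (C.ker k hkJ h))
  have qv : qq β v = false := C.qq_zero B hkJ (B.conj_sq g)
  by_cases hplane : planeF.contains v = true
  swap
  · have hsix : sixOK β = true := by
      have h := sixOK_all
      simp only [Bool.and_eq_true] at h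
      have hβ := (kind_beta C.kind).1
      simp only [List.mem_cons, List.not_mem_nil, or_false] at hβ
      rcases hβ with rfl | rfl
      exacts [h.1, h.2]
    have hs := List.all_eq_true.1 hsix v (List.mem_finRange v)
    simp only [qv, hplane, Bool.false_or, List.any_eq_true, Bool.and_eq_true, Bool.not_eq_true'] at hs
    obtain ⟨w1, -, w2, -, ⟨h1, h2⟩, h12⟩ := hs
    have hL : ∀ w, C.M.L (evalW w) = linW wL w := fun w => by subst hS; exact C.M.evalW_L w
    have step : ∀ w u, app (linW wL w) v = u → bb β u v = false → u ≠ v →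
        ∃ k1 ∈ J, C.vec k1 = u ∧ g⁻¹ * k1 * g ∈ J := by
      intro w u hu hperp hne'
      obtain ⟨c, hc, hcg⟩ := B.inner_lift (evalW w)
      have hk1J := B.conjJ hc.1 hkJ
      have hk1v : C.vec (c * k * c⁻¹) = u := by rw [C.inner c hc.1 _ hcg k hkJ, hL, ← hv, hu]
      have hcom : c * k * c⁻¹ * k = k * (c * k * c⁻¹) := (C.comm_iff B hk1J hkJ).2 (by rw [hk1v, ← hv]; exact hperp)
      have e : g⁻¹ * c * g * z * (g⁻¹ * c * g)⁻¹ = g⁻¹ * (c * k * c⁻¹) * g := by rw [hkd]; group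
      refine ⟨_, hk1J, hk1v, ?_⟩
      rw [← e]
      refine (C.conj_J B I hS (by rw [e]; exact mem_Cz.2 (pull_comm.2 hcom)) fun e' => hne' ?_).1
      rw [← hk1v, hv]
      congr 1
      calc c * k * c⁻¹ = g * (g⁻¹ * (c * k * c⁻¹) * g) * g⁻¹ := by group
        _ = k := by rw [← e, e', hkd]
    set u1 := app (linW wL w1) v
    set u2 := app (linW wL w2) v
    obtain ⟨k1, hk1, hk1v, hx1⟩ := step w1 u1 rfl h1 fun e => by
      rw [e, C.bil.bb_comm, h2] at h12; exact Bool.noConfusion h12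
    obtain ⟨k2, hk2, hk2v, hx2⟩ := step w2 u2 rfl h2 fun e => by
      rw [e, h1] at h12; exact Bool.noConfusion h12
    have hc12 := C.comm k1 hk1 k2 hk2
    rw [hk1v, hk2v, h12] at hc12
    change k1 * k2 * k1⁻¹ * k2⁻¹ = z at hc12
    have e : k1 * k2 * k1⁻¹ * k2⁻¹ = g * (g⁻¹ * k1 * g * (g⁻¹ * k2 * g) * (g⁻¹ * k1 * g)⁻¹ * (g⁻¹ * k2 * g)⁻¹) * g⁻¹ := by
      group
    rcases B.comm _ hx1 _ hx2 with h | h <;> rw [h, hc12] at e
    · exact B.zne (e.trans (by group))
    · exact hne (hkd.trans e.symm)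
  -- a vector fixed by all inner elements
  have hfixv : ∀ g4 : G4, app (C.M.L g4) v = v := by
    subst hS
    intro g4
    have hg : g4 ∈ Subgroup.closure (Set.range gen) := by rw [gen_top]; exact Subgroup.mem_top g4
    rw [← Subgroup.mem_toSubmonoid, Subgroup.closure_toSubmonoid_of_finite] at hg
    induction hg using Submonoid.closure_induction with
    | mem x hx =>
      obtain ⟨i, rfl⟩ := hx
      rw [C.M.gen_eq]
      exact plane_fix v (List.contains_iff_mem.1 hplane) i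
    | one => rw [C.M.one, id_app]
    | mul x y _ _ hx hy => rw [C.M.mul, app_comp, hy, hx]
  choose c hc hcg using B.inner_lift
  set tt : G → G := fun x => k⁻¹ * (x * k * x⁻¹) with htt
  have htZ : ∀ {x : G}, Inner π x → InZ z a (tt x) := fun {x} hx => by
    obtain ⟨g4, hg4⟩ := hx.2
    exact C.vec_eq B hkJ (B.conjJ hx.1 hkJ) (by rw [C.inner x hx.1 g4 hg4 k hkJ, ← hv, hfixv])
  have hmulZ : ∀ {x y : G}, Inner π x → Inner π y → tt (x * y) = tt x * tt y := fun {x y} hx hy => by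
    have e := B.inZ_comm (htZ hy) (B.inner_Hc hx)
    calc tt (x * y) = k⁻¹ * (x * (k * tt y) * x⁻¹) := by simp only [htt]; group
      _ = k⁻¹ * (x * k * x⁻¹) * (x * tt y * x⁻¹) := by group
      _ = _ := by rw [e]; simp only [htt]; group
  have hJt : ∀ {x : G}, x ∈ J → tt x = 1 ∨ tt x = z := fun {x} hx => by
    rcases B.comm k⁻¹ (J.inv_mem hkJ) x hx with e | e
    all_goals
      have e' : tt x = k⁻¹ * x * k * x⁻¹ := by simp only [htt]; group
      rw [show k⁻¹ * x * (k⁻¹)⁻¹ * x⁻¹ = k⁻¹ * x * k * x⁻¹ by group] at e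
    exacts [Or.inl (e'.trans e), Or.inr (e'.trans e)]
  have hcong : ∀ {x y : G}, Inner π x → Inner π y → aut z π x = aut z π y →
      ((tt x = 1 ∨ tt x = z) ↔ (tt y = 1 ∨ tt y = z)) := fun {x y} hx hy e => by
    have hj : x⁻¹ * y ∈ J := (B.aut_eq_one (mul_mem (inv_mem hx.1) hy.1)).1 (by
      rw [B.aut_mul (inv_mem hx.1) hy.1, B.aut_inv hx.1, e, inv_mul_cancel])
    have h := hmulZ hx (B.J_inner hj)
    rw [mul_inv_cancel_left] at h
    rw [h]
    rcases hJt hj with e' | e' <;> rw [e']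
    · rw [mul_one]
    · have hback : tt x * z * z = tt x := by rw [mul_assoc, B.zz, mul_one]
      constructor
      · rintro (p | p) <;> rw [p]
        exacts [Or.inr (one_mul z), Or.inl B.zz]
      · rintro (p | p) <;> rw [p] at hback
        exacts [Or.inr (hback.symm.trans (one_mul z)), Or.inl (hback.symm.trans B.zz)]
  let χ : G4 →* ℤˣ := MonoidHom.mk' (fun g4 => if tt (c g4) = 1 ∨ tt (c g4) = z then 1 else -1) fun g4 h4 => by
    have e := hcong (hc (g4 * h4)) ((B.inner_iff (hc g4).1 (hc h4).1).2 ⟨fun _ => hc h4, fun _ => hc g4⟩)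
      (by rw [hcg, B.aut_mul (hc g4).1 (hc h4).1, hcg, hcg, map_mul])
    rw [hmulZ (hc g4) (hc h4)] at e
    have key : ∀ {s t : G}, InZ z a s → InZ z a t →
        ((s * t = 1 ∨ s * t = z) ↔ ((s = 1 ∨ s = z) ↔ (t = 1 ∨ t = z))) := by
      intro s t hs ht
      have h1 := B.ane
      have h2 := B.haz
      have h3 := B.za_ne
      have f1 : a * z = z * a := B.za.symm
      have f2 : z * (z * a) = a := by rw [← mul_assoc, B.zz, one_mul]
      have f3 : a * (z * a) = z := by rw [B.za, ← mul_assoc, B.aa, one_mul]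
      have f4 : z * a * z = a := by rw [mul_assoc, f1, f2]
      have f5 : z * a * a = z := by rw [mul_assoc, B.aa, mul_one]
      rcases hs with rfl | rfl | rfl | rfl <;> rcases ht with rfl | rfl | rfl | rfl <;>
        simp [B.zz, B.aa, B.zaza, f1, f2, f3, f4, f5, h1, h2, h3.1, h3.2.2, B.zne, B.zne.symm]
    rw [key (htZ (hc g4)) (htZ (hc h4))] at e
    by_cases p1 : tt (c g4) = 1 ∨ tt (c g4) = z <;> by_cases p2 : tt (c h4) = 1 ∨ tt (c h4) = z <;>
      simp [p1, p2, e]
  have hlift : ∀ h4 : G4, ∃ x ∈ Cz z ⊓ Cz k, aut z π x = MulAut.conj h4 := by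
    intro h4
    have h1 : χ h4 = 1 := hom_trivial χ (fun _ _ => mul_comm _ _) h4
    have hp : tt (c h4) = 1 ∨ tt (c h4) = z := by
      by_contra hp
      have : χ h4 = -1 := if_neg hp
      rw [h1] at this
      exact absurd this (by decide)
    rcases hp with e | e
    · refine ⟨c h4, Subgroup.mem_inf.2 ⟨(hc h4).1, mem_Cz.2 (mul_inv_eq_iff_eq_mul.1 ?_)⟩, hcg h4⟩
      exact (inv_mul_eq_one.1 e).symm
    · obtain ⟨j, hj, hjk⟩ : ∃ j ∈ J, j * k * j⁻¹ * k⁻¹ = z := by
        by_contra hno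
        push Not at hno
        refine hne (B.z_unique (B.cent_inZ hk fun q hq => ?_))
        have := (B.comm q hq k hkJ).resolve_right (hno q hq)
        rw [mul_inv_eq_one, mul_inv_eq_iff_eq_mul] at this
        exact this.symm
      refine ⟨j * c h4, Subgroup.mem_inf.2 ⟨mul_mem (B.JC hj) (hc h4).1, mem_Cz.2 (mul_inv_eq_iff_eq_mul.1 ?_)⟩,
        by rw [B.aut_mul (B.JC hj) (hc h4).1, B.aut_J hj, one_mul, hcg]⟩
      have e1 : c h4 * k * (c h4)⁻¹ = k * z := by rw [← e, htt, mul_inv_cancel_left]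
      have e2 : j * k * j⁻¹ = z * k := mul_inv_eq_iff_eq_mul.1 hjk
      calc j * c h4 * k * (j * c h4)⁻¹ = j * (c h4 * k * (c h4)⁻¹) * j⁻¹ := by group
        _ = j * k * (z * j⁻¹) := by rw [e1]; group
        _ = j * k * j⁻¹ * z := by
          rw [((show Commute z j from (mem_Cz.1 (B.JC hj)).symm).inv_right).eq]; group
        _ = z * (k * z) := by rw [e2, mul_assoc]
        _ = k := by rw [mem_Cz.1 hk, ← mul_assoc, B.zz, one_mul]
  refine hne (B.fix_z (g := g) (C := Cz z ⊓ Cz (g⁻¹ * z * g)) (C' := Cz z ⊓ Cz k) inf_le_left inf_le_left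
    (fun x => ?_) hlift ?_)
  · simp only [Subgroup.mem_inf, mem_Cz]
    constructor
    · rintro ⟨h1, h2⟩
      constructor
      · calc g * x * g⁻¹ * z = g * (x * (g⁻¹ * z * g)) * g⁻¹ := by group
          _ = _ := by rw [h2]; group
      · calc g * x * g⁻¹ * k = g * (x * z) * g⁻¹ := by rw [hkd]; group
          _ = _ := by rw [h1, hkd]; group
    · rintro ⟨h1, h2⟩
      constructor
      · calc x * z = g⁻¹ * (g * x * g⁻¹ * k) * g := by rw [hkd]; group
          _ = _ := by rw [h2, hkd]; group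
      · calc x * (g⁻¹ * z * g) = g⁻¹ * (g * x * g⁻¹ * z) * g := by group
          _ = _ := by rw [h1]; group
  · have hle : J ⊓ (Cz z ⊓ Cz (g⁻¹ * z * g)) = J ⊓ Cz (g⁻¹ * z * g) := by
      rw [← inf_assoc, inf_eq_left.2 B.JC]
    have hi : (J ⊓ (Cz z ⊓ Cz (g⁻¹ * z * g))).relIndex J ≤ 2 := by
      rw [hle, inf_comm, Subgroup.inf_relIndex_right]; exact cent_half B hmJ
    obtain ⟨x, hx, y, hy, e⟩ := B.not_abelian inf_le_left hi
    exact ⟨x, hx, y, hy, e⟩

omit hS

/-- Both swapped involutions odd: isolation. -/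
theorem iso_swap (g : G) (hk : g * z * g⁻¹ ∈ Cz z) : g * z * g⁻¹ = z := by
  rcases (kind_beta C.kind).2 with h | h
  exacts [C.isoA B I h g hk, C.isoB B I h g hk]

end Crd

end CfsgLib.FiTwoType
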