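import Cfsg.Agent.Lib.FiTwoType.Crd

/-!
Matrices of elements of the centraliser and lifts of fixed vectors.
-/

set_option autoImplicit false
set_option linter.unusedSectionVars false
set_option linter.style.haveILetI false
set_option maxRecDepth 100000

open Cfsg CfsgLib.Extraspecial CfsgLib.USixType CfsgLib.USixTwo

namespace CfsgLib.FiTwoType

/-- Membership of `⟨z, a⟩`. -/
def InZ {G : Type*} [Group G] (z a x : G) : Prop := x = 1 ∨ x = z ∨ x = a ∨ x = z * a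

/-- An element inducing an inner automorphism. -/
def Inner {G : Type*} [Group G] {z : G} (π : ↥(Cz z) →* MulAut G4) (x : G) : Prop :=
  x ∈ Cz z ∧ ∃ g, aut z π x = MulAut.conj g

theorem aut_cases (m : MulAut G4) : ∃ g, m = MulAut.conj g ∨ m = MulAut.conj g * al := by
  by_cases h : m ∈ (MulAut.conj : G4 →* MulAut G4).range
  · obtain ⟨g, rfl⟩ := h
    exact ⟨g, Or.inl rfl⟩
  · have h2 : m * al⁻¹ ∈ (MulAut.conj : G4 →* MulAut G4).range :=
      (Subgroup.mul_mem_iff_of_index_two conj_index).2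
        ⟨fun h' => absurd h' h, fun h' => absurd ((inv_mem_iff).1 h') al_outer⟩
    obtain ⟨g, hg⟩ := h2
    exact ⟨g, Or.inr (by rw [hg, inv_mul_cancel_right])⟩

theorem inner_outer {g h : G4} (e : MulAut.conj g = MulAut.conj h * al) : False :=
  al_outer ⟨h⁻¹ * g, by rw [map_mul, map_inv, e, inv_mul_cancel_left]⟩

namespace Big

variable {G : Type*} [Group G] [Finite G] {z a : G} {J : Subgroup G} {π : ↥(Cz z) →* MulAut G4}
  (B : Big z a J π)
include B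

theorem inZ_J {x : G} (h : InZ z a x) : x ∈ J := by
  rcases h with rfl | rfl | rfl | rfl
  exacts [J.one_mem, B.zJ, B.aJ, J.mul_mem B.zJ B.aJ]

theorem inZ_sq {x : G} (h : InZ z a x) : x * x = 1 := by
  rcases h with rfl | rfl | rfl | rfl
  exacts [one_mul 1, B.zz, B.aa, B.zaza]

theorem inZ_comm {x y : G} (h : InZ z a x) (hy : y ∈ Hc z a) : y * x = x * y := by
  have h1 := mem_Cz.1 hy.1
  have h2 := mem_Cz.1 hy.2
  rcases h with rfl | rfl | rfl | rfl
  · simp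
  · exact h1
  · exact h2
  · exact (show Commute y (z * a) from (show Commute y z from h1).mul_right h2).eq

theorem inZ_J_comm {x y : G} (h : InZ z a x) (hy : y ∈ J) : y * x = x * y := B.inZ_comm h (B.JH hy)

theorem inner_Hc {x : G} (h : Inner π x) : x ∈ Hc z a :=
  Subgroup.mem_inf.2 ⟨h.1, mem_Cz.2 (by obtain ⟨g, hg⟩ := h.2; exact B.inner_fix h.1 hg)⟩

theorem J_inner {x : G} (h : x ∈ J) : Inner π x := ⟨B.JC h, 1, by rw [map_one]; exact B.aut_J h⟩

theorem inner_iff {x y : G} (hx : x ∈ Cz z) (hy : y ∈ Cz z) : Inner π (x * y) ↔ (Inner π x ↔ Inner π y) := by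
  have e : ∀ {w : G}, w ∈ Cz z → (Inner π w ↔ aut z π w ∈ (MulAut.conj : G4 →* MulAut G4).range) := fun {w} hw =>
    ⟨fun ⟨_, g, hg⟩ => ⟨g, hg.symm⟩, fun ⟨g, hg⟩ => ⟨hw, g, hg.symm⟩⟩
  rw [e hx, e hy, e ((Cz z).mul_mem hx hy), B.aut_mul hx hy]
  exact Subgroup.mul_mem_iff_of_index_two conj_index

theorem inner_inv {x : G} (hx : Inner π x) : Inner π x⁻¹ := by
  obtain ⟨hxC, g, hg⟩ := hx
  exact ⟨(Cz z).inv_mem hxC, g⁻¹, by rw [B.aut_inv hxC, hg, map_inv]⟩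

theorem inner_conj {c x : G} (hc : c ∈ Cz z) (hx : Inner π x) : Inner π (c * x * c⁻¹) := by
  obtain ⟨hxC, g, hg⟩ := hx
  refine ⟨(Cz z).mul_mem ((Cz z).mul_mem hc hxC) ((Cz z).inv_mem hc), aut z π c g, ?_⟩
  rw [B.aut_mul ((Cz z).mul_mem hc hxC) ((Cz z).inv_mem hc), B.aut_mul hc hxC, B.aut_inv hc, hg]
  exact conj_aut g _

theorem sq_inner {x : G} (hx : x ∈ Cz z) : Inner π (x * x) := (B.inner_iff hx hx).2 Iff.rfl

theorem inner_mat_ne {x : G} (hx : x ∈ Cz z) (hn : x ∉ J) {g : G4} (hg : aut z π x = MulAut.conj g) : g ≠ 1 :=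
  fun e => hn ((B.aut_eq_one hx).1 (by rw [hg, e, map_one]))

/-- An inner element squaring into `J` has the class of a representative. -/
theorem inner_rep {x : G} (hx : Inner π x) (hn : x ∉ J) (h2 : x * x ∈ J) :
    ∃ k m, aut z π x = MulAut.conj (m * evalW (repW k) * m⁻¹) := by
  obtain ⟨hxC, g, hg⟩ := hx
  have hne := B.inner_mat_ne hxC hn hg
  have hsq : g * g = 1 := conj_inj (by rw [map_mul, ← hg, map_one, ← B.aut_mul hxC hxC]; exact B.aut_J h2)
  obtain ⟨k, m, hm⟩ := inv_class (orderOf_eq_prime_iff.2 ⟨by rw [pow_two]; exact hsq, hne⟩)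
  exact ⟨k, m, hg.trans (congrArg _ hm)⟩

theorem inner_lift (g : G4) : ∃ c, Inner π c ∧ aut z π c = MulAut.conj g := by
  obtain ⟨c, hc, e⟩ := B.lift (MulAut.conj g)
  exact ⟨c, ⟨hc, g, e⟩, e⟩

theorem inner_fix_rep {x : G} (hx : Inner π x) (hn : x ∉ J) (h2 : x * x ∈ J) :
    ∃ k c, Inner π c ∧ aut z π (c * x * c⁻¹) = MulAut.conj (evalW (repW k)) := by
  obtain ⟨k, m, hm⟩ := B.inner_rep hx hn h2
  obtain ⟨c, hc, hcg⟩ := B.inner_lift m⁻¹
  refine ⟨k, c, hc, ?_⟩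
  rw [B.aut_mul ((Cz z).mul_mem hc.1 hx.1) ((Cz z).inv_mem hc.1), B.aut_mul hc.1 hx.1, B.aut_inv hc.1, hcg, hm,
    ← map_inv, ← map_mul, ← map_mul]
  congr 1
  group

end Big

namespace Crd

variable {G : Type*} [Group G] [Finite G] {z a : G} {J : Subgroup G} {π : ↥(Cz z) →* MulAut G4}
  {β : V8 → V8 → Bool} {S : Fin 5 → Lin} {σ : Lin} (C : Crd z a J π β S σ)

/-- The matrix of an element. -/
def Mat (c : G) (M : Lin) : Prop := c ∈ Cz z ∧ ∀ x ∈ J, C.vec (c * x * c⁻¹) = app M (C.vec x)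

/-- A lift of a vector multiplied by an element of the centre. -/
def Lf (x : G) (v : V8) (t : G) : Prop := ∃ q ∈ J, C.vec q = v ∧ x * q * x⁻¹ = q * t

/-- The vectors with a commuting lift. -/
def RC (x : G) (v : V8) : Prop := ∃ q ∈ J, C.vec q = v ∧ x * q = q * x

variable (B : Big z a J π)
include B

theorem vec_one : C.vec 1 = 0 := by
  have := C.mul 1 J.one_mem 1 J.one_mem
  rwa [one_mul, xr_self] at this

theorem vec_inv {x : G} (hx : x ∈ J) : C.vec x⁻¹ = C.vec x := by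
  have := C.mul x hx x⁻¹ (J.inv_mem hx)
  rw [mul_inv_cancel, C.vec_one B] at this
  exact (xr_eq_zero.1 this.symm).symm

theorem vec_inZ {x : G} (h : InZ z a x) : C.vec x = 0 := by
  rcases h with rfl | rfl | rfl | rfl
  exacts [C.vec_one B, C.vz, C.va, by rw [C.mul z B.zJ a B.aJ, C.vz, C.va, xr_self]]

theorem vec_eq {x y : G} (hx : x ∈ J) (hy : y ∈ J) (h : C.vec x = C.vec y) : InZ z a (x⁻¹ * y) :=
  C.ker _ (J.mul_mem (J.inv_mem hx) hy) (by rw [C.mul _ (J.inv_mem hx) y hy, C.vec_inv B hx, h, xr_self])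

theorem comm_iff {x y : G} (hx : x ∈ J) (hy : y ∈ J) : x * y = y * x ↔ bb β (C.vec x) (C.vec y) = false := by
  have h := C.comm x hx y hy
  constructor
  · intro e
    rw [show x * y * x⁻¹ * y⁻¹ = 1 by rw [e]; group] at h
    revert h
    cases bb β (C.vec x) (C.vec y) <;> intro h
    · rfl
    · exact absurd h.symm B.zne
  · intro e
    rw [e] at h
    calc x * y = x * y * x⁻¹ * y⁻¹ * (y * x) := by group
      _ = _ := by rw [h]; exact one_mul _

theorem qq_zero {x : G} (hx : x ∈ J) (h : x * x = 1) : qq β (C.vec x) = false := by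
  have := C.sq x hx
  rw [h] at this
  revert this
  cases qq β (C.vec x) <;> intro this
  · rfl
  · exact absurd this.symm B.zne

theorem sq_z {x : G} (hx : x ∈ J) (h : qq β (C.vec x) = true) : x * x = z := by rw [C.sq x hx, h]; rfl

theorem mat_exists {c : G} (hc : c ∈ Cz z) : ∃ g,
    (aut z π c = MulAut.conj g ∧ C.Mat c (C.M.L g)) ∨ (aut z π c = MulAut.conj g * al ∧ C.Mat c (comp (C.M.L g) σ)) := by
  obtain ⟨g, hg | hg⟩ := aut_cases (aut z π c)
  · exact ⟨g, Or.inl ⟨hg, hc, C.inner c hc g hg⟩⟩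
  · exact ⟨g, Or.inr ⟨hg, hc, C.outer c hc g hg⟩⟩

theorem mat_inner {c : G} (hc : c ∈ Cz z) {g : G4} (h : aut z π c = MulAut.conj g) : C.Mat c (C.M.L g) :=
  ⟨hc, C.inner c hc g h⟩

theorem mat_J {c : G} (hc : c ∈ J) : C.Mat c idL := by
  have := C.mat_inner B (B.JC hc) (g := 1) (by rw [map_one]; exact B.aut_J hc)
  rwa [C.M.one] at this

theorem mat_unique {c : G} {M N : Lin} (h : C.Mat c M) (h' : C.Mat c N) : M = N := lin_ext fun v => by
  obtain ⟨x, hx, rfl⟩ := C.surj v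
  rw [← h.2 x hx, h'.2 x hx]

theorem mat_mul {c d : G} {M N : Lin} (h : C.Mat c M) (h' : C.Mat d N) : C.Mat (c * d) (comp M N) :=
  ⟨(Cz z).mul_mem h.1 h'.1, fun x hx => by
    rw [show c * d * x * (c * d)⁻¹ = c * (d * x * d⁻¹) * c⁻¹ by group, h.2 _ (B.conjJ h'.1 hx), h'.2 x hx,
      app_comp]⟩

theorem mat_qq {c : G} {M : Lin} (h : C.Mat c M) (v : V8) : qq β (app M v) = qq β v := by
  obtain ⟨x, hx, rfl⟩ := C.surj v
  have h1 := C.sq _ (B.conjJ h.1 hx)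
  rw [h.2 x hx, show c * x * c⁻¹ * (c * x * c⁻¹) = c * (x * x) * c⁻¹ by group, C.sq x hx] at h1
  revert h1
  cases qq β (C.vec x) <;> cases qq β (app M (C.vec x)) <;> intro h1
  · rfl
  · exact absurd (show (1 : G) = z by simpa using h1) (Ne.symm B.zne)
  · exact absurd (conj_eq_one_iff.1 h1) B.zne
  · rfl

theorem mat_bb {c : G} {M : Lin} (h : C.Mat c M) (v w : V8) : bb β (app M v) (app M w) = bb β v w := by
  have h1 := C.mat_qq B h (xr v w)
  rw [app_xr, C.bil.qq_xr, C.bil.qq_xr, C.mat_qq B h, C.mat_qq B h] at h1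
  revert h1
  cases qq β v <;> cases qq β w <;> cases bb β (app M v) (app M w) <;> cases bb β v w <;> decide

theorem al_L (g : G4) : comp σ (comp (C.M.L (al g)) σ) = C.M.L g :=
  Mdl.al_conj C.M C.kind.model.2.1 C.kind.model.2.2.1 g

/-- Only elements of `J` act trivially. -/
theorem mat_id {c : G} (h : C.Mat c idL) : c ∈ J := by
  obtain ⟨g, ⟨hg, hM⟩ | ⟨hg, hM⟩⟩ := C.mat_exists B h.1
  · have e : g = 1 := C.M.inj ((C.mat_unique B hM h).trans C.M.one.symm)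
    rw [e, map_one] at hg
    exact (B.aut_eq_one h.1).1 hg
  · exfalso
    have e := C.mat_unique B hM h
    have hσ : σ = C.M.L g⁻¹ := by
      calc σ = comp (C.M.L g⁻¹) (comp (C.M.L g) σ) := by
            rw [← comp_assoc, ← C.M.mul, inv_mul_cancel, C.M.one, id_comp]
        _ = _ := by rw [e, comp_id]
    have hgg : g⁻¹ * g⁻¹ = 1 := C.M.inj (by rw [C.M.mul, C.M.one, ← hσ]; exact C.kind.model.2.1)
    refine al_outer ⟨g, MulEquiv.ext fun k => ?_⟩
    have h1 : g⁻¹ * (al k * g⁻¹) = k := C.M.inj (by rw [C.M.mul, C.M.mul, ← hσ]; exact C.al_L B k)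
    have hg1 : g⁻¹ = g := by rw [eq_inv_of_mul_eq_one_left hgg, inv_inv]
    rw [MulAut.conj_apply]
    conv_lhs => rw [← h1, hg1]
    have hg2 : g * g = 1 := by rw [← hgg, hg1]
    calc _ = g * g * al k * (g * g) := by group
      _ = _ := by rw [hg2, one_mul, mul_one]

/-! ### Lifts -/

theorem lf_exists {x : G} {M : Lin} (hM : C.Mat x M) {v : V8} (hv : app M v = v) :
    ∃ t, InZ z a t ∧ C.Lf x v t := by
  obtain ⟨q, hq, rfl⟩ := C.surj v
  refine ⟨q⁻¹ * (x * q * x⁻¹), C.vec_eq B hq (B.conjJ hM.1 hq) (by rw [hM.2 q hq, hv]), q, hq, rfl, ?_⟩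
  rw [mul_inv_cancel_left]

theorem lf_unique {x : G} (hx : x ∈ Hc z a) {v : V8} {t s : G} (h : C.Lf x v t) (h' : C.Lf x v s) : t = s := by
  obtain ⟨q, hq, e, hqt⟩ := h
  obtain ⟨p, hp, e', hps⟩ := h'
  have hd := C.vec_eq B hq hp (e.trans e'.symm)
  set d := q⁻¹ * p with hd'
  have hdc : x * d * x⁻¹ = d := by rw [B.inZ_comm hd hx]; group
  have hp' : p = q * d := by rw [hd', mul_inv_cancel_left]
  have e1 : x * p * x⁻¹ = q * (t * d) := by
    rw [hp', show x * (q * d) * x⁻¹ = (x * q * x⁻¹) * (x * d * x⁻¹) by group, hqt, hdc, mul_assoc]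
  rw [hps, hp', mul_assoc] at e1
  have e2 := mul_left_cancel e1
  have hs : s ∈ J := by
    have := J.mul_mem (J.inv_mem hp) (B.conjJ hx.1 hp)
    rwa [hps, inv_mul_cancel_left] at this
  rw [← B.inZ_J_comm hd hs] at e2
  exact (mul_right_cancel e2).symm

theorem lf_mul {x : G} {v w : V8} {t s : G} (ht : InZ z a t) (h : C.Lf x v t)
    (h' : C.Lf x w s) : C.Lf x (xr v w) (t * s) := by
  obtain ⟨q, hq, rfl, hqt⟩ := h
  obtain ⟨p, hp, rfl, hps⟩ := h'
  refine ⟨q * p, J.mul_mem hq hp, C.mul q hq p hp, ?_⟩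
  calc x * (q * p) * x⁻¹ = (x * q * x⁻¹) * (x * p * x⁻¹) := by group
    _ = q * (t * p) * s := by rw [hqt, hps]; group
    _ = _ := by rw [← B.inZ_J_comm ht hp]; group

theorem rc_iff {x : G} (hx : x ∈ Hc z a) {v : V8} : C.RC x v ↔ C.Lf x v 1 :=
  ⟨fun ⟨q, hq, e, h⟩ => ⟨q, hq, e, by rw [mul_one, h, mul_inv_cancel_right]⟩,
    fun ⟨q, hq, e, h⟩ => ⟨q, hq, e, by rw [mul_one] at h; exact mul_inv_eq_iff_eq_mul.1 h⟩⟩

theorem rc_fix {x : G} {M : Lin} (hM : C.Mat x M) {v : V8} (h : C.RC x v) : app M v = v := by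
  obtain ⟨q, hq, rfl, e⟩ := h
  rw [← hM.2 q hq, e, mul_inv_cancel_right]

theorem rc_xr {x : G} {v w : V8} (h : C.RC x v) (h' : C.RC x w) : C.RC x (xr v w) := by
  obtain ⟨q, hq, rfl, e⟩ := h
  obtain ⟨p, hp, rfl, e'⟩ := h'
  exact ⟨q * p, J.mul_mem hq hp, C.mul q hq p hp, by rw [← mul_assoc, e, mul_assoc, e', mul_assoc]⟩

theorem rc_zero {x : G} : C.RC x 0 := ⟨1, J.one_mem, C.vec_one B, by simp⟩

/-- The signs are invariant modulo `⟨z⟩` under what commutes modulo `J`. -/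
theorem lf_move {x c : G} (hc : c ∈ Hc z a) (hcx : c * x * c⁻¹ * x⁻¹ ∈ J) {N : Lin} (hN : C.Mat c N)
    {v : V8} {t : G} (ht : InZ z a t) (h : C.Lf x v t) :
    ∃ s, (s = t ∨ s = t * z) ∧ C.Lf x (app N v) s := by
  obtain ⟨q, hq, rfl, hqt⟩ := h
  set j := c * x * c⁻¹ * x⁻¹ with hj
  have hp := B.conjJ hc.1 hq
  have hct : c * t * c⁻¹ = t := by rw [B.inZ_comm ht hc]; group
  set p := c * q * c⁻¹ with hp'
  have e1 : j * (x * p * x⁻¹) * j⁻¹ = p * t := by
    calc j * (x * p * x⁻¹) * j⁻¹ = c * (x * q * x⁻¹) * c⁻¹ := by rw [hj, hp']; group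
      _ = c * q * c⁻¹ * (c * t * c⁻¹) := by rw [hqt]; group
      _ = _ := by rw [hct]
  have e2 : x * p * x⁻¹ = j⁻¹ * p * j * t := by
    calc x * p * x⁻¹ = j⁻¹ * (j * (x * p * x⁻¹) * j⁻¹) * j := by group
      _ = j⁻¹ * p * (t * j) := by rw [e1]; group
      _ = _ := by rw [← B.inZ_J_comm ht hcx]; group
  rcases B.comm j⁻¹ (J.inv_mem hcx) p hp with e | e
  · refine ⟨t, Or.inl rfl, p, hp, hN.2 q hq, ?_⟩
    rw [e2, show j⁻¹ * p * j = j⁻¹ * p * j⁻¹⁻¹ * p⁻¹ * p by group, e, one_mul]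
  · refine ⟨t * z, Or.inr rfl, p, hp, hN.2 q hq, ?_⟩
    rw [e2, show j⁻¹ * p * j = j⁻¹ * p * j⁻¹⁻¹ * p⁻¹ * p by group, e]
    calc z * p * t = p * z * t := by rw [mem_Cz.1 (B.JC hp)]
      _ = _ := by rw [mul_assoc, ← B.inZ_J_comm ht B.zJ]

/-- On the displacements of such an element they lie in `⟨z⟩`. -/
theorem lf_disp {x c : G} (hc : c ∈ Hc z a) (hcx : c * x * c⁻¹ * x⁻¹ ∈ J) {M N : Lin}
    (hM : C.Mat x M) (hN : C.Mat c N) {v : V8} (hv : app M v = v) :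
    ∃ s, (s = 1 ∨ s = z) ∧ C.Lf x (xr v (app N v)) s := by
  obtain ⟨t, ht, h⟩ := C.lf_exists B hM hv
  obtain ⟨s, hs, h'⟩ := C.lf_move B hc hcx hN ht h
  refine ⟨t * s, ?_, C.lf_mul B ht h h'⟩
  rcases hs with rfl | rfl
  · exact Or.inl (B.inZ_sq ht)
  · exact Or.inr (by rw [← mul_assoc, B.inZ_sq ht, one_mul])

/-- Elements squaring to `z` centralised by an element. -/
theorem root_of {x : G} {v w : V8} {s t : G} (hs : s = 1 ∨ s = z) (ht : t = 1 ∨ t = z) (h : C.Lf x v s)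
    (h' : C.Lf x w t) (qv : qq β v = true) (qw : qq β w = true) (qvw : qq β (xr v w) = true) :
    ∃ y ∈ J, y * y = z ∧ x * y = y * x := by
  have fin : ∀ {u : V8}, C.Lf x u 1 → qq β u = true → ∃ y ∈ J, y * y = z ∧ x * y = y * x := by
    rintro u ⟨q, hq, rfl, e⟩ qu
    exact ⟨q, hq, C.sq_z B hq qu, mul_inv_eq_iff_eq_mul.1 (e.trans (mul_one q))⟩
  rcases hs with rfl | rfl
  · exact fin h qv
  rcases ht with rfl | rfl
  · exact fin h' qw
  · have := C.lf_mul B (Or.inr (Or.inl rfl)) h h'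
    rw [B.zz] at this
    exact fin this qvw

/-- Conjugation of a lift. -/
theorem rc_conj {x c : G} {N : Lin} (hN : C.Mat c N) {v : V8} (h : C.RC x v) : C.RC (c * x * c⁻¹) (app N v) := by
  obtain ⟨q, hq, rfl, e⟩ := h
  refine ⟨c * q * c⁻¹, B.conjJ hN.1 hq, hN.2 q hq, ?_⟩
  calc c * x * c⁻¹ * (c * q * c⁻¹) = c * (x * q) * c⁻¹ := by group
    _ = _ := by rw [e]; group

theorem rc_sub {x y : G} (h : ∀ q ∈ J, x * q = q * x → y * q = q * y) {v : V8} (hv : C.RC x v) : C.RC y v := by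
  obtain ⟨q, hq, e, he⟩ := hv
  exact ⟨q, hq, e, h q hq he⟩

end Crd

end CfsgLib.FiTwoType
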