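import Cfsg.Agent.Lib.FiTwoType.SwapBig

/-!
A group with an involution centraliser `(2 × 2^{1+8}).Aut(U₄(2))`.
-/

set_option autoImplicit false
set_option linter.unusedSectionVars false
set_option linter.style.haveILetI false
set_option maxRecDepth 100000

open Cfsg CfsgLib.Extraspecial CfsgLib.USixType CfsgLib.USixTwo
open CfsgLib.HePres (K4)
open scoped commutatorElement

namespace CfsgLib.FiTwoType

variable {G : Type*} [Group G] [Finite G]

/-- The trichotomy for the data. -/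
theorem Big.outcome {z a : G} {J : Subgroup G} {π : ↥(Cz z) →* MulAut G4} (B : Big z a J π) :
    (∀ g : G, g * z * g⁻¹ ∈ Cz z → g * z * g⁻¹ = z) ∨
      (∃ v, (v = a ∨ v = z * a) ∧ Cz v = ⊤ ∧ ∃ (G0 : Subgroup G) (f : ↥G0 →* Cfsg.PSU 6 K4 2),
        G0.index = 2 ∧ v ∈ G0 ∧ Function.Surjective f ∧ ∀ x, f x = 1 ↔ (x : G) = 1 ∨ (x : G) = v) ∨
      Cfsg.Spor.IsoFi22 G := by
  obtain ⟨hn, φ, Q⟩ := exists_qt a B.aa
  obtain ⟨hn', ψ, Q'⟩ := exists_qt (z * a) B.zaza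
  obtain ⟨β, S, σ, ⟨C⟩⟩ := B.exists_crd
  have hzza : z * (z * a) = a := by rw [← mul_assoc, B.zz, one_mul]
  by_cases hH : ∀ x ∈ Cz z, x * a = a * x
  · have hH' : ∀ x ∈ Cz z, x * (z * a) = z * a * x := fun x hx => by
      rw [← mul_assoc, mem_Cz.1 hx, mul_assoc, hH x hx, mul_assoc]
    by_cases hA : OddIso z a <;> by_cases hZ : OddIso z (z * a)
    · exact Or.inl (C.iso_fixed B hH hZ hA)
    · obtain ⟨β', S', σ', ⟨C'⟩⟩ := B.swap.exists_crd
      obtain ⟨h1, h2⟩ := C'.central B.swap hH' (by rwa [hzza]) Q' ((B.swap.alt_two hH' Q').resolve_left hZ)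
      exact Or.inr (Or.inl ⟨_, Or.inr rfl, h1, h2⟩)
    · obtain ⟨h1, h2⟩ := C.central B hH hZ Q ((B.alt_two hH Q).resolve_left hA)
      exact Or.inr (Or.inl ⟨_, Or.inl rfl, h1, h2⟩)
    · exact (B.both_big hH Q Q' hA hZ).elim
  push Not at hH
  obtain ⟨e, he, hea⟩ := hH
  have hea' : e * a * e⁻¹ = z * a :=
    (B.a_perm he).resolve_left fun h => hea (mul_inv_eq_iff_eq_mul.1 h)
  have hinn : ∀ x ∈ Cz z, x * a = a * x → ∃ g, aut z π x = MulAut.conj g := fun x hx hxa => by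
    obtain ⟨g, h | h⟩ := aut_cases (aut z π x)
    · exact ⟨g, h⟩
    obtain ⟨g', h' | h'⟩ := aut_cases (aut z π e)
    · exact absurd (B.inner_fix he h') hea
    exfalso
    refine hea ?_
    have h1 : aut z π (x⁻¹ * e) = MulAut.conj (al⁻¹ (g⁻¹ * g')) := by
      rw [B.aut_mul ((Cz z).inv_mem hx) he, B.aut_inv hx, h, h', mul_inv_rev, mul_assoc, ← map_inv,
        ← mul_assoc (MulAut.conj g⁻¹), ← map_mul, ← mul_assoc]
      have := conj_aut (g⁻¹ * g') al⁻¹
      rwa [inv_inv] at this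
    have h2 := B.inner_fix ((Cz z).mul_mem ((Cz z).inv_mem hx) he) h1
    calc e * a = x * (x⁻¹ * e * a) := by group
      _ = x * a * (x⁻¹ * e) := by rw [h2]; group
      _ = _ := by rw [hxa]; group
  have hz' : e⁻¹ * z * e⁻¹⁻¹ = z := by
    calc e⁻¹ * z * e⁻¹⁻¹ = e⁻¹ * (z * e) := by group
      _ = z := by rw [← mem_Cz.1 he]; group
  have hodd : OddIso z a → OddIso z (z * a) := fun h u hu => by
    have h1 := h (e⁻¹ * u * e) (mem_Cz.2 (by
      calc e⁻¹ * u * e * a = e⁻¹ * (u * (e * a * e⁻¹)) * e := by group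
        _ = e⁻¹ * (z * a * u) * e := by rw [hea', mem_Cz.1 hu]
        _ = _ := by rw [← hea']; group))
    have h2 : MulAut.conj e⁻¹ (u * z * u⁻¹ * z) = e⁻¹ * u * e * z * (e⁻¹ * u * e)⁻¹ * z := by
      calc MulAut.conj e⁻¹ (u * z * u⁻¹ * z) = e⁻¹ * (u * z * u⁻¹ * z) * e⁻¹⁻¹ := rfl
        _ = e⁻¹ * u * e * (e⁻¹ * z * e⁻¹⁻¹) * (e⁻¹ * u * e)⁻¹ * (e⁻¹ * z * e⁻¹⁻¹) := by group
        _ = _ := by rw [hz']
    rw [← h2, MulEquiv.orderOf_eq] at h1
    exact h1
  have hH : ∀ x ∈ Hc z a, ∃ g, aut z π x = MulAut.conj g := fun x hx => hinn x hx.1 (mem_Cz.1 hx.2)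
  by_cases hA : OddIso z a
  · exact Or.inl (C.iso_swap B ⟨fun x hx hxa => ⟨hx, hinn x hx hxa⟩, hA, hodd hA⟩)
  have hH' : ∀ x ∈ Hc z (z * a), ∃ g, aut z π x = MulAut.conj g := fun x hx => hinn x hx.1 (by
    calc x * a = x * (z * (z * a)) := by rw [hzza]
      _ = z * (x * (z * a)) := by rw [← mul_assoc, mem_Cz.1 hx.1, mul_assoc]
      _ = _ := by rw [mem_Cz.1 hx.2, ← mul_assoc, hzza])
  have hZ : ¬ OddIso z (z * a) := fun h => hA fun u hu => by
    have hu' : e * u * e⁻¹ ∈ Cz (z * a) := mem_Cz.2 (by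
      rw [← hea']
      calc e * u * e⁻¹ * (e * a * e⁻¹) = e * (u * a) * e⁻¹ := by group
        _ = _ := by rw [mem_Cz.1 hu]; group)
    have h1 := h _ hu'
    have h2 : MulAut.conj e (u * z * u⁻¹ * z) = e * u * e⁻¹ * z * (e * u * e⁻¹)⁻¹ * z := by
      have : e * z * e⁻¹ = z := by rw [mem_Cz.1 he]; group
      calc MulAut.conj e (u * z * u⁻¹ * z) = e * (u * z * u⁻¹ * z) * e⁻¹ := rfl
        _ = e * u * e⁻¹ * (e * z * e⁻¹) * (e * u * e⁻¹)⁻¹ * (e * z * e⁻¹) := by group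
        _ = _ := by rw [this]
    rw [← h2, MulEquiv.orderOf_eq] at h1
    exact h1
  exact Or.inr (Or.inr (B.swap_big hH Q Q' ((B.alt_pre hH Q).resolve_left hA)
    ((B.swap.alt_pre hH' Q').resolve_left hZ) ⟨e, hea'⟩))

/-- The statement in terms of a quotient isomorphic to `Aut(PSp₄(3))`. -/
theorem classify (z : G) (hz : orderOf z = 2) {F : Type*} [Field F] [Fintype F] (hF : Fintype.card F = 3)
    {K : Type*} [Field K] [Fintype K] (hK : Fintype.card K = 4)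
    (A E : Subgroup ↥(Cz z)) (hAE : IsInternalDirectProduct A E (pCore 2 ↥(Cz z))) (hA : Nat.card ↥A = 2)
    (hE : IsExtraspecial 2 ↥E) (hEc : Nat.card ↥E = 2 ^ 9)
    (zc : ↥(Cz z)) (hzc : (zc : G) = z)
    (hJ' : ⁅pCore 2 ↥(Cz z), pCore 2 ↥(Cz z)⁆ = Subgroup.zpowers zc)
    (hCJ : Subgroup.centralizer ((pCore 2 ↥(Cz z)) : Set ↥(Cz z)) ≤ pCore 2 ↥(Cz z))
    [hJn : (pCore 2 ↥(Cz z)).Normal] (e : (↥(Cz z) ⧸ pCore 2 ↥(Cz z)) ≃* MulAut (PSp 2 F)) :
    Cz z ⊔ oddCore G = ⊤ ∨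
      (∃ z₁ : G, orderOf z₁ = 2 ∧ z₁ ∉ Subgroup.zpowers z ∧ (∃ h₁ : z₁ ∈ Cz z,
          (⟨z₁, h₁⟩ : ↥(Cz z)) ∈ pCore 2 ↥(Cz z) ∧
          ∀ j ∈ pCore 2 ↥(Cz z), j * ⟨z₁, h₁⟩ = ⟨z₁, h₁⟩ * j) ∧ (Subgroup.zpowers z₁).Normal ∧
        ∃ (G₀ : Subgroup G) (_ : z₁ ∈ G₀), G₀.index = 2 ∧
          ∃ hn : ((Subgroup.zpowers z₁).subgroupOf G₀).Normal,
            Nonempty ((↥G₀ ⧸ (Subgroup.zpowers z₁).subgroupOf G₀) ≃* PSU 6 K 2)) ∨
      Cfsg.Spor.IsoFi22 G := by
  haveI := Fact.mk Nat.prime_two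
  obtain ⟨e0⟩ := exists_psp hF
  let e1 : (↥(Cz z) ⧸ pCore 2 ↥(Cz z)) ≃* MulAut G4 := e.trans (MulAut.congr e0)
  obtain ⟨hAO, hEO, hcomm, hmeet, hsup⟩ := hAE
  set O := pCore 2 ↥(Cz z) with hO
  set π : ↥(Cz z) →* MulAut G4 := e1.toMonoidHom.comp (QuotientGroup.mk' O) with hπ
  obtain ⟨⟨α, hαA⟩, hα1, huniq⟩ := (Nat.card_eq_two_iff' (1 : ↥A)).1 hA
  have hA2 : ∀ x ∈ A, x = 1 ∨ x = α := fun x hx => (em ((⟨x, hx⟩ : ↥A) = 1)).imp
    (congrArg Subtype.val) fun h => congrArg Subtype.val (huniq ⟨x, hx⟩ h)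
  have hαne : α ≠ 1 := fun h => hα1 (Subtype.ext h)
  have hαα : α * α = 1 := (hA2 _ (A.mul_mem hαA hαA)).resolve_right fun h => hαne (mul_eq_left.1 h)
  have hcz : ∀ x : ↥(Cz z), Commute zc x := fun x => Subtype.ext (show (zc : G) * x = x * zc by
    rw [hzc]; exact (mem_Cz.1 x.2).symm)
  have hzz : zc * zc = 1 := Subtype.ext (show (zc : G) * zc = 1 by
    rw [hzc, ← pow_two, ← hz]; exact pow_orderOf_eq_one z)
  have hzne : zc ≠ 1 := fun h => by
    have h1 : (zc : G) = 1 := by rw [h]; rfl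
    rw [hzc] at h1
    rw [h1, orderOf_one] at hz
    exact absurd hz (by norm_num)
  have hzp : ∀ x ∈ Subgroup.zpowers zc, x = 1 ∨ x = zc := fun x hx => by
    obtain ⟨i, rfl⟩ := hx
    rcases Int.even_or_odd' i with ⟨m, rfl | rfl⟩
    · exact Or.inl (by show zc ^ (2 * m) = 1; rw [zpow_mul, zpow_two, hzz, one_zpow])
    · exact Or.inr (by show zc ^ (2 * m + 1) = zc; rw [zpow_add, zpow_mul, zpow_two, hzz, one_zpow, one_mul, zpow_one])
  have hcJ : ∀ x ∈ O, ∀ y ∈ O, x * y * x⁻¹ * y⁻¹ = 1 ∨ x * y * x⁻¹ * y⁻¹ = zc := fun x hx y hy =>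
    hzp _ (hJ' ▸ Subgroup.commutator_mem_commutator hx hy)
  -- the centre of `E`
  obtain ⟨hzE, hcenE⟩ : zc ∈ E ∧ ∀ ε ∈ E, (∀ y ∈ E, y * ε = ε * y) → ε = 1 ∨ ε = zc := by
    obtain ⟨p, q, hpq⟩ : ∃ p q : ↥E, p * q ≠ q * p := by
      by_contra h
      push Not at h
      have h2 := hE.2
      rw [show Subgroup.center ↥E = ⊤ from eq_top_iff.2 fun u _ => Subgroup.mem_center_iff.2 fun v => h v u,
        Subgroup.card_top, hEc] at h2
      norm_num at h2
    have hzE : zc ∈ E := by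
      rcases hcJ p (hEO p.2) q (hEO q.2) with h | h
      · exact absurd (Subtype.ext (mul_inv_eq_iff_eq_mul.1 (mul_inv_eq_one.1 h))) hpq
      · rw [← h]
        exact E.mul_mem (E.mul_mem (E.mul_mem p.2 q.2) (E.inv_mem p.2)) (E.inv_mem q.2)
    refine ⟨hzE, fun ε hε hc => ?_⟩
    obtain ⟨w, -, hu⟩ := (Nat.card_eq_two_iff' (1 : Subgroup.center ↥E)).1 hE.2
    have hεc : (⟨ε, hε⟩ : ↥E) ∈ Subgroup.center ↥E := Subgroup.mem_center_iff.2 fun y => Subtype.ext (hc y y.2)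
    have hzcc : (⟨zc, hzE⟩ : ↥E) ∈ Subgroup.center ↥E := Subgroup.mem_center_iff.2 fun y => Subtype.ext (hcz y).symm.eq
    by_cases h1 : ε = 1
    · exact Or.inl h1
    · have e2 := hu ⟨_, hεc⟩ fun h => h1 (congrArg (fun v : Subgroup.center ↥E => ((v : ↥E) : ↥(Cz z))) h)
      have e3 := hu ⟨_, hzcc⟩ fun h => hzne (congrArg (fun v : Subgroup.center ↥E => ((v : ↥E) : ↥(Cz z))) h)
      exact Or.inr (congrArg (fun v : Subgroup.center ↥E => ((v : ↥E) : ↥(Cz z))) (e2.trans e3.symm))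
  have hαz : α ≠ zc := fun h => hαne (Subgroup.mem_bot.1 (hmeet ▸ Subgroup.mem_inf.2 ⟨hαA, h.symm ▸ hzE⟩))
  -- the product
  let f : ↥A × ↥E →* ↥(Cz z) := A.subtype.noncommCoprod E.subtype fun u v => hcomm u u.2 v v.2
  have hfinj : Function.Injective f := by
    refine (MonoidHom.noncommCoprod_injective _ _ _).2 ⟨A.subtype_injective, E.subtype_injective, ?_⟩
    rw [Subgroup.range_subtype, Subgroup.range_subtype, disjoint_iff, hmeet]
  have hfr : f.range = O := by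
    refine (MonoidHom.noncommCoprod_range _ _ _).trans ?_
    rw [Subgroup.range_subtype, Subgroup.range_subtype, hsup]
  have hdec : ∀ x ∈ O, ∃ u ∈ A, ∃ ε ∈ E, u * ε = x := fun x hx => by
    obtain ⟨⟨u, ε⟩, h⟩ := hfr.ge hx
    exact ⟨u, u.2, ε, ε.2, h⟩
  have hαc : ∀ x ∈ O, x * α = α * x := fun x hx => by
    obtain ⟨u, hu, ε, hε, rfl⟩ := hdec x hx
    rw [mul_assoc, ← hcomm α hαA ε hε, ← mul_assoc, ← mul_assoc]
    rcases hA2 u hu with rfl | rfl <;> simp
  have hsq : ∀ x ∈ O, x * x = 1 ∨ x * x = zc := fun x hx => by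
    obtain ⟨u, hu, ε, hε, rfl⟩ := hdec x hx
    have huu : u * u = 1 := by
      rcases hA2 u hu with rfl | rfl
      exacts [one_mul 1, hαα]
    rw [show u * ε * (u * ε) = u * (ε * u) * ε by group, ← hcomm u hu ε hε, ← mul_assoc u u, huu, one_mul]
    have h := pow_mem_center hE ⟨ε, hε⟩
    refine hcenE _ (E.mul_mem hε hε) fun y hy => ?_
    have h2 := congrArg Subtype.val (Subgroup.mem_center_iff.1 h ⟨y, hy⟩)
    simpa [pow_two] using h2
  have hcen : ∀ x : ↥(Cz z), (∀ y ∈ O, y * x = x * y) → x = 1 ∨ x = zc ∨ x = α ∨ x = zc * α := fun x hx => by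
    obtain ⟨u, hu, ε, hε, rfl⟩ := hdec x (hCJ (Subgroup.mem_centralizer_iff.2 fun y hy => hx y hy))
    have hεc := hcenE ε hε fun y hy => by
      have h1 := hx y (hEO hy)
      rw [← mul_assoc, ← hcomm u hu y hy, mul_assoc, mul_assoc] at h1
      exact mul_left_cancel h1
    rcases hA2 u hu with rfl | rfl <;> rcases hεc with rfl | rfl
    · exact Or.inl (one_mul _)
    · exact Or.inr (Or.inl (one_mul _))
    · exact Or.inr (Or.inr (Or.inl (mul_one _)))
    · exact Or.inr (Or.inr (Or.inr (hcz _).eq.symm))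
  have hmem : ∀ {x : ↥(Cz z)}, (x : G) ∈ O.map (Cz z).subtype ↔ x ∈ O := fun {x} =>
    Subgroup.mem_map_iff_mem (Subgroup.subtype_injective _)
  have B : Big z (α : G) (O.map (Cz z).subtype) π :=
    { hz := hz
      ha := orderOf_eq_prime (by rw [pow_two, ← Subgroup.coe_mul, hαα]; rfl) fun h => hαne (Subtype.ext h)
      haz := fun h => hαz (Subtype.ext (h.trans hzc.symm))
      zJ := by
        have := hmem.2 (hEO hzE)
        rwa [hzc] at this
      aJ := hmem.2 (hAO hαA)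
      card := by
        rw [Subgroup.card_map_of_injective (Subgroup.subtype_injective _), ← hfr,
          ← Nat.card_congr (MonoidHom.ofInjective hfinj).toEquiv, Nat.card_prod, hA, hEc]
        norm_num
      JC := Subgroup.map_subtype_le _
      ker := by
        ext c
        rw [MonoidHom.mem_ker, Subgroup.mem_subgroupOf, hπ]
        show e1 (QuotientGroup.mk' O c) = 1 ↔ _
        rw [map_eq_one_iff _ e1.injective, QuotientGroup.mk'_apply, QuotientGroup.eq_one_iff, hmem]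
      surj := e1.surjective.comp (QuotientGroup.mk'_surjective O)
      comm := by
        rintro _ ⟨x, hx, rfl⟩ _ ⟨y, hy, rfl⟩
        rcases hcJ x hx y hy with h | h
        · exact Or.inl (congrArg Subtype.val h)
        · exact Or.inr ((congrArg Subtype.val h).trans hzc)
      sq := by
        rintro _ ⟨x, hx, rfl⟩
        rcases hsq x hx with h | h
        · exact Or.inl (congrArg Subtype.val h)
        · exact Or.inr ((congrArg Subtype.val h).trans hzc)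
      cent := fun x hx h => by
        rcases hcen ⟨x, hx⟩ (fun y hy => Subtype.ext (h y (hmem.2 hy))) with e' | e' | e' | e'
        · exact Or.inl (congrArg Subtype.val e')
        · exact Or.inr (Or.inl ((congrArg Subtype.val e').trans hzc))
        · exact Or.inr (Or.inr (Or.inl (congrArg Subtype.val e')))
        · exact Or.inr (Or.inr (Or.inr ((congrArg Subtype.val e').trans (by rw [Subgroup.coe_mul, hzc]))))
      aC := by
        rintro _ ⟨x, hx, rfl⟩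
        exact congrArg Subtype.val (hαc x hx) }
  rcases B.outcome with h | ⟨v, hv, hcv, G0, f, hi, hvG, hf, hker⟩ | h
  · exact Or.inl (sup_oddCore_of_isolated hz h)
  · refine Or.inr (Or.inl ?_)
    have Bv : Big z v (O.map (Cz z).subtype) π := by
      rcases hv with rfl | rfl
      exacts [B, B.swap]
    have hnv : (Subgroup.zpowers v).Normal := ⟨fun x hx g => by
      obtain ⟨i, rfl⟩ := hx
      show g * v ^ i * g⁻¹ ∈ _
      rw [(((show Commute g v from mem_Cz.1 (hcv ▸ Subgroup.mem_top g : g ∈ Cz v))).zpow_right i).eq,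
        mul_inv_cancel_right]
      exact Subgroup.zpow_mem _ (Subgroup.mem_zpowers v) i⟩
    refine ⟨v, Bv.ha, ?_, ⟨Bv.JC Bv.aJ, hmem.1 Bv.aJ, fun j hj => Subtype.ext (Bv.aC _ (hmem.2 hj))⟩, hnv, G0, hvG,
      hi, inferInstance, ?_⟩
    · rintro ⟨i, hi'⟩
      replace hi' : z ^ i = v := hi'
      rcases Int.even_or_odd' i with ⟨m, rfl | rfl⟩
      · rw [zpow_mul, zpow_two, Bv.zz, one_zpow] at hi'
        exact Bv.ane hi'.symm
      · rw [zpow_add, zpow_mul, zpow_two, Bv.zz, one_zpow, one_mul, zpow_one] at hi'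
        exact Bv.haz hi'.symm
    · have hk : (Subgroup.zpowers v).subgroupOf G0 = f.ker := by
        ext x
        rw [MonoidHom.mem_ker, hker, Subgroup.mem_subgroupOf]
        refine ⟨?_, fun h => ?_⟩
        · rintro ⟨i, hi'⟩
          rw [← hi']
          rcases Int.even_or_odd' i with ⟨m, rfl | rfl⟩
          · exact Or.inl (by show v ^ (2 * m) = 1; rw [zpow_mul, zpow_two, Bv.aa, one_zpow])
          · exact Or.inr (by show v ^ (2 * m + 1) = v; rw [zpow_add, zpow_mul, zpow_two, Bv.aa, one_zpow, one_mul, zpow_one])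
        · rcases h with h | h <;> rw [h]
          exacts [one_mem _, Subgroup.mem_zpowers v]
      obtain ⟨φ6⟩ := GTwoTwo.psu_equiv (FiniteField.ringEquivOfCardEq (K := K4) (K' := K)
        (by rw [K4.card_eq, hK])) 6 2
      exact ⟨(QuotientGroup.quotientMulEquivOfEq hk).trans
        ((QuotientGroup.quotientKerEquivOfSurjective f hf).trans φ6)⟩
  · exact Or.inr (Or.inr h)

end CfsgLib.FiTwoType
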