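import Cfsg.Agent.Lib.FiTwoType.Quot

/-!
The centralisers of the images of `z` and the two possibilities for each.
-/

set_option autoImplicit false
set_option linter.unusedSectionVars false
set_option linter.style.haveILetI false

open Cfsg CfsgLib.Extraspecial CfsgLib.USixType CfsgLib.USixTwo

namespace CfsgLib.FiTwoType

/-- Restriction to a subgroup consisting of elements inducing all inner automorphisms. -/
theorem exists_pre_sub {X : Type*} [Group X] [Finite X] {z : X} {Q : Subgroup X} {ρ : ↥(Cz z) →* MulAut G4}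
    (hs : Setting Q z) (hcard : Nat.card Q = 512) (hker : ρ.ker = Q.subgroupOf (Cz z)) {K : Subgroup X}
    (hQK : Q ≤ K) (hzK : z ∈ K) (hK : ∀ x ∈ K, x ∈ Cz z → ∃ g, aut z ρ x = MulAut.conj g)
    (hcov : ∀ g, ∃ x ∈ K, x ∈ Cz z ∧ aut z ρ x = MulAut.conj g) :
    ∃ π0 : ↥(Cz (⟨z, hzK⟩ : K)) →* G4, Pre (⟨z, hzK⟩ : K) (Q.subgroupOf K) π0 ∧
      ∀ x : K, x ∈ Cz (⟨z, hzK⟩ : K) → aut z ρ (x : X) = MulAut.conj (img (⟨z, hzK⟩ : K) π0 x) := by
  classical
  let z0 : K := ⟨z, hzK⟩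
  have hmem : ∀ x : K, x ∈ Cz z0 ↔ (x : X) ∈ Cz z := fun x =>
    ⟨fun h => mem_Cz.2 (congrArg Subtype.val (mem_Cz.1 h)), fun h => mem_Cz.2 (Subtype.ext (mem_Cz.1 h))⟩
  have hC : ∀ x : ↥(Cz z0), ((x : K) : X) ∈ Cz z := fun x => (hmem _).1 x.2
  choose f hf using fun x : ↥(Cz z0) => hK _ (x : K).2 (hC x)
  have haut : ∀ {x y : X}, x ∈ Cz z → y ∈ Cz z → aut z ρ (x * y) = aut z ρ x * aut z ρ y := fun {x y} hx hy => by
    rw [aut, aut, aut, dif_pos ((Cz z).mul_mem hx hy), dif_pos hx, dif_pos hy, ← map_mul]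
    rfl
  let π0 : ↥(Cz z0) →* G4 := MonoidHom.mk' f fun u v => conj_inj (by
    rw [← hf, map_mul, ← hf, ← hf]
    exact haut (hC u) (hC v))
  refine ⟨π0, ⟨?_, ?_, ?_, fun g => ?_⟩, fun x hx => ?_⟩
  · have hzm : ∀ x : K, x ∈ Subgroup.zpowers z0 ↔ (x : X) ∈ Subgroup.zpowers z := fun x => by
      simp only [Subgroup.mem_zpowers_iff]
      exact exists_congr fun n => by rw [← Subtype.coe_inj, SubgroupClass.coe_zpow]
    haveI := Fact.mk Nat.prime_two
    have hcen : ∀ x : K, (x : X) ∈ Subgroup.zpowers z → ∀ q : K, (q : X) ∈ Q → q * x = x * q := fun x hx q hq =>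
      Subtype.ext (show (q : X) * x = x * q by
        rcases hs.mem_zpowers hx with e | e <;> rw [e]
        · simp
        · exact hs.z_comm hq)
    refine ⟨isExtraspecial_congr (Subgroup.subgroupOfEquivOfLe hQK).symm hs.ex, ?_, ?_, ?_, ?_⟩
    · ext x
      rw [hzm]
      constructor
      · rintro ⟨w, hw, rfl⟩
        rcases hs.eq_of_forall (x := ((w : K) : X)) w.2 (fun q hq =>
          congrArg (fun y : Q.subgroupOf K => ((y : K) : X))
            (Subgroup.mem_center_iff.1 hw ⟨⟨q, hQK hq⟩, hq⟩)) with e | e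
        · exact e.symm ▸ Subgroup.one_mem (Subgroup.zpowers z)
        · exact e.symm ▸ Subgroup.mem_zpowers z
      · intro hx
        have hxQ : (x : X) ∈ Q := by
          rcases hs.mem_zpowers hx with e | e <;> rw [e]
          exacts [Q.one_mem, hs.z_mem]
        exact ⟨⟨x, hxQ⟩, Subgroup.mem_center_iff.2 fun q => Subtype.ext (hcen x hx q q.2), rfl⟩
    · rw [← Subgroup.orderOf_coe]; exact hs.ordz
    · ext x
      rw [hzm, Subgroup.mem_centralizer_iff]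
      constructor
      · intro h
        rw [← hs.cQ, Subgroup.mem_centralizer_iff]
        exact fun q hq => congrArg Subtype.val (h ⟨q, hQK hq⟩ hq)
      · exact fun hx q hq => hcen x hx q hq
    · intro x hx
      rw [Subgroup.mem_normalizer_iff]
      intro q
      exact Subgroup.mem_normalizer_iff.1 (hs.cz ((hmem x).1 hx)) q
  · rw [Nat.card_congr (Subgroup.subgroupOfEquivOfLe hQK).toEquiv, hcard]
  · ext x
    rw [MonoidHom.mem_ker, Subgroup.mem_subgroupOf, Subgroup.mem_subgroupOf]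
    show f x = 1 ↔ ((x : K) : X) ∈ Q
    rw [← conj_inj.eq_iff, ← hf, map_one, aut, dif_pos (hC x), ← MonoidHom.mem_ker, hker,
      Subgroup.mem_subgroupOf]
  · obtain ⟨c, hc0, hc, e⟩ := hcov g
    refine ⟨⟨⟨c, hc0⟩, (hmem _).2 hc⟩, conj_inj ?_⟩
    show MulAut.conj (f _) = _
    rw [← hf]; exact e
  · rw [img, dif_pos hx]
    exact hf ⟨x, hx⟩

variable {G : Type*} [Group G] [Finite G] {X : Type*} [Group X] [Finite X]
  {z a : G} {J : Subgroup G} {π : ↥(Cz z) →* MulAut G4}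

/-- The outcome for one of the involutions: the quotient has `U₆(2)` of index two. -/
def Split6 (a : G) (φ : ↥(Cz a) →* X) : Prop :=
  ∃ G0 : Subgroup X, G0.index = 2 ∧ Nonempty (↥G0 ≃* Cfsg.PSU 6 CfsgLib.HePres.K4 2) ∧
    Subgroup.centralizer (G0 : Set X) = ⊥

namespace Big

variable (B : Big z a J π)
include B

/-- The automorphisms on the quotient. -/
theorem exists_map {φ : ↥(Cz a) →* X} (Q : Qt a φ) :
    ∃ ρ : ↥(Cz (qm a φ z)) →* MulAut G4, ρ.ker = ((J.subgroupOf (Cz a)).map φ).subgroupOf (Cz (qm a φ z)) ∧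
      ∀ x ∈ Hc z a, aut (qm a φ z) ρ (qm a φ x) = aut z π x := by
  classical
  have hex : ∀ w : ↥(Cz (qm a φ z)), ∃ x ∈ Hc z a, qm a φ x = (w : X) := fun w => B.exists_Hc Q w.2
  choose r hr hrw using hex
  have hwd : ∀ x ∈ Hc z a, ∀ y ∈ Hc z a, qm a φ x = qm a φ y → aut z π x = aut z π y := by
    intro x hx y hy e
    rcases (Q.qm_eq hx.2 hy.2).1 e with e | e <;> rw [e]
    rw [B.aut_mul hy.1 B.aCz, B.aut_J B.aJ, mul_one]
  let ρ : ↥(Cz (qm a φ z)) →* MulAut G4 := MonoidHom.mk' (fun w => aut z π (r w)) fun u v => by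
    show aut z π (r (u * v)) = aut z π (r u) * aut z π (r v)
    rw [← B.aut_mul (hr u).1 (hr v).1]
    exact hwd _ (hr _) _ (mul_mem (hr u) (hr v)) (by
      rw [Q.qm_mul (hr u).2 (hr v).2, hrw, hrw, hrw]; rfl)
  have hc : ∀ x ∈ Hc z a, aut (qm a φ z) ρ (qm a φ x) = aut z π x := fun x hx => by
    rw [aut, dif_pos (B.qm_Hc Q hx)]
    exact hwd _ (hr _) _ hx (hrw _)
  refine ⟨ρ, ?_, hc⟩
  ext w
  rw [MonoidHom.mem_ker, Subgroup.mem_subgroupOf]
  show aut z π (r w) = 1 ↔ _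
  rw [B.aut_eq_one (hr w).1]
  constructor
  · intro h
    exact ⟨⟨r w, (hr w).2⟩, h, by rw [← hrw, qm, dif_pos (show r w ∈ Cz a from (hr w).2)]⟩
  · rintro ⟨⟨v, hv⟩, hvJ, e⟩
    have e' : qm a φ (r w) = qm a φ v := by
      rw [hrw, ← e, qm, dif_pos hv]
    rcases (Q.qm_eq (hr w).2 hv).1 e' with e | e <;> rw [e]
    exacts [hvJ, J.mul_mem hvJ B.aJ]

/-- The structure with an outer element. -/
theorem exists_two (hH : ∀ x ∈ Cz z, x * a = a * x) {φ : ↥(Cz a) →* X} (Q : Qt a φ) :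
    ∃ ρ : ↥(Cz (qm a φ z)) →* MulAut G4, Two (qm a φ z) ((J.subgroupOf (Cz a)).map φ) ρ ∧
      ∀ x ∈ Hc z a, aut (qm a φ z) ρ (qm a φ x) = aut z π x := by
  obtain ⟨ρ, hk, hc⟩ := B.exists_map Q
  refine ⟨ρ, ⟨B.setting Q, B.card_image Q, hk, fun m => ?_⟩, hc⟩
  obtain ⟨c, hcC, e⟩ := B.lift m
  have hcH : c ∈ Hc z a := Subgroup.mem_inf.2 ⟨hcC, mem_Cz.2 (hH c hcC)⟩
  refine ⟨⟨qm a φ c, B.qm_Hc Q hcH⟩, ?_⟩
  have := hc c hcH
  rw [aut, dif_pos (B.qm_Hc Q hcH)] at this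
  rw [this, e]

/-- The structure without. -/
theorem exists_pre (hH : ∀ x ∈ Hc z a, ∃ g, aut z π x = MulAut.conj g) {φ : ↥(Cz a) →* X} (Q : Qt a φ) :
    ∃ π0 : ↥(Cz (qm a φ z)) →* G4, Pre (qm a φ z) ((J.subgroupOf (Cz a)).map φ) π0 ∧
      ∀ x ∈ Hc z a, aut z π x = MulAut.conj (img (qm a φ z) π0 (qm a φ x)) := by
  classical
  obtain ⟨ρ, hk, hc⟩ := B.exists_map Q
  have hex : ∀ w : ↥(Cz (qm a φ z)), ∃ g, ρ w = MulAut.conj g := fun w => by
    obtain ⟨x, hx, e⟩ := B.exists_Hc Q w.2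
    obtain ⟨g, hg⟩ := hH x hx
    refine ⟨g, ?_⟩
    have := hc x hx
    rwa [e, aut, dif_pos w.2, hg] at this
  choose f hf using hex
  let π0 : ↥(Cz (qm a φ z)) →* G4 := MonoidHom.mk' f fun u v => conj_inj (by rw [← hf, map_mul, map_mul, ← hf, ← hf])
  refine ⟨π0, ⟨B.setting Q, B.card_image Q, ?_, fun g => ?_⟩, fun x hx => ?_⟩
  · rw [← hk]
    ext w
    rw [MonoidHom.mem_ker, MonoidHom.mem_ker, hf, ← (MulAut.conj : G4 →* MulAut G4).map_one, conj_inj.eq_iff]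
    rfl
  · obtain ⟨c, hcH, e⟩ := B.lift_Hc g
    refine ⟨⟨qm a φ c, B.qm_Hc Q hcH⟩, conj_inj ?_⟩
    show MulAut.conj (f _) = _
    rw [← hf]
    have := hc c hcH
    rwa [aut, dif_pos (B.qm_Hc Q hcH), e] at this
  · rw [← hc x hx, aut, dif_pos (B.qm_Hc Q hx), img, dif_pos (B.qm_Hc Q hx)]
    exact hf _

/-- An involution isolated in the quotient gives odd products. -/
theorem odd_of_isolated {φ : ↥(Cz a) →* X} (Q : Qt a φ)
    (hiso : ∀ g : X, g * qm a φ z * g⁻¹ ∈ Cz (qm a φ z) → g * qm a φ z * g⁻¹ = qm a φ z) : OddIso z a := by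
  classical
  intro u hu
  have hz2 : qm a φ z * qm a φ z = 1 := by rw [← Q.qm_mul B.zCa B.zCa, B.zz, Q.qm_one]
  have hzo : orderOf (qm a φ z) = 2 := orderOf_eq_prime (by rw [pow_two]; exact hz2) (B.qz_ne Q)
  haveI hn : (oddCore X).Normal := Transfer.pPrimeCore_normal 2 X
  have hcore : ZStar.CommutatorsInCore (qm a φ z) :=
    ZStar.commutatorsInCore_of_isolated ⟨hzo, fun g hg => hiso g (mem_Cz.2 hg.eq.symm)⟩
  set w := qm a φ u with hw
  have hrO : w * qm a φ z * w⁻¹ * qm a φ z ∈ oddCore X := by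
    have h := inv_mem (hcore w)
    rw [mul_inv_rev, mul_inv_rev, mul_inv_rev, inv_inv, inv_inv, inv_eq_of_mul_eq_one_right hz2] at h
    simpa only [mul_assoc] using h
  set r := u * z * u⁻¹ * z with hr
  have huz : u * z * u⁻¹ ∈ Cz a := (Cz a).mul_mem ((Cz a).mul_mem hu B.zCa) ((Cz a).inv_mem hu)
  have hrC : r ∈ Cz a := (Cz a).mul_mem huz B.zCa
  have hqr : qm a φ r = w * qm a φ z * w⁻¹ * qm a φ z := by rw [hr, Q.qm_mul huz B.zCa, Q.qm_conj hu B.zCa]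
  set n := orderOf (⟨_, hrO⟩ : oddCore X) with hn'
  have hodd : Odd n := by
    rw [← Nat.not_even_iff_odd, even_iff_two_dvd]
    intro h
    have := Nat.dvd_gcd (h.trans (orderOf_dvd_natCard _)) (dvd_refl 2)
    rw [(Transfer.pPrimeCore_coprime 2 : (Nat.card (oddCore X)).Coprime 2).gcd_eq_one] at this
    exact absurd this (by norm_num)
  have hpw : ∀ k : ℕ, qm a φ (r ^ k) = qm a φ r ^ k := by
    intro k
    induction k with
    | zero => simp [Q.qm_one]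
    | succ k ih => rw [pow_succ, pow_succ, Q.qm_mul (pow_mem hrC k) hrC, ih]
  have hrn : qm a φ (r ^ n) = 1 := by
    rw [hpw, hqr]
    exact congrArg Subtype.val (pow_orderOf_eq_one (⟨_, hrO⟩ : oddCore X))
  rcases (Q.qm_eq_one (pow_mem hrC n)).1 hrn with e | e
  · exact hodd.of_dvd_nat (orderOf_dvd_of_pow_eq_one e)
  exfalso
  obtain ⟨m, hm⟩ := hodd
  set s := u * z * u⁻¹
  have s2 : s * s = 1 := by
    show u * z * u⁻¹ * (u * z * u⁻¹) = 1
    rw [show u * z * u⁻¹ * (u * z * u⁻¹) = u * (z * z) * u⁻¹ by group, B.zz]; group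
  have hinv : z * r * z⁻¹ = r⁻¹ := by
    rw [hr, mul_inv_rev, inv_eq_of_mul_eq_one_right B.zz, inv_eq_of_mul_eq_one_right s2]
    rw [mul_assoc, mul_assoc, B.zz, mul_one]
  have hzm : z * r ^ m * z⁻¹ = (r ^ m)⁻¹ := by rw [← conj_pow, hinv, inv_pow]
  have hzi : z * (r ^ m)⁻¹ = r ^ m * z := by
    calc z * (r ^ m)⁻¹ = (z * r ^ m * z⁻¹)⁻¹ * z := by group
      _ = _ := by rw [hzm, inv_inv]
  have hsr : s = r * z := by rw [hr, mul_assoc, B.zz, mul_one]
  refine B.not_conj' (r ^ m * u) ?_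
  calc r ^ m * u * z * (r ^ m * u)⁻¹ = r ^ m * s * (r ^ m)⁻¹ := by simp only [s]; group
    _ = r ^ m * r * (z * (r ^ m)⁻¹) := by rw [hsr]; group
    _ = r ^ (2 * m + 1) * z := by rw [hzi, ← mul_assoc, ← pow_succ, ← pow_add]; congr 2; omega
    _ = _ := by rw [← hm, e, B.za]

/-- The dichotomy with an outer element. -/
theorem alt_two (hH : ∀ x ∈ Cz z, x * a = a * x) {φ : ↥(Cz a) →* X} (Q : Qt a φ) :
    OddIso z a ∨ Split6 a φ := by
  obtain ⟨ρ, T, -⟩ := B.exists_two hH Q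
  rcases USixTwo.index_two_or_isolated T with h | ⟨G0, hi, hφ, hc⟩
  · exact Or.inl (B.odd_of_isolated Q h)
  · exact Or.inr ⟨G0, hi, hφ, hc⟩

/-- The dichotomy without. -/
theorem alt_pre (hH : ∀ x ∈ Hc z a, ∃ g, aut z π x = MulAut.conj g) {φ : ↥(Cz a) →* X} (Q : Qt a φ) :
    OddIso z a ∨ Nonempty (X ≃* Cfsg.PSU 6 CfsgLib.HePres.K4 2) := by
  obtain ⟨π0, P, -⟩ := B.exists_pre hH Q
  exact (psu_or_isolated P).imp_left (B.odd_of_isolated Q)

end Big

end CfsgLib.FiTwoType
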