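import Cfsg.Agent.Lib.FiTwoType.Fix

/-!
The natural representation: fixed spaces of inner and outer involutions, and three commuting inner involutions.
-/

set_option autoImplicit false
set_option linter.unusedSectionVars false
set_option linter.style.haveILetI false
set_option maxRecDepth 100000

open Cfsg CfsgLib.Extraspecial CfsgLib.USixType CfsgLib.USixTwo
open CfsgLib.FiTwentyThreeType (SC dW dW_facts sc_fpf sc_natL rep_facts tv_unique)

namespace CfsgLib.FiTwoType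

theorem dW_cube : evalW dW * (evalW dW * evalW dW) = 1 := by
  rw [← evalW_append, ← evalW_append, show (1 : G4) = evalW [] from rfl]
  exact evalW_eq dW_facts.2.1

theorem dW_commute (k : Bool) : evalW dW * evalW (repW k) = evalW (repW k) * evalW dW := by
  rw [← evalW_append, ← evalW_append]
  exact evalW_eq (dW_facts.2.2.1 k)

theorem sc_inj {v w : V8} (h : app SC v = app SC w) : v = w := by
  rw [← sc_three v, h, sc_three]

namespace Crd

variable {G : Type*} [Group G] [Finite G] {z a : G} {J : Subgroup G} {π : ↥(Cz z) →* MulAut G4}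
  {β : V8 → V8 → Bool} {S : Fin 5 → Lin} {σ : Lin} (C : Crd z a J π β S σ) (B : Big z a J π)
include C B

theorem rc_of_J {x : G} (hx : x ∈ J) {v : V8} (h : bb β (C.vec x) v = false) : C.RC x v := by
  obtain ⟨q, hq, rfl⟩ := C.surj v
  exact ⟨q, hq, rfl, (C.comm_iff B hx hq).2 h⟩

theorem rc_J_iff {x : G} (hx : x ∈ J) {v : V8} : C.RC x v ↔ bb β (C.vec x) v = false :=
  ⟨fun ⟨_, hq, e, h⟩ => e ▸ (C.comm_iff B hx hq).1 h, C.rc_of_J B hx⟩

/-- An element of `J` shares its centraliser only with elements of `J`. -/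
theorem j_share {e f : G} (he : e ∈ J) (he2 : e * e = 1) (hf : f ∈ Cz z) (hf2 : f * f ∈ J)
    (hv : C.vec e ≠ 0) (h : ∀ q ∈ J, e * q = q * e → f * q = q * f) : f ∈ J := by
  by_contra hn
  obtain ⟨g, ⟨-, hM⟩ | ⟨-, hM⟩⟩ := C.mat_exists B hf
  all_goals
    exact C.no_big B hf hn hf2 hM hv (C.qq_zero B he he2) fun v hb =>
      C.rc_fix B hM (C.rc_sub B h (C.rc_of_J B he hb))

variable (hS : S = gL)
include hS

theorem natA : β = bA ∧ σ = sgA := by
  rcases C.kind with ⟨h, -, h'⟩ | ⟨-, h, -⟩ | ⟨-, h, -⟩ | ⟨-, h, -⟩ | ⟨-, h, -⟩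
  · exact ⟨h, h'⟩
  all_goals exact absurd (congrFun (h.symm.trans hS) 0) (by decide +kernel)

theorem L_nat (g : G4) : C.M.L g = natL g := natL_L C.M hS g

theorem sc_inner {g : G4} (v : V8) : app (C.M.L g) (app SC v) = app SC (app (C.M.L g) v) := by
  rw [C.L_nat B hS, sc_natL]

theorem sc_outer {g : G4} (v : V8) :
    app (comp (C.M.L g) σ) (app SC v) = app SC (app SC (app (comp (C.M.L g) σ) v)) := by
  have hσ : ∀ w, app σ w = app sgA w := fun w => congrArg (fun L => app L w) (C.natA B hS).2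
  rw [app_comp, app_comp, hσ, sc_sgA, C.sc_inner B hS, C.sc_inner B hS, hσ]

/-- Fixed vectors of an inner involution have signs in `⟨z⟩`. -/
theorem small_signs {x : G} {k : Bool} (hx : Inner π x) (hg : aut z π x = MulAut.conj (evalW (repW k))) {v : V8}
    (hv : app (linW gL (repW k)) v = v) : ∃ s, (s = 1 ∨ s = z) ∧ C.Lf x v s := by
  obtain ⟨u, hu, hud⟩ := B.inner_lift (evalW dW)
  have hcom : u * x * u⁻¹ * x⁻¹ ∈ J := by
    refine (B.aut_eq_one (mul_mem (mul_mem (mul_mem hu.1 hx.1) (inv_mem hu.1)) (inv_mem hx.1))).1 ?_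
    rw [B.aut_mul (mul_mem (mul_mem hu.1 hx.1) (inv_mem hu.1)) (inv_mem hx.1),
      B.aut_mul (mul_mem hu.1 hx.1) (inv_mem hu.1), B.aut_mul hu.1 hx.1, B.aut_inv hu.1, B.aut_inv hx.1, hud, hg,
      ← map_mul, dW_commute, map_mul]
    group
  have hN := C.mat_inner B hu.1 hud
  have hM := C.mat_inner B hx.1 hg
  have hM' : app (C.M.L (evalW (repW k))) v = v := by rw [C.L_nat B hS, natL_evalW, hv]
  have hfD : app (C.M.L (evalW (repW k))) (app (C.M.L (evalW dW)) v) = app (C.M.L (evalW dW)) v := by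
    rw [← app_comp, ← C.M.mul, ← dW_commute, C.M.mul, app_comp, hM']
  obtain ⟨s, hs, h⟩ := C.lf_disp B (B.inner_Hc hu) hcom hM hN hfD
  refine ⟨s, hs, ?_⟩
  have h0 := dW_facts.2.2.2 v
  rw [xr_eq_zero, ← natL_evalW, ← C.L_nat B hS] at h0
  exact h0 ▸ h

/-- The vectors fixed by a representative. -/
theorem fix_rep (k : Bool) : (fixS (C.M.L (evalW (repW k)))).card = cond k 16 64 := by
  classical
  have e : fixS (C.M.L (evalW (repW k))) =
      ((List.finRange 256).filter fun v => app (linW gL (repW k)) v == v).toFinset := by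
    ext v
    rw [mem_fixS, C.L_nat B hS, natL_evalW, List.mem_toFinset, List.mem_filter]
    simp
  rw [e, List.toFinset_card_of_nodup ((List.nodup_finRange _).filter _)]
  cases k
  exacts [fix_counts.1.1, fix_counts.1.2]

/-- An inner involution: the fixed vectors and those with commuting lifts. -/
theorem inner_size {x : G} (hx : Inner π x) (hn : x ∉ J) (h2 : x * x ∈ J) :
    ∃ k g, aut z π x = MulAut.conj g ∧ (fixS (C.M.L g)).card = cond k 16 64 ∧
      (fixS (C.M.L g)).card ≤ 2 * (C.rcS x).card ∧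
      ∃ c, Inner π c ∧ aut z π (c * x * c⁻¹) = MulAut.conj (evalW (repW k)) := by
  classical
  obtain ⟨k, c, hc, hck⟩ := B.inner_fix_rep hx hn h2
  obtain ⟨g, hg⟩ := hx.2
  have hx' := B.inner_conj hc.1 hx
  obtain ⟨gc, hgc⟩ := hc.2
  have hN := C.mat_inner B hc.1 hgc
  have hsize := C.fix_conj B (C.mat_inner B hx.1 hg) hN (C.mat_inner B hx'.1 hck)
  refine ⟨k, g, hg, hsize.trans (C.fix_rep B hS k), ?_, c, hc, hck⟩
  have hhalf := C.rc_half B (B.inner_Hc hx') (U := fixS (C.M.L (evalW (repW k)))) fun v hv =>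
    C.small_signs B hS hx' hck (by rw [← natL_evalW, ← C.L_nat B hS]; exact mem_fixS.1 hv)
  rw [hsize]
  refine hhalf.trans (Nat.mul_le_mul_left 2 ?_)
  obtain ⟨gi, hgi⟩ := (B.inner_inv hc).2
  have hNi := C.mat_inner B (B.inner_inv hc).1 hgi
  have hmul : comp (C.M.L gc) (C.M.L gi) = idL := by
    refine C.mat_unique B (C.mat_mul B hN hNi) ?_
    rw [mul_inv_cancel]; exact C.mat_J B J.one_mem
  refine Finset.card_le_card_of_injOn (app (C.M.L gi)) (fun v hv => ?_) fun v _ u _ e => ?_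
  · have := C.rc_conj B hNi (C.mem_rcS.1 hv)
    rw [inv_inv, show c⁻¹ * (c * x * c⁻¹) * c = x by group] at this
    exact Finset.mem_coe.2 (C.mem_rcS.2 this)
  · have := congrArg (app (C.M.L gc)) e
    rwa [← app_comp, ← app_comp, hmul, id_app, id_app] at this

/-- A fixed space of an outer element has small intersection with its scalar image. -/
theorem out_square {g : G4} {R U : Finset V8} (hR : ∀ v ∈ R, app (comp (C.M.L g) σ) v = v)
    (hRx : ∀ v ∈ R, ∀ w ∈ R, xr v w ∈ R) (hRU : R ⊆ U) (hUx : ∀ v ∈ U, ∀ w ∈ U, xr v w ∈ U)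
    (hUc : ∀ v ∈ U, app SC v ∈ U) : R.card * R.card ≤ U.card := by
  classical
  rw [← Finset.card_product]
  refine Finset.card_le_card_of_injOn (fun p : V8 × V8 => xr p.1 (app SC p.2)) (fun p hp => ?_) ?_
  · obtain ⟨h1, h2⟩ := Finset.mem_product.1 hp
    exact hUx _ (hRU h1) _ (hUc _ (hRU h2))
  · rintro ⟨r, t⟩ hp ⟨r', t'⟩ hp' e
    obtain ⟨h1, h2⟩ := Finset.mem_product.1 hp
    obtain ⟨h1', h2'⟩ := Finset.mem_product.1 hp'
    change xr r (app SC t) = xr r' (app SC t') at e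
    have e2 : xr r r' = app SC (xr t t') := by
      rw [app_xr, ← xr_cancel r (app SC t), e, ← xr_assoc, xr_assoc (xr r r'), xr_self, xr_zero]
    have hf := hR _ (hRx _ h1 _ h1')
    rw [e2, C.sc_outer B hS, hR _ (hRx _ h2 _ h2')] at hf
    have h0 : xr t t' = 0 := sc_fpf _ (sc_inj hf)
    rw [h0, app_zero] at e2
    exact Prod.ext (xr_eq_zero.1 e2) (xr_eq_zero.1 h0)

/-- Outer involutions do not share centralisers with inner ones. -/
theorem inn_out {x y : G} (hx : Inner π x) (hnZ : ¬ InZ z a x) (h2 : x * x ∈ J) (hy : y ∈ Cz z)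
    (hyo : ¬ Inner π y) (h : ∀ q ∈ J, x * q = q * x → y * q = q * y) : False := by
  classical
  obtain ⟨g, ⟨hg, -⟩ | ⟨-, hM⟩⟩ := C.mat_exists B hy
  · exact hyo ⟨hy, g, hg⟩
  have hR : ∀ v ∈ C.rcS x, app (comp (C.M.L g) σ) v = v := fun v hv =>
    C.rc_fix B hM (C.rc_sub B h (C.mem_rcS.1 hv))
  have hRx : ∀ v ∈ C.rcS x, ∀ w ∈ C.rcS x, xr v w ∈ C.rcS x := fun v hv w hw =>
    C.mem_rcS.2 (C.rc_xr B (C.mem_rcS.1 hv) (C.mem_rcS.1 hw))
  by_cases hxJ : x ∈ J
  · have h128 : 128 ≤ (C.rcS x).card := by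
      refine (perp_card C.bil (C.vec x)).trans ?_
      rw [← List.toFinset_card_of_nodup ((List.nodup_finRange 256).filter _)]
      refine Finset.card_le_card fun v hv => C.mem_rcS.2 (C.rc_of_J B hxJ ?_)
      simpa using hv
    have := C.out_square B hS hR hRx (Finset.subset_univ _) (fun _ _ _ _ => Finset.mem_univ _)
      (fun _ _ => Finset.mem_univ _)
    rw [Finset.card_univ, Fintype.card_fin] at this
    have := Nat.mul_le_mul h128 h128
    omega
  · obtain ⟨k, gx, hgx, hcard, hhalf, -⟩ := C.inner_size B hS hx hxJ h2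
    have hMx := C.mat_inner B hx.1 hgx
    have := C.out_square B hS hR hRx (C.rcS_le B hMx)
      (fun v hv w hw => mem_fixS.2 (by rw [app_xr, mem_fixS.1 hv, mem_fixS.1 hw]))
      (fun v hv => mem_fixS.2 (by rw [C.sc_inner B hS, mem_fixS.1 hv]))
    rw [hcard] at hhalf this
    cases k <;> simp only [cond_true, cond_false] at hhalf this
    · have := Nat.mul_le_mul (show 32 ≤ (C.rcS x).card by omega) (show 32 ≤ (C.rcS x).card by omega)
      omega
    · have := Nat.mul_le_mul (show 8 ≤ (C.rcS x).card by omega) (show 8 ≤ (C.rcS x).card by omega)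
      omega

/-- An element over `dW` commuting with an involution over the second representative. -/
theorem four_lift {w : G} (hw : Inner π w) (hg : aut z π w = MulAut.conj (evalW (repW true))) (w2 : w * w = 1) :
    ∃ u, Inner π u ∧ aut z π u = MulAut.conj (evalW dW) ∧ u * w = w * u := by
  obtain ⟨u0, hu0, hu0d⟩ := B.inner_lift (evalW dW)
  have hwi : w⁻¹ = w := inv_eq_of_mul_eq_one_right w2
  have hM := C.mat_inner B hw.1 hg
  set j := u0 * w * u0⁻¹ * w⁻¹ with hj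
  have hjJ : j ∈ J := by
    refine (B.aut_eq_one (mul_mem (mul_mem (mul_mem hu0.1 hw.1) (inv_mem hu0.1)) (inv_mem hw.1))).1 ?_
    rw [B.aut_mul (mul_mem (mul_mem hu0.1 hw.1) (inv_mem hu0.1)) (inv_mem hw.1),
      B.aut_mul (mul_mem hu0.1 hw.1) (inv_mem hu0.1), B.aut_mul hu0.1 hw.1, B.aut_inv hu0.1, B.aut_inv hw.1,
      hu0d, hg, ← map_mul, dW_commute, map_mul]
    group
  have e1 : w * j * w⁻¹ = j⁻¹ := by
    rw [hj]
    simp only [mul_inv_rev, inv_inv, hwi]
    calc w * (u0 * w * u0⁻¹ * w) * w = w * (u0 * w * u0⁻¹) * (w * w) := by group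
      _ = _ := by rw [w2]; group
  have hfx : app (linW gL (repW true)) (C.vec j) = C.vec j := by
    rw [← natL_evalW, ← C.L_nat B hS, ← hM.2 j hjJ, e1, C.vec_inv B hjJ]
  obtain ⟨p, hp⟩ := rep_facts.2 _ hfx
  obtain ⟨q, hq, hqp⟩ := C.surj p
  set u1 := q⁻¹ * u0 with hu1
  have hu1I : Inner π u1 :=
    (B.inner_iff (B.JC (J.inv_mem hq)) hu0.1).2 ⟨fun _ => hu0, fun _ => B.J_inner (J.inv_mem hq)⟩
  set t := u1 * w * u1⁻¹ * w⁻¹ with ht
  have ht' : t = q⁻¹ * j * (w * q * w⁻¹) := by rw [ht, hu1, hj]; group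
  have hwq := B.conjJ hw.1 hq
  have htZ : InZ z a t := by
    rw [ht']
    refine C.ker _ (J.mul_mem (J.mul_mem (J.inv_mem hq) hjJ) hwq) ?_
    rw [C.mul _ (J.mul_mem (J.inv_mem hq) hjJ) _ hwq, C.mul _ (J.inv_mem hq) _ hjJ, C.vec_inv B hq, hqp,
      hM.2 q hq, hqp, C.L_nat B hS, natL_evalW, ← hp, xr_comm (app (linW gL (repW true)) p) p, xr_cancel, xr_self]
  have hut : u1 * t * u1⁻¹ = t := by rw [B.inZ_comm htZ (B.inner_Hc hu1I)]; group
  have e2 : u1 * w * u1⁻¹ = t * w := by rw [ht]; group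
  have hit : ∀ n : ℕ, u1 ^ n * w * (u1 ^ n)⁻¹ = t ^ n * w := by
    intro n
    induction n with
    | zero => simp
    | succ n ih =>
      have htn : u1 * t ^ n * u1⁻¹ = t ^ n := by rw [← conj_pow, hut]
      calc u1 ^ (n + 1) * w * (u1 ^ (n + 1))⁻¹ = u1 * (u1 ^ n * w * (u1 ^ n)⁻¹) * u1⁻¹ := by
            rw [pow_succ']; group
        _ = (u1 * t ^ n * u1⁻¹) * (u1 * w * u1⁻¹) := by rw [ih]; group
        _ = _ := by rw [htn, e2, pow_succ]; group
  have hud : aut z π u1 = MulAut.conj (evalW dW) := by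
    rw [hu1, B.aut_mul (B.JC (J.inv_mem hq)) hu0.1, B.aut_J (J.inv_mem hq), one_mul, hu0d]
  have h4 : aut z π (u1 ^ 4) = MulAut.conj (evalW dW) := by
    have e : u1 ^ 4 = u1 * u1 * (u1 * u1) := by
      simp only [show (4 : ℕ) = 0 + 1 + 1 + 1 + 1 from rfl, pow_succ, pow_zero, one_mul, mul_assoc]
    rw [e, B.aut_mul (mul_mem hu1I.1 hu1I.1) (mul_mem hu1I.1 hu1I.1), B.aut_mul hu1I.1 hu1I.1, hud, ← map_mul,
      ← map_mul, mul_assoc, dW_cube, mul_one]
  refine ⟨u1 ^ 4, ⟨pow_mem hu1I.1 4, _, h4⟩, h4, ?_⟩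
  have := hit 4
  rw [show (4 : ℕ) = 2 * 2 from rfl, pow_mul t, pow_two t, B.inZ_sq htZ, one_pow, one_mul] at this
  exact mul_inv_eq_iff_eq_mul.1 this

/-- Three inner involutions, two of them sharing their centraliser inside that of the third. -/
theorem key {k b : G} (hk : Inner π k) (hb : Inner π b) (k2 : k * k = 1) (b2 : b * b = 1) (hkb : k * b = b * k)
    (hkJ : k ∉ J) (hbJ : b ∉ J) (hwJ : b * k ∉ J)
    (hbw : ∀ q ∈ J, b * q = q * b → b * k * q = q * (b * k))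
    (hwb : ∀ q ∈ J, b * k * q = q * (b * k) → b * q = q * b)
    (hodd : ∀ u ∈ Cz z, u * (b * k) = b * k * u → Odd (orderOf (u * k * u⁻¹ * k))) : False := by
  classical
  have hw : Inner π (b * k) := (B.inner_iff hb.1 hk.1).2 ⟨fun _ => hk, fun _ => hb⟩
  have w2 : b * k * (b * k) = 1 := by
    rw [mul_assoc, ← mul_assoc k, hkb, mul_assoc, k2, mul_one, b2]
  obtain ⟨k1, gw0, hgw0, hwc, hwh, c, hc, hck⟩ := C.inner_size B hS hw hwJ (by rw [w2]; exact J.one_mem)
  -- conjugate the product to its representative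
  set k' := c * k * c⁻¹ with hk'
  set b' := c * b * c⁻¹ with hb'
  set w' := c * (b * k) * c⁻¹ with hw'
  have hkI := B.inner_conj hc.1 hk
  have hbI := B.inner_conj hc.1 hb
  have hwI := B.inner_conj hc.1 hw
  rw [← hk'] at hkI; rw [← hb'] at hbI; rw [← hw'] at hwI
  have notJ : ∀ {v : G}, v ∉ J → c * v * c⁻¹ ∉ J := fun hv h => hv (by
    simpa [mul_assoc] using B.conjJ (inv_mem hc.1) h)
  have sq : ∀ {v : G}, v * v = 1 → c * v * c⁻¹ * (c * v * c⁻¹) = 1 := fun {v} hv => by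
    rw [show c * v * c⁻¹ * (c * v * c⁻¹) = c * (v * v) * c⁻¹ by group, hv]; group
  have cq : ∀ {v q : G}, c * v * c⁻¹ * q = q * (c * v * c⁻¹) ↔ v * (c⁻¹ * q * c) = c⁻¹ * q * c * v := fun {v q} => by
    constructor <;> intro e
    · calc v * (c⁻¹ * q * c) = c⁻¹ * (c * v * c⁻¹ * q) * c := by group
        _ = _ := by rw [e]; group
    · calc c * v * c⁻¹ * q = c * (v * (c⁻¹ * q * c)) * c⁻¹ := by group
        _ = _ := by rw [e]; group
  have hJc : ∀ {q : G}, q ∈ J → c⁻¹ * q * c ∈ J := fun hq => by simpa using B.conjJ (inv_mem hc.1) hq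
  have hbw' : ∀ q ∈ J, b' * q = q * b' → w' * q = q * w' := fun q hq e => cq.2 (hbw _ (hJc hq) (cq.1 e))
  have hwb' : ∀ q ∈ J, w' * q = q * w' → b' * q = q * b' := fun q hq e => cq.2 (hwb _ (hJc hq) (cq.1 e))
  obtain ⟨gb, hgb⟩ := hbI.2
  obtain ⟨gk, hgk⟩ := hkI.2
  have hprod : gb * gk = evalW (repW k1) := conj_inj (by
    rw [map_mul, ← hgb, ← hgk, ← B.aut_mul hbI.1 hkI.1, hb', hk',
      show c * b * c⁻¹ * (c * k * c⁻¹) = c * (b * k) * c⁻¹ by group]
    exact hck)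
  have hgk1 : gk ≠ 1 := B.inner_mat_ne hkI.1 (notJ hkJ) hgk
  have hgb1 : gb ≠ 1 := B.inner_mat_ne hbI.1 (notJ hbJ) hgb
  have hgk2 : gk * gk = 1 := conj_inj (by
    rw [map_mul, ← hgk, map_one, ← B.aut_mul hkI.1 hkI.1, hk', sq k2]; exact B.aut_J J.one_mem)
  -- the fixed spaces of the two coincide
  have hMw := C.mat_inner B hwI.1 hck
  have hMb := C.mat_inner B hbI.1 hgb
  obtain ⟨kb, gb', hgb', hbc, hbh, -⟩ := C.inner_size B hS hbI (notJ hbJ) (by rw [hb', sq b2]; exact J.one_mem)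
  obtain rfl : gb = gb' := conj_inj (hgb.symm.trans hgb')
  obtain ⟨kw, gw', hgw', -, hwh', -⟩ := C.inner_size B hS hwI (notJ hwJ) (by rw [hw', sq w2]; exact J.one_mem)
  obtain rfl : evalW (repW k1) = gw' := conj_inj (hck.symm.trans hgw')
  have hRR : C.rcS w' = C.rcS b' := Finset.Subset.antisymm (C.rcS_mono B hwb') (C.rcS_mono B hbw')
  have hclosed : ∀ (M : Lin), ∀ v ∈ fixS M, ∀ u ∈ fixS M, xr v u ∈ fixS M := fun M v hv u hu =>
    mem_fixS.2 (by rw [app_xr, mem_fixS.1 hv, mem_fixS.1 hu])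
  have hRx : ∀ v ∈ C.rcS w', ∀ u ∈ C.rcS w', xr v u ∈ C.rcS w' := fun v hv u hu =>
    C.mem_rcS.2 (C.rc_xr B (C.mem_rcS.1 hv) (C.mem_rcS.1 hu))
  have hsc : ∀ (g : G4), ∀ v ∈ fixS (C.M.L g), app SC v ∈ fixS (C.M.L g) := fun g v hv =>
    mem_fixS.2 (by rw [C.sc_inner B hS, mem_fixS.1 hv])
  have hscb : ∀ (g : G4) (v : V8), app (C.M.L g) (app SC v) = app SC v → app (C.M.L g) v = v := fun g v hv => by
    rw [C.sc_inner B hS] at hv; exact sc_inj hv
  have hin : ∀ v ∈ fixS (C.M.L (evalW (repW k1))), app (C.M.L gb) v = v :=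
    sc_full (R := C.rcS w') (fun v u hv hu => by rw [app_xr, hv, hu])
      (fun v hv => mem_fixS.1 (C.rcS_le B hMb (hRR ▸ hv))) hRx (C.rcS_le B hMw) (hclosed _) (hsc _) (hscb gb) hwh'
  have hout : ∀ v ∈ fixS (C.M.L gb), app (C.M.L (evalW (repW k1))) v = v :=
    sc_full (R := C.rcS w') (fun v u hv hu => by rw [app_xr, hv, hu])
      (fun v hv => mem_fixS.1 (C.rcS_le B hMw hv)) hRx (hRR ▸ C.rcS_le B hMb) (hclosed _) (hsc _) (hscb _)
      (hRR ▸ hbh)
  have hfixb : ∀ v, app (linW gL (repW k1)) v = v → app (natL gb) v = v := fun v hv => by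
    rw [← C.L_nat B hS]
    exact hin v (mem_fixS.2 (by rw [C.L_nat B hS, natL_evalW, hv]))
  have hgk_eq : gk = gb⁻¹ * evalW (repW k1) := by rw [← hprod, inv_mul_cancel_left]
  cases k1
  · rcases tv_unique gb hfixb with e | e
    · exact hgb1 e
    · exact hgk1 (by rw [hgk_eq, e, inv_mul_cancel])
  have hfixk : ∀ v, app (linW gL (repW true)) v = v → app (natL gk) v = v := fun v hv => by
    have hbinv : app (natL gb⁻¹) v = v := by
      have := congrArg (app (natL gb⁻¹)) (hfixb v hv)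
      rw [← app_comp, ← natL_mul, inv_mul_cancel, natL_one, id_app] at this
      exact this.symm
    rw [hgk_eq, natL_mul, app_comp, natL_evalW, hv, hbinv]
  have hrg : ∀ v, app (linW gL (repW true)) (app (natL gk) v) = v → app (linW gL (repW true)) v = v := fun v hv => by
    rw [← natL_evalW, ← app_comp, ← natL_mul, ← hprod, mul_assoc, hgk2, mul_one] at hv
    have h := hout v (mem_fixS.2 (by rw [C.L_nat B hS, hv]))
    rwa [C.L_nat B hS, natL_evalW] at h
  obtain ⟨hne, hcom⟩ := four_move' gk hfixk hrg hgk1 (fun e => hgb1 (by rw [e] at hprod; exact mul_eq_right.1 hprod))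
  obtain ⟨u, hu, hud, huw⟩ := C.four_lift B hS hwI hck (sq w2)
  set d := evalW dW
  have hie : aut z π (u * k' * u⁻¹ * k') = MulAut.conj (d * gk * d⁻¹ * gk) := by
    rw [B.aut_mul (mul_mem (mul_mem hu.1 hkI.1) (inv_mem hu.1)) hkI.1, B.aut_mul (mul_mem hu.1 hkI.1) (inv_mem hu.1),
      B.aut_mul hu.1 hkI.1, B.aut_inv hu.1, hud, hgk]
    simp only [map_mul, map_inv]
  have hne1 : d * gk * d⁻¹ * gk ≠ 1 := fun h => hne (by
    rw [eq_inv_of_mul_eq_one_left h, inv_eq_of_mul_eq_one_right hgk2])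
  have hsq : (d * gk * d⁻¹ * gk) * (d * gk * d⁻¹ * gk) = 1 := by
    calc (d * gk * d⁻¹ * gk) * (d * gk * d⁻¹ * gk) = d * gk * d⁻¹ * (gk * (d * gk * d⁻¹)) * gk := by group
      _ = d * (gk * gk) * d⁻¹ * (gk * gk) := by rw [← hcom.eq]; group
      _ = 1 := by rw [hgk2]; group
  set u' := c⁻¹ * u * c with hu'
  have hodd' := hodd u' (mul_mem (mul_mem (inv_mem hc.1) hu.1) hc.1) (by
    rw [hu']
    calc c⁻¹ * u * c * (b * k) = c⁻¹ * (u * w') * c := by rw [hw']; group
      _ = _ := by rw [huw, hw']; group)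
  have hord : orderOf (u' * k * u'⁻¹ * k) = orderOf (u * k' * u⁻¹ * k') := by
    rw [show u * k' * u⁻¹ * k' = MulAut.conj c (u' * k * u'⁻¹ * k) by
      simp only [hu', hk', MulAut.conj_apply]; group, MulEquiv.orderOf_eq]
  rw [hord] at hodd'
  obtain ⟨n, hn⟩ := hodd'
  have hmem : u * k' * u⁻¹ * k' ∈ Cz z := mul_mem (mul_mem (mul_mem hu.1 hkI.1) (inv_mem hu.1)) hkI.1
  have hpow : ∀ m : ℕ, aut z π ((u * k' * u⁻¹ * k') ^ m) = MulAut.conj ((d * gk * d⁻¹ * gk) ^ m) := by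
    intro m
    induction m with
    | zero => rw [pow_zero, pow_zero, map_one]; exact B.aut_J J.one_mem
    | succ m ih => rw [pow_succ, pow_succ, B.aut_mul (pow_mem hmem m) hmem, ih, hie, ← map_mul]
  have h0 := hpow (2 * n + 1)
  rw [← hn, pow_orderOf_eq_one, hn, pow_succ (d * gk * d⁻¹ * gk), pow_mul, pow_two (d * gk * d⁻¹ * gk), hsq,
    one_pow, one_mul, B.aut_J J.one_mem, ← (MulAut.conj : G4 →* MulAut G4).map_one] at h0
  exact hne1 (conj_inj h0).symm

end Crd

end CfsgLib.FiTwoType
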