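import Cfsg.Agent.Lib.FiTwoType.Basic

/-!
The centraliser of the second involution modulo that involution.
-/

set_option autoImplicit false
set_option linter.unusedSectionVars false
set_option linter.style.haveILetI false

open Cfsg CfsgLib.Extraspecial CfsgLib.USixType CfsgLib.USixTwo
open scoped commutatorElement

namespace CfsgLib.FiTwoType

variable {G : Type*} [Group G] {X : Type*} [Group X]

/-- The conjugates of `z` under the centraliser of `v` differ from it by odd elements. -/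
def OddIso (z v : G) : Prop := ∀ u ∈ Cz v, Odd (orderOf (u * z * u⁻¹ * z))

open scoped _root_.Classical in
/-- The map on the centraliser, extended. -/
noncomputable def qm (a : G) (φ : ↥(Cz a) →* X) (x : G) : X :=
  if h : x ∈ Cz a then φ ⟨x, h⟩ else 1

/-- A quotient of the centraliser of `a` by `a`. -/
structure Qt (a : G) (φ : ↥(Cz a) →* X) : Prop where
  surj : Function.Surjective φ
  ker : ∀ x : ↥(Cz a), φ x = 1 ↔ (x : G) = 1 ∨ (x : G) = a

namespace Qt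

variable {a : G} {φ : ↥(Cz a) →* X} (Q : Qt a φ)
include Q

theorem qm_mul {x y : G} (hx : x ∈ Cz a) (hy : y ∈ Cz a) : qm a φ (x * y) = qm a φ x * qm a φ y := by
  rw [qm, qm, qm, dif_pos ((Cz a).mul_mem hx hy), dif_pos hx, dif_pos hy, ← map_mul]
  rfl

theorem qm_inv {x : G} (hx : x ∈ Cz a) : qm a φ x⁻¹ = (qm a φ x)⁻¹ := by
  rw [qm, qm, dif_pos ((Cz a).inv_mem hx), dif_pos hx, ← map_inv]
  rfl

theorem qm_one : qm a φ 1 = 1 := by
  rw [qm, dif_pos (one_mem _)]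
  exact map_one φ

theorem qm_conj {x y : G} (hx : x ∈ Cz a) (hy : y ∈ Cz a) :
    qm a φ (x * y * x⁻¹) = qm a φ x * qm a φ y * (qm a φ x)⁻¹ := by
  rw [Q.qm_mul ((Cz a).mul_mem hx hy) ((Cz a).inv_mem hx), Q.qm_mul hx hy, Q.qm_inv hx]

theorem qm_eq_one {x : G} (hx : x ∈ Cz a) : qm a φ x = 1 ↔ x = 1 ∨ x = a := by
  rw [qm, dif_pos hx, Q.ker]

theorem qm_eq {x y : G} (hx : x ∈ Cz a) (hy : y ∈ Cz a) : qm a φ x = qm a φ y ↔ x = y ∨ x = y * a := by
  have h := Q.qm_eq_one ((Cz a).mul_mem ((Cz a).inv_mem hy) hx)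
  rw [Q.qm_mul ((Cz a).inv_mem hy) hx, Q.qm_inv hy, inv_mul_eq_one, inv_mul_eq_one, inv_mul_eq_iff_eq_mul] at h
  exact eq_comm.trans (h.trans (or_congr_left eq_comm))

theorem qm_surj (w : X) : ∃ x ∈ Cz a, qm a φ x = w := by
  obtain ⟨⟨x, hx⟩, rfl⟩ := Q.surj w
  exact ⟨x, hx, by rw [qm, dif_pos hx]⟩

end Qt

/-- The quotient map itself. -/
theorem exists_qt [Finite G] (a : G) (ha : a * a = 1) :
    ∃ (_ : ((Subgroup.zpowers a).subgroupOf (Cz a)).Normal)
      (φ : ↥(Cz a) →* ↥(Cz a) ⧸ (Subgroup.zpowers a).subgroupOf (Cz a)), Qt a φ := by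
  haveI hn : ((Subgroup.zpowers a).subgroupOf (Cz a)).Normal := ⟨fun x hx y => by
    obtain ⟨i, hi⟩ := Subgroup.mem_subgroupOf.1 hx
    refine Subgroup.mem_subgroupOf.2 ⟨i, ?_⟩
    show a ^ i = (y : G) * (x : G) * (y : G)⁻¹
    rw [show (x : G) = a ^ i from hi.symm, ((show Commute (y : G) a from mem_Cz.1 y.2).zpow_right i).eq,
      mul_inv_cancel_right]⟩
  refine ⟨hn, QuotientGroup.mk' _, QuotientGroup.mk'_surjective _, fun x => ?_⟩
  rw [QuotientGroup.mk'_apply, QuotientGroup.eq_one_iff, Subgroup.mem_subgroupOf]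
  constructor
  · rintro ⟨i, hi⟩
    rcases Int.even_or_odd' i with ⟨m, rfl | rfl⟩
    · exact Or.inl (by rw [← hi]; show a ^ (2 * m) = 1; rw [zpow_mul, zpow_two, ha, one_zpow])
    · refine Or.inr ?_
      rw [← hi]
      show a ^ (2 * m + 1) = a
      rw [zpow_add, zpow_mul, zpow_two, ha, one_zpow, one_mul, zpow_one]
  · rintro (h | h) <;> rw [h]
    exacts [one_mem _, Subgroup.mem_zpowers a]

namespace Big

variable [Finite G] {z a : G} {J : Subgroup G} {π : ↥(Cz z) →* MulAut G4} (B : Big z a J π)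
include B

theorem JCa {x : G} (hx : x ∈ J) : x ∈ Cz a := mem_Cz.2 (B.aC x hx)

theorem zCa : z ∈ Cz a := B.JCa B.zJ

variable {φ : ↥(Cz a) →* X} (Q : Qt a φ)
include Q

theorem qz_ne : qm a φ z ≠ 1 := fun h => by
  rcases (Q.qm_eq_one B.zCa).1 h with e | e
  exacts [B.zne e, B.haz e.symm]

/-- The centraliser of the image of `z`. -/
theorem qm_Cz {x : G} (hx : x ∈ Cz a) : qm a φ x ∈ Cz (qm a φ z) ↔ x ∈ Cz z := by
  rw [mem_Cz, mem_Cz, ← Q.qm_mul hx B.zCa, ← Q.qm_mul B.zCa hx, Q.qm_eq ((Cz a).mul_mem hx B.zCa)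
    ((Cz a).mul_mem B.zCa hx)]
  refine ⟨fun h => h.resolve_right fun e => B.not_conj' x ?_, Or.inl⟩
  calc x * z * x⁻¹ = z * x * a * x⁻¹ := by rw [e]
    _ = z * (x * a) * x⁻¹ := by group
    _ = z * a := by rw [mem_Cz.1 hx]; group

theorem qm_Hc {x : G} (hx : x ∈ Hc z a) : qm a φ x ∈ Cz (qm a φ z) :=
  (B.qm_Cz Q hx.2).2 hx.1

theorem exists_Hc {w : X} (hw : w ∈ Cz (qm a φ z)) : ∃ x ∈ Hc z a, qm a φ x = w := by
  obtain ⟨x, hx, rfl⟩ := Q.qm_surj w
  exact ⟨x, Subgroup.mem_inf.2 ⟨(B.qm_Cz Q hx).1 hw, hx⟩, rfl⟩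

/-- The image of the radical. -/
theorem setting [Finite X] : Setting ((J.subgroupOf (Cz a)).map φ) (qm a φ z) := by
  haveI := Fact.mk Nat.prime_two
  set J' := (J.subgroupOf (Cz a)).map φ with hJ'
  have hmem : ∀ w, w ∈ J' ↔ ∃ x ∈ J, qm a φ x = w := by
    intro w
    constructor
    · rintro ⟨x, hx, rfl⟩
      exact ⟨x, hx, by rw [qm, dif_pos x.2]⟩
    · rintro ⟨x, hx, rfl⟩
      exact ⟨⟨x, B.JCa hx⟩, hx, by rw [qm, dif_pos (B.JCa hx)]⟩
  have hzJ : qm a φ z ∈ J' := (hmem _).2 ⟨z, B.zJ, rfl⟩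
  have hz2 : qm a φ z * qm a φ z = 1 := by rw [← Q.qm_mul B.zCa B.zCa, B.zz, Q.qm_one]
  have hzo : orderOf (qm a φ z) = 2 := orderOf_eq_prime (by rw [pow_two]; exact hz2) (B.qz_ne Q)
  have hzp : ∀ w, w ∈ Subgroup.zpowers (qm a φ z) → w = 1 ∨ w = qm a φ z := by
    intro w hw
    obtain ⟨i, rfl⟩ := hw
    rcases Int.even_or_odd' i with ⟨m, rfl | rfl⟩
    · exact Or.inl (by show _ ^ (2 * m) = (1 : X); rw [zpow_mul, zpow_two, hz2, one_zpow])
    · refine Or.inr ?_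
      show _ ^ (2 * m + 1) = qm a φ z
      rw [zpow_add, zpow_mul, zpow_two, hz2, one_zpow, one_mul, zpow_one]
  have hJC : J' ≤ Cz (qm a φ z) := fun w hw => by
    obtain ⟨x, hx, rfl⟩ := (hmem w).1 hw
    exact (B.qm_Cz Q (B.JCa hx)).2 (B.JC hx)
  have hJm : ∀ v ∈ J, qm a φ v ∈ J' := fun v hv => (hmem _).2 ⟨v, hv, rfl⟩
  -- what commutes with the image
  have hP : ∀ x ∈ Hc z a, (∀ y ∈ J, Commute (qm a φ x) (qm a φ y)) → x ∈ J := by
    let P : Subgroup G :=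
      { carrier := {x | x ∈ Hc z a ∧ ∀ y ∈ J, Commute (qm a φ x) (qm a φ y)}
        one_mem' := ⟨one_mem _, fun y _ => by rw [Q.qm_one]; exact Commute.one_left _⟩
        mul_mem' := fun {u v} hu hv => ⟨mul_mem hu.1 hv.1, fun y hy => by
          rw [Q.qm_mul hu.1.2 hv.1.2]; exact (hu.2 y hy).mul_left (hv.2 y hy)⟩
        inv_mem' := fun {u} hu => ⟨inv_mem hu.1, fun y hy => by
          rw [Q.qm_inv hu.1.2]; exact (hu.2 y hy).inv_left⟩ }
    have hPC : P ≤ Cz z := fun u hu => hu.1.1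
    have hP2 : IsPGroup 2 P := by
      rintro ⟨x, hx⟩
      obtain ⟨k, m, hm, hkm⟩ := Nat.exists_eq_two_pow_mul_odd (orderOf_pos x).ne'
      refine ⟨k, Subtype.ext ?_⟩
      show x ^ 2 ^ k = 1
      set y := x ^ 2 ^ k with hy
      have hym : y ^ m = 1 := by rw [hy, ← pow_mul, ← hkm, pow_orderOf_eq_one]
      have hyP : y ∈ P := pow_mem hx _
      have hodd : Odd (orderOf y) := hm.of_dvd_nat (orderOf_dvd_of_pow_eq_one hym)
      refine B.odd_cent (hPC hyP) hodd fun v hv => ?_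
      have h := hyP.2 v hv
      rw [Commute, SemiconjBy, ← Q.qm_mul hyP.1.2 (B.JCa hv), ← Q.qm_mul (B.JCa hv) hyP.1.2,
        Q.qm_eq ((Cz a).mul_mem hyP.1.2 (B.JCa hv)) ((Cz a).mul_mem (B.JCa hv) hyP.1.2)] at h
      rcases h with e | e
      · exact e.symm
      exfalso
      have hya : y * a = a * y := mem_Cz.1 hyP.1.2
      have hyv : y * v * y⁻¹ = v * a := by
        rw [e, mul_assoc v y a, hya]; group
      have hit : ∀ n : ℕ, y ^ n * v * (y ^ n)⁻¹ = v * a ^ n := by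
        intro n
        induction n with
        | zero => simp
        | succ n ih =>
          calc y ^ (n + 1) * v * (y ^ (n + 1))⁻¹ = y * (y ^ n * v * (y ^ n)⁻¹) * y⁻¹ := by rw [pow_succ']; group
            _ = y * v * (a ^ n * y⁻¹) := by rw [ih]; group
            _ = y * v * y⁻¹ * a ^ n := by
              rw [(((show Commute y a from hya).symm.inv_right).pow_left n).eq]; group
            _ = _ := by rw [hyv, pow_succ']; group
      have h1 := hit (orderOf y)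
      obtain ⟨r, hr⟩ := hodd
      rw [pow_orderOf_eq_one, one_mul, inv_one, mul_one, hr, pow_succ, pow_mul, pow_two, B.aa, one_pow,
        one_mul] at h1
      exact B.ane (mul_eq_left.1 h1.symm)
    exact fun x hx h => B.two_le (C := Hc z a) hP2 hPC inf_le_left B.lift_Hc (fun c hc u hu =>
      ⟨mul_mem (mul_mem hc hu.1) (inv_mem hc), fun y hy => by
        have h1 := hu.2 (c⁻¹ * y * c) (by simpa using B.conjJ ((Cz z).inv_mem hc.1) hy)
        have hyc : c⁻¹ * y * c ∈ Cz a := B.JCa (by simpa using B.conjJ ((Cz z).inv_mem hc.1) hy)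
        rw [Q.qm_conj hc.2 hu.1.2]
        have e : qm a φ y = qm a φ c * qm a φ (c⁻¹ * y * c) * (qm a φ c)⁻¹ := by
          rw [← Q.qm_conj hc.2 hyc]; congr 1; group
        rw [e]
        exact (Commute.conj_iff _).2 h1⟩) (show x ∈ P from ⟨hx, h⟩)
  have hcen : ∀ w, (∀ v ∈ J', v * w = w * v) → w = 1 ∨ w = qm a φ z := by
    intro w hw
    obtain ⟨x, hx, rfl⟩ := B.exists_Hc Q (mem_Cz.2 (hw _ hzJ).symm)
    have hxJ : x ∈ J := hP x hx fun y hy => (hw _ (hJm y hy)).symm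
    have hall : ∀ y ∈ J, y * x = x * y := fun y hy => by
      have h := hw _ (hJm y hy)
      rw [← Q.qm_mul (B.JCa hy) hx.2, ← Q.qm_mul hx.2 (B.JCa hy),
        Q.qm_eq ((Cz a).mul_mem (B.JCa hy) hx.2) ((Cz a).mul_mem hx.2 (B.JCa hy))] at h
      refine h.resolve_right fun e => ?_
      have e1 : y * x * y⁻¹ * x⁻¹ = a := by
        calc y * x * y⁻¹ * x⁻¹ = x * y * (a * y⁻¹) * x⁻¹ := by rw [e]; group
          _ = x * (a * x⁻¹) := by rw [((show Commute a y from (B.aC y hy).symm).inv_right).eq]; group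
          _ = _ := by rw [← mul_assoc, B.aC x hxJ, mul_inv_cancel_right]
      rcases B.comm y hy x hxJ with h2 | h2 <;> rw [e1] at h2
      exacts [B.ane h2, B.haz h2]
    rcases B.cent x hx.1 hall with e | e | e | e <;> rw [e]
    · exact Or.inl Q.qm_one
    · exact Or.inr rfl
    · exact Or.inl ((Q.qm_eq_one (B.JCa B.aJ)).2 (Or.inr rfl))
    · refine Or.inr ?_
      rw [Q.qm_mul B.zCa (B.JCa B.aJ), (Q.qm_eq_one (B.JCa B.aJ)).2 (Or.inr rfl), mul_one]
  have hcc : ∀ w, w ∈ Subgroup.zpowers (qm a φ z) → ∀ v ∈ J', v * w = w * v := fun w hw v hv => by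
    rcases hzp w hw with e | e <;> rw [e]
    · rw [mul_one, one_mul]
    · exact mem_Cz.1 (hJC hv)
  have hcenter : ∀ q : ↥J', q ∈ Subgroup.center ↥J' ↔ (q : X) ∈ Subgroup.zpowers (qm a φ z) := fun q => by
    constructor
    · intro h
      rcases hcen (q : X) (fun v hv => congrArg Subtype.val (Subgroup.mem_center_iff.1 h ⟨v, hv⟩)) with e | e <;>
        rw [e]
      exacts [one_mem _, Subgroup.mem_zpowers _]
    · exact fun h => Subgroup.mem_center_iff.2 fun v => Subtype.ext (hcc _ h v v.2)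
  have hmapc : (Subgroup.center ↥J').map J'.subtype = Subgroup.zpowers (qm a φ z) := by
    ext w
    constructor
    · rintro ⟨q, hq, rfl⟩; exact (hcenter q).1 hq
    · intro hw
      refine ⟨⟨w, ?_⟩, (hcenter _).2 hw, rfl⟩
      rcases hzp w hw with e | e <;> rw [e]
      exacts [J'.one_mem, hzJ]
  refine ⟨?_, hmapc, hzo, ?_, fun w hw => ?_⟩
  · -- extraspecial
    have hp : IsPGroup 2 ↥J' := (B.two_J.of_equiv (Subgroup.subgroupOfEquivOfLe fun v hv => B.JCa hv).symm).map φ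
    have hin : ∀ {t : X}, (ht : t ∈ J') → (t = 1 ∨ t = qm a φ z) → (⟨t, ht⟩ : ↥J') ∈ Subgroup.center ↥J' :=
      fun {t} ht h => (hcenter _).2 (by rcases h with rfl | rfl; exacts [one_mem _, Subgroup.mem_zpowers _])
    refine isExtraspecial_of hp ?_ (fun u v => ?_) (fun u => ?_) ?_
    · rw [Nat.card_congr ((Subgroup.center ↥J').equivMapOfInjective J'.subtype J'.subtype_injective).toEquiv, hmapc,
        Nat.card_zpowers, hzo]
    · obtain ⟨u, hu⟩ := u
      obtain ⟨v, hv⟩ := v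
      obtain ⟨x, hx, rfl⟩ := (hmem u).1 hu
      obtain ⟨y, hy, rfl⟩ := (hmem v).1 hv
      refine hin (⁅(⟨_, hu⟩ : ↥J'), (⟨_, hv⟩ : ↥J')⁆).2 ?_
      show qm a φ x * qm a φ y * (qm a φ x)⁻¹ * (qm a φ y)⁻¹ = 1 ∨
        qm a φ x * qm a φ y * (qm a φ x)⁻¹ * (qm a φ y)⁻¹ = qm a φ z
      rw [← Q.qm_conj (B.JCa hx) (B.JCa hy), ← Q.qm_inv (B.JCa hy),
        ← Q.qm_mul (mul_mem (mul_mem (B.JCa hx) (B.JCa hy)) (inv_mem (B.JCa hx))) (inv_mem (B.JCa hy))]
      rcases B.comm x hx y hy with e | e <;> rw [e]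
      exacts [Or.inl Q.qm_one, Or.inr rfl]
    · obtain ⟨u, hu⟩ := u
      obtain ⟨x, hx, rfl⟩ := (hmem u).1 hu
      refine hin ((⟨_, hu⟩ : ↥J') ^ 2).2 ?_
      show qm a φ x ^ 2 = 1 ∨ qm a φ x ^ 2 = qm a φ z
      rw [pow_two, ← Q.qm_mul (B.JCa hx) (B.JCa hx)]
      rcases B.sq x hx with e | e <;> rw [e]
      exacts [Or.inl Q.qm_one, Or.inr rfl]
    · obtain ⟨x, hx, y, hy, e⟩ := B.not_abelian (le_refl J) (by rw [Subgroup.relIndex_self]; norm_num)
      refine ⟨⟨_, hJm x hx⟩, ⟨_, hJm y hy⟩, fun h => B.qz_ne Q ?_⟩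
      have h' : qm a φ x * qm a φ y * (qm a φ x)⁻¹ * (qm a φ y)⁻¹ = 1 := congrArg Subtype.val h
      rwa [← Q.qm_conj (B.JCa hx) (B.JCa hy), ← Q.qm_inv (B.JCa hy),
        ← Q.qm_mul (mul_mem (mul_mem (B.JCa hx) (B.JCa hy)) (inv_mem (B.JCa hx))) (inv_mem (B.JCa hy)),
        e] at h'
  · ext w
    rw [Subgroup.mem_centralizer_iff]
    refine ⟨fun h => ?_, fun h v hv => hcc w h v hv⟩
    rcases hcen w h with e | e <;> rw [e]
    exacts [one_mem _, Subgroup.mem_zpowers _]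
  · obtain ⟨x, hx, rfl⟩ := B.exists_Hc Q hw
    have key : ∀ {c : G}, c ∈ Hc z a → ∀ v ∈ J', qm a φ c * v * (qm a φ c)⁻¹ ∈ J' := fun {c} hc v hv => by
      obtain ⟨y, hy, rfl⟩ := (hmem v).1 hv
      exact (hmem _).2 ⟨c * y * c⁻¹, B.conjJ hc.1 hy, Q.qm_conj hc.2 (B.JCa hy)⟩
    refine Subgroup.mem_normalizer_iff.2 fun v => ⟨key hx v, fun h => ?_⟩
    have := key ((Hc z a).inv_mem hx) _ h
    rwa [Q.qm_inv hx.2, show (qm a φ x)⁻¹ * (qm a φ x * v * (qm a φ x)⁻¹) * (qm a φ x)⁻¹⁻¹ = v by group] at this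

theorem card_image [Finite X] : Nat.card ↥((J.subgroupOf (Cz a)).map φ) = 512 := by
  set f := φ.domRestrict (J.subgroupOf (Cz a)) with hf
  have h := Subgroup.card_mul_index f.ker
  rw [Subgroup.index_ker] at h
  have hr : f.range = (J.subgroupOf (Cz a)).map φ := MonoidHom.domRestrict_range _ _
  rw [hr] at h
  have hJ : Nat.card ↥(J.subgroupOf (Cz a)) = 1024 := by
    rw [Nat.card_congr (Subgroup.subgroupOfEquivOfLe fun v hv => B.JCa hv).toEquiv, B.card]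
  rw [hJ] at h
  have hk : Nat.card ↥f.ker = 2 := by
    refine Nat.card_eq_two_iff.2 ⟨1, ⟨⟨⟨a, B.JCa B.aJ⟩, B.aJ⟩, (Q.ker _).2 (Or.inr rfl)⟩, fun e => B.ane ?_, ?_⟩
    · have e1 := congrArg (fun t : ↥f.ker => (((t : ↥(J.subgroupOf (Cz a))) : ↥(Cz a)) : G)) e
      exact e1.symm
    · ext ⟨⟨⟨v, hv⟩, hvJ⟩, hvk⟩
      simp only [Set.mem_insert_iff, Set.mem_singleton_iff, Set.mem_univ, iff_true]
      rcases (Q.ker _).1 hvk with e | e
      · exact Or.inl (Subtype.ext (Subtype.ext (Subtype.ext e)))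
      · exact Or.inr (Subtype.ext (Subtype.ext (Subtype.ext e)))
  rw [hk] at h
  omega

end Big

end CfsgLib.FiTwoType
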