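import Cfsg.Agent.Lib.FiTwoType.Wedge

/-!
Centralisers in the radical of a conjugate of the three central involutions.
-/

set_option autoImplicit false
set_option linter.unusedSectionVars false
set_option linter.style.haveILetI false
set_option maxRecDepth 100000

open Cfsg CfsgLib.Extraspecial CfsgLib.USixType CfsgLib.USixTwo

namespace CfsgLib.FiTwoType

theorem odd_two_pow {G : Type*} [Group G] {r : G} {n : ℕ} (hodd : Odd (orderOf r)) (h : r ^ 2 ^ n = 1) : r = 1 :=
  orderOf_eq_one_iff.1 (Nat.Coprime.eq_one_of_dvd (Nat.Coprime.pow_right n (Nat.coprime_two_right.2 hodd))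
    (orderOf_dvd_of_pow_eq_one h))

theorem pull_comm {G : Type*} [Group G] {g x v : G} :
    g⁻¹ * x * g * v = v * (g⁻¹ * x * g) ↔ x * (g * v * g⁻¹) = g * v * g⁻¹ * x := by
  constructor <;> intro h
  · calc x * (g * v * g⁻¹) = g * (g⁻¹ * x * g * v) * g⁻¹ := by group
      _ = _ := by rw [h]; group
  · calc g⁻¹ * x * g * v = g⁻¹ * (x * (g * v * g⁻¹)) * g := by group
      _ = _ := by rw [h]; group

namespace Big

variable {G : Type*} [Group G] [Finite G] {z a : G} {J : Subgroup G} {π : ↥(Cz z) →* MulAut G4}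
  (B : Big z a J π)
include B

/-- A conjugate of `z` among the central involutions is `z`. -/
theorem z_unique {g : G} (h : InZ z a (g * z * g⁻¹)) : g * z * g⁻¹ = z := by
  rcases h with e | e | e | e
  · exact absurd (conj_eq_one_iff.1 e) B.zne
  · exact e
  · exact absurd e (B.not_conj g)
  · exact absurd e (B.not_conj' g)

theorem conj_sq (g : G) : g * z * g⁻¹ * (g * z * g⁻¹) = 1 := by
  rw [show g * z * g⁻¹ * (g * z * g⁻¹) = g * (z * z) * g⁻¹ by group, B.zz]; group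

theorem mirror_ne {g : G} (hne : g * z * g⁻¹ ≠ z) : g⁻¹ * z * g ≠ z := fun e => hne (by
  calc g * z * g⁻¹ = g * (g⁻¹ * z * g) * g⁻¹ := by rw [e]
    _ = z := by group)

theorem mirror_Cz {g : G} (hk : g * z * g⁻¹ ∈ Cz z) : g⁻¹ * z * g ∈ Cz z :=
  mem_Cz.2 (pull_comm.2 (mem_Cz.1 hk).symm)

/-- The conjugate of `a` lies in the centraliser when the mirror fixes `a`. -/
theorem b_Cz {g : G} (hm : g⁻¹ * z * g * a = a * (g⁻¹ * z * g)) : g * a * g⁻¹ ∈ Cz z :=
  mem_Cz.2 (pull_comm.1 hm).symm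

theorem w_Cz {g : G} (hk : g * z * g⁻¹ ∈ Cz z) (hb : g * a * g⁻¹ ∈ Cz z) : g * (z * a) * g⁻¹ ∈ Cz z := by
  rw [show g * (z * a) * g⁻¹ = g * z * g⁻¹ * (g * a * g⁻¹) by group]
  exact mul_mem hk hb

/-- What centralises the image of an involution with odd products centralises the image of `z`. -/
theorem odd_share {v g : G} (hodd : OddIso z v) (hk : g * z * g⁻¹ ∈ Cz z) {q : G} (hq : q ∈ J)
    (h : g * v * g⁻¹ * q = q * (g * v * g⁻¹)) : g * z * g⁻¹ * q = q * (g * z * g⁻¹) := by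
  set k := g * z * g⁻¹ with hkd
  have ho := hodd (g⁻¹ * q * g) (mem_Cz.2 (pull_comm.2 h.symm))
  have hk2 := B.conj_sq g
  have e : MulAut.conj g (g⁻¹ * q * g * z * (g⁻¹ * q * g)⁻¹ * z) = q * k * q⁻¹ * k := by
    simp only [MulAut.conj_apply, hkd]; group
  rw [← MulEquiv.orderOf_eq (MulAut.conj g), e] at ho
  have hJ : q * k * q⁻¹ * k ∈ J := by
    rw [show q * k * q⁻¹ * k = q * (k * q⁻¹ * k⁻¹) * (k * k) by group, hk2, mul_one]
    exact J.mul_mem hq (B.conjJ hk (J.inv_mem hq))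
  obtain ⟨n, hn⟩ := B.two_J ⟨_, hJ⟩
  have h1 := odd_two_pow ho (congrArg Subtype.val hn)
  refine (mul_inv_eq_iff_eq_mul.1 ?_).symm
  calc q * k * q⁻¹ = q * k * q⁻¹ * k * k⁻¹ := by group
    _ = k := by rw [h1, one_mul, inv_eq_of_mul_eq_one_right hk2]

/-- Both odd: the centralisers of the two other images agree. -/
theorem share {g : G} (hA : OddIso z a) (hZ : OddIso z (z * a)) (hk : g * z * g⁻¹ ∈ Cz z) :
    (∀ q ∈ J, g * a * g⁻¹ * q = q * (g * a * g⁻¹) → g * (z * a) * g⁻¹ * q = q * (g * (z * a) * g⁻¹)) ∧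
    (∀ q ∈ J, g * (z * a) * g⁻¹ * q = q * (g * (z * a) * g⁻¹) → g * a * g⁻¹ * q = q * (g * a * g⁻¹)) ∧
    ∀ q ∈ J, g * a * g⁻¹ * q = q * (g * a * g⁻¹) → g * z * g⁻¹ * q = q * (g * z * g⁻¹) := by
  refine ⟨fun q hq h => ?_, fun q hq h => ?_, fun q hq h => B.odd_share hA hk hq h⟩
  · have h' := B.odd_share hA hk hq h
    rw [show g * (z * a) * g⁻¹ = g * z * g⁻¹ * (g * a * g⁻¹) by group]
    exact ((show Commute (g * z * g⁻¹) q from h').mul_left (show Commute (g * a * g⁻¹) q from h)).eq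
  · have h' := B.odd_share hZ hk hq h
    rw [show g * a * g⁻¹ = (g * z * g⁻¹)⁻¹ * (g * (z * a) * g⁻¹) by group]
    exact ((show Commute (g * z * g⁻¹) q from h').inv_left.mul_left
      (show Commute (g * (z * a) * g⁻¹) q from h)).eq

/-- An element centralising the radical is central in it. -/
theorem cent_inZ {x : G} (hx : x ∈ Cz z) (h : ∀ q ∈ J, x * q = q * x) : InZ z a x :=
  B.cent x hx fun q hq => (h q hq).symm

/-- The product of two elements of `J` with the same centraliser is central. -/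
theorem j_prod {e f : G} (he : e ∈ J) (hf : f ∈ J) (h1 : ∀ q ∈ J, e * q = q * e → f * q = q * f)
    (h2 : ∀ q ∈ J, f * q = q * f → e * q = q * e) : InZ z a (e * f) := by
  refine B.cent_inZ (B.JC (J.mul_mem he hf)) fun q hq => ?_
  by_cases hq' : e * q = q * e
  · rw [mul_assoc, h1 q hq hq', ← mul_assoc, hq', mul_assoc]
  · have key : ∀ {x : G}, x ∈ J → x * q ≠ q * x → x * q = z * (q * x) := fun {x} hx hn => by
      rcases B.comm x hx q hq with e' | e'
      · exact absurd (by calc x * q = x * q * x⁻¹ * q⁻¹ * (q * x) := by group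
                           _ = q * x := by rw [e', one_mul]) hn
      · calc x * q = x * q * x⁻¹ * q⁻¹ * (q * x) := by group
          _ = _ := by rw [e']
    have a1 := key he hq'
    have a2 := key hf fun p => hq' (h2 q hq p)
    calc e * f * q = e * (z * (q * f)) := by rw [mul_assoc, a2]
      _ = e * z * (q * f) := by group
      _ = z * (e * q) * f := by rw [mem_Cz.1 (B.JC he)]; group
      _ = z * z * (q * e * f) := by rw [a1]; group
      _ = _ := by rw [B.zz, one_mul, mul_assoc]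

end Big

namespace Crd

variable {G : Type*} [Group G] [Finite G] {z a : G} {J : Subgroup G} {π : ↥(Cz z) →* MulAut G4}
  {β : V8 → V8 → Bool} {S : Fin 5 → Lin} {σ : Lin} (C : Crd z a J π β S σ) (B : Big z a J π)
include C B

/-- The two other images lie outside `J`. -/
theorem none_J {g : G} (hne : g * z * g⁻¹ ≠ z) (hk : g * z * g⁻¹ ∈ Cz z) (hb : g * a * g⁻¹ ∈ Cz z)
    (hbw : ∀ q ∈ J, g * a * g⁻¹ * q = q * (g * a * g⁻¹) → g * (z * a) * g⁻¹ * q = q * (g * (z * a) * g⁻¹))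
    (hwb : ∀ q ∈ J, g * (z * a) * g⁻¹ * q = q * (g * (z * a) * g⁻¹) → g * a * g⁻¹ * q = q * (g * a * g⁻¹))
    (hbk : ∀ q ∈ J, g * a * g⁻¹ * q = q * (g * a * g⁻¹) → g * z * g⁻¹ * q = q * (g * z * g⁻¹)) :
    g * a * g⁻¹ ∉ J ∧ g * (z * a) * g⁻¹ ∉ J := by
  set b := g * a * g⁻¹ with hbd
  set w := g * (z * a) * g⁻¹ with hwd
  have hw : w ∈ Cz z := B.w_Cz hk hb
  have sq : ∀ {v : G}, v * v = 1 → g * v * g⁻¹ * (g * v * g⁻¹) = 1 := fun {v} hv => by
    rw [show g * v * g⁻¹ * (g * v * g⁻¹) = g * (v * v) * g⁻¹ by group, hv]; group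
  have hbb : b * b = 1 := sq B.aa
  have hww : w * w = 1 := sq B.zaza
  have hnot : ¬ (b ∈ J ∧ w ∈ J) := fun ⟨h1, h2⟩ => by
    have hkeq : g * z * g⁻¹ = b * w := by
      rw [hbd, hwd, show g * a * g⁻¹ * (g * (z * a) * g⁻¹) = g * (a * (z * a)) * g⁻¹ by group, B.za,
        ← mul_assoc a a, B.aa, one_mul]
    exact hne (B.z_unique (hkeq ▸ B.j_prod h1 h2 hbw hwb))
  have hzero : ∀ {x : G}, x ∈ J → InZ z a x → (∀ q ∈ J, x * q = q * x) := fun {x} _ h q hq =>
    (B.inZ_J_comm h hq).symm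
  constructor
  · intro hbJ
    by_cases hv : C.vec b = 0
    · refine hne (B.z_unique (B.cent_inZ hk fun q hq => hbk q hq ?_))
      exact hzero hbJ (C.ker b hbJ hv) q hq
    · exact hnot ⟨hbJ, C.j_share B hbJ hbb hw (by rw [hww]; exact J.one_mem) hv hbw⟩
  · intro hwJ
    by_cases hv : C.vec w = 0
    · refine hne (B.z_unique (B.cent_inZ hk fun q hq => hbk q hq (hwb q hq ?_)))
      exact hzero hwJ (C.ker w hwJ hv) q hq
    · exact hnot ⟨C.j_share B hwJ hww hb (by rw [hbb]; exact J.one_mem) hv hwb, hwJ⟩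

end Crd

end CfsgLib.FiTwoType
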