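import Cfsg.Agent.Lib.FiTwoType.BothBig
import Cfsg.Agent.S1713

/-!
The two involutions swapped, the quotients being `U₆(2)`.
-/

set_option autoImplicit false
set_option linter.unusedSectionVars false
set_option linter.style.haveILetI false
set_option maxRecDepth 100000

open Cfsg CfsgLib.Extraspecial CfsgLib.USixType CfsgLib.USixTwo
open CfsgLib.HePres (K4)
open scoped commutatorElement

namespace CfsgLib.FiTwoType

/-- A displacement of a vector. -/
def disp (p : Fin 5 × V8) : V8 := xr (app (gL p.1) p.2) p.2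

/-- The units as sums of displacements. -/
def dispW : Fin 8 → List (Fin 5 × V8) :=
  ![[(0, 2)], [(0, 3)], [(0, 12)], [(0, 4)], [(0, 12), (2, 4)], [(0, 4), (2, 8)],
    [(0, 2), (2, 4), (4, 1)], [(0, 3), (2, 8), (4, 2)]]

theorem dispW_ok : ∀ i : Fin 8, ((dispW i).map disp).foldr xr 0 = un i := by decide +kernel

/-- A homomorphism to the signs, killing the involution, is trivial. -/
theorem sign_trivial {X : Type*} [Group X] [Finite X] {z : X} {Q : Subgroup X} {π : ↥(Cz z) →* G4}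
    (T : Sp z Q π) (H : Pre z Q π) (η : ↥(Cz z) →* ℤˣ) (hz : ∀ h : z ∈ Cz z, η ⟨z, h⟩ = 1) (w : ↥(Cz z)) :
    η w = 1 := by
  classical
  have hjC : ∀ v b, T.C.j v b ∈ Cz z := fun v b => H.QC (T.C.mem v b)
  let f : V8 → Bool → ℤˣ := fun v b => η ⟨T.C.j v b, hjC v b⟩
  have hadd : ∀ v b w d, f v b * f w d = f (xr v w) ((b ^^ d) ^^ bA v w) := fun v b w d => by
    show η _ * η _ = η _
    rw [← map_mul]
    exact congrArg η (Subtype.ext (T.C.mul v b w d))
  have h01 : f 0 true = 1 := by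
    show η _ = 1
    rw [← hz (mem_Cz.2 rfl)]
    exact congrArg η (Subtype.ext T.C.j_z)
  have h00 : f 0 false = 1 := by
    show η _ = 1
    rw [← η.map_one]
    exact congrArg η (Subtype.ext T.C.j_one)
  have hbit : ∀ v b, f v b = f v false := fun v b => by
    cases b
    · rfl
    · have := hadd 0 true v false
      rw [h01, one_mul, zero_xr] at this
      rw [this, show ∀ v : V8, bA 0 v = false by decide +kernel]
      rfl
  have hdisp : ∀ p b, f (disp p) b = 1 := fun p b => by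
    obtain ⟨k, u⟩ := p
    set sc : ↥(Cz z) := ⟨T.s (gen k), T.mem _⟩
    have h1 : f (app (gL k) u) false = f u false := by
      have e : (sc * ⟨T.C.j u false, hjC u false⟩ * sc⁻¹ : ↥(Cz z)) = ⟨T.C.j (app (gL k) u) false, hjC _ _⟩ :=
        Subtype.ext (by
          show T.s (gen k) * T.C.j u false * (T.s (gen k))⁻¹ = _
          rw [T.act, natL_gen])
      show η _ = η _
      rw [← e, map_mul, map_mul, mul_comm (η sc), mul_assoc, map_inv, mul_inv_cancel, mul_one]
    have h2 := hadd (app (gL k) u) false u false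
    rw [h1, Int.units_mul_self, hbit] at h2
    rw [hbit]
    exact h2.symm
  have hall : ∀ v b, f v b = 1 := by
    have hlist : ∀ l : List V8, (∀ v ∈ l, ∀ b, f v b = 1) → ∀ b, f (l.foldr xr 0) b = 1 := by
      intro l
      induction l with
      | nil => exact fun _ b => by rw [hbit]; exact h00
      | cons v l ih =>
        intro hl b
        rw [List.foldr_cons, hbit]
        have h := hadd v false (l.foldr xr 0) false
        rw [hl v List.mem_cons_self, ih (fun u hu => hl u (List.mem_cons_of_mem _ hu)), one_mul, hbit] at h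
        exact h.symm
    intro v b
    rw [← unit_span v]
    refine hlist _ (fun u hu => ?_) b
    obtain ⟨i, -, rfl⟩ := List.mem_map.1 hu
    rw [← dispW_ok i]
    exact hlist _ fun u hu => by
      obtain ⟨p, -, rfl⟩ := List.mem_map.1 hu
      exact hdisp p
  obtain ⟨v, b, g, e⟩ := T.el_surj H w.2
  let σ : G4 →* ℤˣ := η.comp (T.s.codRestrict (Cz z) T.mem)
  have hg : σ g = 1 := hom_trivial σ (fun _ _ => mul_comm _ _) g
  have hw : w = ⟨T.C.j v b, hjC v b⟩ * T.s.codRestrict (Cz z) T.mem g := Subtype.ext e.symm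
  rw [hw, map_mul, show η (T.s.codRestrict (Cz z) T.mem g) = 1 from hg, mul_one]
  exact hall v b

/-- In `U₆(2)` no involution is isolated. -/
theorem psu_moves {X : Type*} [Group X] [Finite X] (e : X ≃* Cfsg.PSU 6 K4 2) {t : X} (ht : orderOf t = 2) :
    ∃ g : X, g * t * g⁻¹ ∈ Cz t ∧ g * t * g⁻¹ ≠ t := by
  obtain ⟨hs, hcen⟩ := psu6_simple
  haveI := hs
  by_contra h
  push Not at h
  have hsup := sup_oddCore_of_isolated ht h
  haveI := e.toEquiv.nontrivial
  haveI : IsSimpleGroup X := IsSimpleGroup.isSimpleGroup_of_surjective e.symm.toMonoidHom e.symm.surjective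
  haveI hn : (oddCore X).Normal := Transfer.pPrimeCore_normal 2 X
  have hcop : (Nat.card (oddCore X)).Coprime 2 := Transfer.pPrimeCore_coprime 2
  rcases hn.eq_bot_or_eq_top with h0 | h0
  · rw [h0, sup_bot_eq] at hsup
    have h1 : e t ∈ Subgroup.center (Cfsg.PSU 6 K4 2) := Subgroup.mem_center_iff.2 fun y => by
      obtain ⟨x, rfl⟩ := e.surjective y
      rw [← map_mul, ← map_mul, mem_Cz.1 (hsup ▸ Subgroup.mem_top x : x ∈ Cz t)]
    rw [hcen, Subgroup.mem_bot, e.map_eq_one_iff] at h1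
    rw [h1, orderOf_one] at ht
    exact absurd ht (by norm_num)
  · rw [h0, Subgroup.card_top] at hcop
    have := Nat.dvd_gcd (ht ▸ orderOf_dvd_natCard t) (dvd_refl 2)
    rw [hcop.gcd_eq_one] at this
    exact absurd this (by norm_num)

variable {G : Type*} [Group G] [Finite G] {X : Type*} [Group X] [Finite X]
  {z a : G} {J : Subgroup G} {π : ↥(Cz z) →* MulAut G4}

/-- A perfect centraliser gives `Fi₂₂`; otherwise it has a sign, negative at `a`. -/
theorem Big.fi_or_sign (B : Big z a J π) {φ : ↥(Cz a) →* X} (Q : Qt a φ)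
    (hX : Nonempty (X ≃* Cfsg.PSU 6 K4 2)) (hconj : ∃ e : G, e * a * e⁻¹ = z * a) :
    Cfsg.Spor.IsoFi22 G ∨ ∃ χ : G → ℤˣ, (∀ x ∈ Cz a, ∀ y ∈ Cz a, χ (x * y) = χ x * χ y) ∧
      χ a = -1 ∧ χ z = 1 := by
  classical
  obtain ⟨eX⟩ := hX
  obtain ⟨hs, hcen⟩ := psu6_simple
  haveI := hs
  haveI := eX.toEquiv.nontrivial
  haveI : IsSimpleGroup X := IsSimpleGroup.isSimpleGroup_of_surjective eX.symm.toMonoidHom eX.symm.surjective
  have hperf : commutator X = ⊤ :=
    (show (commutator X).Normal from inferInstance).eq_bot_or_eq_top.resolve_left fun h => by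
      have hab : ∀ x y : X, x * y = y * x := fun x y => by
        have : ⁅x, y⁆ ∈ commutator X := by
          rw [commutator_def]; exact Subgroup.commutator_mem_commutator (Subgroup.mem_top x) (Subgroup.mem_top y)
        rw [h, Subgroup.mem_bot] at this
        exact commutatorElement_eq_one_iff_mul_comm.1 this
      obtain ⟨w, hw⟩ := exists_ne (1 : X)
      refine hw (eX.map_eq_one_iff.1 ?_)
      rw [← Subgroup.mem_bot, ← hcen, Subgroup.mem_center_iff]
      intro y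
      obtain ⟨x, rfl⟩ := eX.surjective y
      rw [← map_mul, ← map_mul, hab]
  set D := commutator ↥(Cz a) with hD
  let aC : ↥(Cz a) := ⟨a, mem_Cz.2 rfl⟩
  have haC : aC * aC = 1 := Subtype.ext B.aa
  have hacen : ∀ x : ↥(Cz a), Commute aC x := fun x => Subtype.ext (mem_Cz.1 x.2).symm
  have hcover : ∀ x, x ∈ D ∨ x * aC ∈ D := fun x => by
    have h1 : φ x ∈ D.map φ := by
      rw [hD, commutator_def, Subgroup.map_commutator, Subgroup.map_top_of_surjective φ Q.surj, ← commutator_def,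
        hperf]
      exact Subgroup.mem_top _
    obtain ⟨d, hd, e⟩ := h1
    have h2 : φ (d⁻¹ * x) = 1 := by rw [map_mul, map_inv, e, inv_mul_cancel]
    rcases (Q.ker _).1 h2 with h | h
    · left
      rw [show x = d from (inv_mul_eq_one.1 (Subtype.ext h)).symm]; exact hd
    · right
      rw [show x = d * aC from inv_mul_eq_iff_eq_mul.1 (Subtype.ext h), mul_assoc, haC, mul_one]
      exact hd
  by_cases haD : aC ∈ D
  · left
    have hDt : D = ⊤ := (Subgroup.eq_top_iff' _).2 fun x => (hcover x).elim id fun h => by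
      have := D.mul_mem h (D.inv_mem haD)
      rwa [mul_inv_cancel_right] at this
    haveI : Group.IsPerfect ↥(Cz a) := Group.isPerfect_def.2 hDt
    haveI : Nontrivial ↥(Cz a) := ⟨aC, 1, fun h => B.ane (congrArg Subtype.val h)⟩
    have hq : Cfsg.IsQuasisimple ↥(Cz a) := by
      refine Layer.isQuasisimple_of_normal_le_center fun N hN => ?_
      rcases (hN.map φ Q.surj).eq_bot_or_eq_top with h | h
      · refine Or.inr fun x hx => Subgroup.mem_center_iff.2 fun y => ?_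
        have h1 : φ x ∈ N.map φ := ⟨x, hx, rfl⟩
        rw [h, Subgroup.mem_bot, Q.ker] at h1
        rcases h1 with e | e
        · rw [show x = 1 from Subtype.ext e, mul_one, one_mul]
        · rw [show x = aC from Subtype.ext e]
          exact (hacen y).eq.symm
      · left
        have hN2 : ∀ x, x ∈ N ∨ x * aC ∈ N := fun x => by
          obtain ⟨n, hn, e⟩ : φ x ∈ N.map φ := h ▸ Subgroup.mem_top _
          have h2 : φ (n⁻¹ * x) = 1 := by rw [map_mul, map_inv, e, inv_mul_cancel]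
          rcases (Q.ker _).1 h2 with h | h
          · left
            rw [show x = n from (inv_mul_eq_one.1 (Subtype.ext h)).symm]; exact hn
          · right
            rw [show x = n * aC from inv_mul_eq_iff_eq_mul.1 (Subtype.ext h), mul_assoc, haC, mul_one]
            exact hn
        have hk : ∀ x, ∃ n ∈ N, ∃ c ∈ ({1, aC} : Set ↥(Cz a)), x = n * c := fun x => (hN2 x).elim
          (fun h => ⟨x, h, 1, Or.inl rfl, (mul_one x).symm⟩)
          fun h => ⟨x * aC, h, aC, Or.inr rfl, by rw [mul_assoc, haC, mul_one]⟩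
        rw [eq_top_iff, ← hDt, hD, commutator_def, Subgroup.commutator_le]
        intro x _ y _
        obtain ⟨n, hn, c, hc, rfl⟩ := hk x
        obtain ⟨m, hm, d, hd, rfl⟩ := hk y
        have hcc : ∀ {c : ↥(Cz a)}, c ∈ ({1, aC} : Set ↥(Cz a)) → ∀ w, Commute c w := fun {c} hc w => by
          rcases hc with rfl | rfl
          exacts [Commute.one_left _, hacen w]
        have : ⁅n * c, m * d⁆ = ⁅n, m⁆ := by
          rw [commutatorElement_def, commutatorElement_def]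
          calc n * c * (m * d) * (n * c)⁻¹ * (m * d)⁻¹ = n * c * m * (d * c⁻¹ * n⁻¹) * d⁻¹ * m⁻¹ := by group
            _ = n * c * m * (c⁻¹ * n⁻¹ * d) * d⁻¹ * m⁻¹ := by
              rw [show d * c⁻¹ * n⁻¹ = d * (c⁻¹ * n⁻¹) by group, (hcc hd (c⁻¹ * n⁻¹)).eq]
            _ = n * (c * (m * c⁻¹)) * n⁻¹ * m⁻¹ := by group
            _ = _ := by rw [(hcc hc (m * c⁻¹)).eq]; group
        rw [this, commutatorElement_def]
        exact N.mul_mem (N.mul_mem (N.mul_mem hn hm) (N.inv_mem hn)) (N.inv_mem hm)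
    haveI hnz : ((Subgroup.zpowers a).subgroupOf (Cz a)).Normal := (exists_qt a B.aa).1
    have hker : φ.ker = (Subgroup.zpowers a).subgroupOf (Cz a) := by
      ext x
      rw [MonoidHom.mem_ker, Q.ker, Subgroup.mem_subgroupOf]
      refine ⟨fun h => ?_, ?_⟩
      · rcases h with e | e <;> rw [e]
        exacts [one_mem _, Subgroup.mem_zpowers a]
      · rintro ⟨i, hi⟩
        rw [← hi]
        rcases Int.even_or_odd' i with ⟨m, rfl | rfl⟩
        · exact Or.inl (by show a ^ (2 * m) = 1; rw [zpow_mul, zpow_two, B.aa, one_zpow])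
        · exact Or.inr (by show a ^ (2 * m + 1) = a; rw [zpow_add, zpow_mul, zpow_two, B.aa, one_zpow, one_mul, zpow_one])
    obtain ⟨g, hg⟩ := hconj
    exact Cfsg.Agent.S1713.result a B.ha hq K4 K4.card_eq
      ((QuotientGroup.quotientMulEquivOfEq hker.symm).trans
        ((QuotientGroup.quotientKerEquivOfSurjective φ Q.surj).trans eX))
      ⟨g, by rw [hg]; exact B.JCa (J.mul_mem B.zJ B.aJ), by rw [hg]; exact B.za_ne.2.1⟩
  right
  have hone : ∀ x, x * aC ∈ D ↔ x ∉ D := fun x => ⟨fun h hx => haD (by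
    have := D.mul_mem (D.inv_mem hx) h
    rwa [inv_mul_cancel_left] at this), (hcover x).resolve_left⟩
  refine ⟨fun x => if h : x ∈ Cz a then (if (⟨x, h⟩ : ↥(Cz a)) ∈ D then 1 else -1) else 1, fun x hx y hy => ?_, ?_, ?_⟩
  · simp only [dif_pos hx, dif_pos hy, dif_pos ((Cz a).mul_mem hx hy)]
    set u : ↥(Cz a) := ⟨x, hx⟩
    set w : ↥(Cz a) := ⟨y, hy⟩
    show (if u * w ∈ D then (1 : ℤˣ) else -1) = _
    by_cases h1 : u ∈ D <;> by_cases h2 : w ∈ D
    · simp [h1, h2, D.mul_mem h1 h2]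
    · simp [h1, h2, show u * w ∉ D from fun h => h2 (by simpa using D.mul_mem (D.inv_mem h1) h)]
    · simp [h1, h2, show u * w ∉ D from fun h => h1 (by simpa using D.mul_mem h (D.inv_mem h2))]
    · have h3 := D.mul_mem ((hone u).2 h1) ((hone w).2 h2)
      rw [show u * aC * (w * aC) = u * (aC * w) * aC by group, (hacen w).eq,
        show u * (w * aC) * aC = u * w * (aC * aC) by group, haC, mul_one] at h3
      simp [h1, h2, h3]
  · simp only []
    rw [dif_pos (mem_Cz.2 rfl), if_neg haD]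
  · obtain ⟨x, hx, y, hy, e⟩ := B.not_abelian (le_refl J) (by rw [Subgroup.relIndex_self]; norm_num)
    simp only []
    rw [dif_pos B.zCa, if_pos]
    rw [show (⟨z, B.zCa⟩ : ↥(Cz a)) = ⁅(⟨x, B.JCa hx⟩ : ↥(Cz a)), (⟨y, B.JCa hy⟩ : ↥(Cz a))⁆ from Subtype.ext e.symm, hD,
      commutator_def]
    exact Subgroup.commutator_mem_commutator (Subgroup.mem_top _) (Subgroup.mem_top _)

/-- Signs on both sides contradict the fusion. -/
theorem Big.two_signs (B : Big z a J π) (hH : ∀ x ∈ Hc z a, ∃ g, aut z π x = MulAut.conj g)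
    {φ : ↥(Cz a) →* X} (Q : Qt a φ) {Y : Type*} [Group Y] [Finite Y] {ψ : ↥(Cz (z * a)) →* Y} (Q' : Qt (z * a) ψ)
    (hX : Nonempty (X ≃* Cfsg.PSU 6 K4 2)) (hY : Nonempty (Y ≃* Cfsg.PSU 6 K4 2))
    (χ χ' : G → ℤˣ) (hm : ∀ x ∈ Cz a, ∀ y ∈ Cz a, χ (x * y) = χ x * χ y) (ha : χ a = -1) (hz : χ z = 1)
    (hm' : ∀ x ∈ Cz (z * a), ∀ y ∈ Cz (z * a), χ' (x * y) = χ' x * χ' y) (ha' : χ' (z * a) = -1) (hz' : χ' z = 1) :
    False := by
  classical
  obtain ⟨eX⟩ := hX
  obtain ⟨eY⟩ := hY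
  have hHc : ∀ {x : G}, x ∈ Hc z a → x ∈ Hc z (z * a) := fun {x} h =>
    ⟨h.1, mem_Cz.2 (by rw [← mul_assoc, mem_Cz.1 h.1, mul_assoc, mem_Cz.1 h.2, mul_assoc])⟩
  have hHc' : ∀ {x : G}, x ∈ Hc z (z * a) → x ∈ Hc z a := fun {x} h => by
    refine ⟨h.1, mem_Cz.2 ?_⟩
    have h2 := mem_Cz.1 h.2
    calc x * a = x * (z * (z * a)) := by rw [← mul_assoc z, B.zz, one_mul]
      _ = z * (x * (z * a)) := by rw [← mul_assoc, mem_Cz.1 h.1, mul_assoc]
      _ = _ := by rw [h2, ← mul_assoc, ← mul_assoc, B.zz, one_mul]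
  obtain ⟨π0, P, hc0⟩ := B.exists_pre hH Q
  obtain ⟨π1, P1, hc1⟩ := B.swap.exists_pre (fun x hx => hH x (hHc' hx)) Q'
  have hzo : orderOf (qm a φ z) = 2 := orderOf_eq_prime (by
    rw [pow_two, ← Q.qm_mul B.zCa B.zCa, B.zz, Q.qm_one]) (B.qz_ne Q)
  have hzo' : orderOf (qm (z * a) ψ z) = 2 := orderOf_eq_prime (by
    rw [pow_two, ← Q'.qm_mul B.swap.zCa B.swap.zCa, B.zz, Q'.qm_one]) (B.swap.qz_ne Q')
  obtain ⟨T⟩ : Nonempty (Sp (qm a φ z) ((J.subgroupOf (Cz a)).map φ) π0) :=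
    (exists_sp P).resolve_left fun h => by
      obtain ⟨g, hg, hne⟩ := psu_moves eX hzo
      exact hne (h g hg)
  let zX := qm a φ z
  have hχ1 : χ 1 = 1 := by
    have := hm 1 (one_mem _) 1 (one_mem _)
    rw [one_mul] at this
    exact mul_eq_left.1 this.symm
  have hχ'1 : χ' 1 = 1 := by
    have := hm' 1 (one_mem _) 1 (one_mem _)
    rw [one_mul] at this
    exact mul_eq_left.1 this.symm
  have hχ'a : χ' a = -1 := by
    have := hm' z B.swap.zCa (z * a) (mem_Cz.2 rfl)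
    rwa [← mul_assoc, B.zz, one_mul, hz', one_mul, ha'] at this
  have hne : (-1 : ℤˣ) ≠ 1 := by decide
  have haH : a ∈ Hc z a := B.JH B.aJ
  -- the section with positive sign
  have hex : ∀ w : ↥(Cz zX), ∃ x ∈ Hc z a, qm a φ x = w ∧ χ x = 1 := fun w => by
    obtain ⟨x, hx, e⟩ := B.exists_Hc Q w.2
    rcases Int.units_eq_one_or (χ x) with h | h
    · exact ⟨x, hx, e, h⟩
    · refine ⟨x * a, mul_mem hx haH, ?_, by rw [hm x hx.2 a haH.2, h, ha]; rfl⟩
      rw [Q.qm_mul hx.2 haH.2, e, (Q.qm_eq_one haH.2).2 (Or.inr rfl), mul_one]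
  choose r hr hrq hrs using hex
  have huniq : ∀ {x : G} (w : ↥(Cz zX)), x ∈ Hc z a → qm a φ x = w → χ x = 1 → r w = x := fun {x} w hx e h => by
    rcases (Q.qm_eq (hr w).2 hx.2).1 ((hrq w).trans e.symm) with e1 | e1
    · exact e1
    · have := hrs w
      rw [e1, hm x hx.2 a haH.2, h, ha, one_mul] at this
      exact absurd this hne
  let R : ↥(Cz zX) →* G := MonoidHom.mk' r fun u v => huniq _ (mul_mem (hr u) (hr v))
    (by rw [Q.qm_mul (hr u).2 (hr v).2, hrq, hrq]; rfl) (by rw [hm _ (hr u).2 _ (hr v).2, hrs, hrs, one_mul])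
  -- the two signs agree
  have hsame : ∀ x ∈ Hc z a, χ x = χ' x := by
    let η : ↥(Cz zX) →* ℤˣ := MonoidHom.mk' (fun w => χ' (r w)) fun u v => by
      show χ' (R (u * v)) = _
      rw [map_mul]
      exact hm' _ (hHc (hr u)).2 _ (hHc (hr v)).2
    have hη := sign_trivial T P η fun h => by
      show χ' (r ⟨zX, h⟩) = 1
      rw [huniq ⟨zX, h⟩ (Subgroup.mem_inf.2 ⟨B.zC, B.zCa⟩) rfl hz, hz']
    intro x hx
    have h1 : χ' (r ⟨qm a φ x, B.qm_Hc Q hx⟩) = 1 := hη _
    rcases Int.units_eq_one_or (χ x) with h | h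
    · rw [huniq _ hx rfl h] at h1
      rw [h, h1]
    · have e := huniq ⟨qm a φ x, B.qm_Hc Q hx⟩ (mul_mem hx haH) (by
          rw [Q.qm_mul hx.2 haH.2, (Q.qm_eq_one haH.2).2 (Or.inr rfl), mul_one])
        (by rw [hm x hx.2 a haH.2, h, ha]; rfl)
      rw [e, hm' x (hHc hx).2 a (hHc haH).2, hχ'a] at h1
      rw [h]
      calc (-1 : ℤˣ) = χ' x * (-1) * (-1) := by rw [h1, one_mul]
        _ = χ' x := by rw [mul_assoc, Int.units_mul_self, mul_one]
  -- the map to the other quotient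
  let F : ↥(Cz zX) →* Y := MonoidHom.mk' (fun w => qm (z * a) ψ (r w)) fun u v => by
    show qm (z * a) ψ (R (u * v)) = _
    rw [map_mul]
    exact Q'.qm_mul (hHc (hr u)).2 (hHc (hr v)).2
  have hFC : ∀ w, F w ∈ Cz (qm (z * a) ψ z) := fun w => B.swap.qm_Hc Q' (hHc (hr w))
  have hF1 : ∀ w, F w = 1 → w = 1 := fun w h => by
    rcases (Q'.qm_eq_one (hHc (hr w)).2).1 h with e | e
    · exact Subtype.ext (by rw [← hrq w, e, Q.qm_one]; rfl)
    · have := hrs w
      rw [e, hm z B.zCa a haH.2, hz, ha, one_mul] at this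
      exact absurd this hne
  have hFinj : Function.Injective F := fun u v e => inv_mul_eq_one.1 (hF1 _ (by
    rw [map_mul, map_inv, e, inv_mul_cancel]))
  have hFz : ∀ h : zX ∈ Cz zX, F ⟨zX, h⟩ = qm (z * a) ψ z := fun h => by
    show qm (z * a) ψ (r ⟨zX, h⟩) = _
    rw [huniq ⟨zX, h⟩ (Subgroup.mem_inf.2 ⟨B.zC, B.zCa⟩) rfl hz]
  have hFimg : ∀ w : ↥(Cz zX), img (qm (z * a) ψ z) π1 (F w) = img zX π0 w := fun w => conj_inj (by
    show MulAut.conj (img (qm (z * a) ψ z) π1 (qm (z * a) ψ (r w))) = _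
    rw [← hc1 _ (hHc (hr w)), hc0 _ (hr w), hrq])
  have hFsurj : ∀ c ∈ Cz (qm (z * a) ψ z), ∃ w, F w = c := fun c hc => by
    obtain ⟨x, hx, e⟩ := B.swap.exists_Hc Q' hc
    have hza : z * a ∈ Hc z a := B.JH (J.mul_mem B.zJ B.aJ)
    rcases Int.units_eq_one_or (χ x) with h | h
    · exact ⟨⟨qm a φ x, B.qm_Hc Q (hHc' hx)⟩, by
        show qm (z * a) ψ (r _) = _
        rw [huniq _ (hHc' hx) rfl h, e]⟩
    · refine ⟨⟨qm a φ (x * (z * a)), B.qm_Hc Q (mul_mem (hHc' hx) hza)⟩, ?_⟩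
      show qm (z * a) ψ (r _) = _
      rw [huniq _ (mul_mem (hHc' hx) hza) rfl (by
        rw [hm _ (hHc' hx).2 _ hza.2, hm z B.zCa a haH.2, h, hz, ha]; rfl),
        Q'.qm_mul hx.2 (mem_Cz.2 rfl), (Q'.qm_eq_one (mem_Cz.2 rfl)).2 (Or.inr rfl), mul_one, e]
  have hjC : ∀ v b, T.C.j v b ∈ Cz zX := fun v b => P.QC (T.C.mem v b)
  have hrJ : ∀ w : ↥(Cz zX), (w : X) ∈ (J.subgroupOf (Cz a)).map φ → r w ∈ J := fun w hw => by
    obtain ⟨⟨j, hj⟩, hjJ, e⟩ := hw
    rcases (Q.qm_eq (hr w).2 hj).1 (by rw [hrq, ← e, qm, dif_pos hj]) with e' | e' <;> rw [e']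
    exacts [hjJ, J.mul_mem hjJ B.aJ]
  have hmem1 : ∀ x ∈ J, qm (z * a) ψ x ∈ (J.subgroupOf (Cz (z * a))).map ψ := fun x hx =>
    ⟨⟨x, B.swap.JCa hx⟩, hx, by rw [qm, dif_pos (B.swap.JCa hx)]⟩
  let C' : Co (qm (z * a) ψ z) ((J.subgroupOf (Cz (z * a))).map ψ) π1 bA gL :=
    { M := T.C.M
      j := fun v b => F ⟨T.C.j v b, hjC v b⟩
      bil := T.C.bil
      mem := fun v b => hmem1 _ (hrJ _ (T.C.mem v b))
      surj := fun q hq => by
        obtain ⟨w, rfl⟩ := hFsurj q (P1.QC hq)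
        obtain ⟨⟨j, hj⟩, hjJ, e⟩ := hq
        have hrw : r w ∈ J := by
          rcases (Q'.qm_eq (hHc (hr w)).2 hj).1 (show qm (z * a) ψ (r w) = qm (z * a) ψ j by
            refine e.symm.trans ?_; rw [qm, dif_pos hj]) with e' | e' <;> rw [e']
          exacts [hjJ, J.mul_mem hjJ (J.mul_mem B.zJ B.aJ)]
        obtain ⟨v, b, hvb⟩ := T.C.surj (w : X) ⟨⟨r w, (hr w).2⟩, hrw, by rw [← hrq w, qm, dif_pos (show r w ∈ Cz a from (hr w).2)]⟩
        exact ⟨v, b, congrArg F (Subtype.ext hvb)⟩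
      inj := fun v b w d e => T.C.inj _ _ _ _ (congrArg Subtype.val (hFinj e))
      mul := fun v b w d => by
        rw [← map_mul]
        exact congrArg F (Subtype.ext (T.C.mul v b w d))
      j_z := by
        rw [← hFz (mem_Cz.2 rfl)]
        exact congrArg F (Subtype.ext T.C.j_z)
      conj := fun c hc v b => by
        obtain ⟨w, rfl⟩ := hFsurj c hc
        obtain ⟨d, hd⟩ := T.C.conj w w.2 v b
        refine ⟨d, ?_⟩
        rw [hFimg, ← map_inv, ← map_mul, ← map_mul]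
        exact congrArg F (Subtype.ext hd) }
  let T' : Sp (qm (z * a) ψ z) ((J.subgroupOf (Cz (z * a))).map ψ) π1 :=
    { C := C'
      s := F.comp (T.s.codRestrict (Cz zX) T.mem)
      mem := fun g => hFC _
      sec := fun g => (hFimg _).trans (T.sec g)
      act := fun g v b => by
        show F _ * F _ * (F _)⁻¹ = F _
        rw [← map_inv, ← map_mul, ← map_mul]
        exact congrArg F (Subtype.ext (T.act g v b)) }
  -- a common conjugate of `z`
  obtain ⟨htC, ⟨g0, hg0⟩, htne⟩ := (T.classes P (psu_moves eX hzo) (T.rp false false)).2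
    ⟨_, List.contains_iff_mem.1 (alist_base false).1, T.den_rp false false⟩
  obtain ⟨g, hg, hge⟩ := Q.qm_surj g0
  set k := g * z * g⁻¹ with hkd
  have hka : k ∈ Cz a := mul_mem (mul_mem hg B.zCa) (inv_mem hg)
  have hkq : qm a φ k = T.rp false false := by rw [hkd, Q.qm_conj hg B.zCa, hge, ← hg0]
  have hk : k ∈ Hc z a := Subgroup.mem_inf.2 ⟨(B.qm_Cz Q hka).1 (hkq ▸ htC), hka⟩
  have hkχ : χ k = 1 := by
    rw [hkd, hm _ (mul_mem hg B.zCa) _ (inv_mem hg), hm g hg z B.zCa, hz, mul_one, ← hm g hg _ (inv_mem hg),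
      mul_inv_cancel, hχ1]
  have hrt : r ⟨T.rp false false, htC⟩ = k := huniq _ hk hkq hkχ
  have ht' : T'.rp false false = qm (z * a) ψ k := by
    rw [← hrt]
    show _ = F ⟨T.rp false false, htC⟩
    show F _ * F _ = F _
    rw [← map_mul]
    rfl
  obtain ⟨-, ⟨g1, hg1⟩, -⟩ := (T'.classes P1 (psu_moves eY hzo') (T'.rp false false)).2
    ⟨_, List.contains_iff_mem.1 (alist_base false).1, T'.den_rp false false⟩
  obtain ⟨g', hg', hge'⟩ := Q'.qm_surj g1
  have hk'C : g' * z * g'⁻¹ ∈ Cz (z * a) := mul_mem (mul_mem hg' B.swap.zCa) (inv_mem hg')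
  have he : k = g' * z * g'⁻¹ := by
    refine ((Q'.qm_eq (hHc hk).2 hk'C).1 ?_).resolve_right fun e => hne ?_
    · rw [← ht', Q'.qm_conj hg' B.swap.zCa, hge', ← hg1]
    · have := (hsame k hk).symm
      rw [hkχ, e, hm' _ hk'C _ (mem_Cz.2 rfl), ha', hm' _ (mul_mem hg' B.swap.zCa) _ (inv_mem hg'),
        hm' g' hg' z B.swap.zCa, hz', mul_one, ← hm' g' hg' _ (inv_mem hg'), mul_inv_cancel, hχ'1, one_mul] at this
      exact this
  have hh : g'⁻¹ * g ∈ Cz z := mem_Cz.2 (by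
    calc g'⁻¹ * g * z = g'⁻¹ * k * g := by rw [hkd]; group
      _ = g'⁻¹ * (g' * z * g'⁻¹) * g := by rw [← he]
      _ = _ := by group)
  have hga : g * a * g⁻¹ = a := by rw [mem_Cz.1 hg]; group
  rcases B.a_perm hh with e | e
  · have hgA : g ∈ Cz (z * a) := by
      rw [show g = g' * (g'⁻¹ * g) by group]
      exact mul_mem hg' (hHc (Subgroup.mem_inf.2 ⟨hh, mem_Cz.2 (mul_inv_eq_iff_eq_mul.1 e)⟩)).2
    have h1 : g * (z * a) * g⁻¹ = z * a := by rw [mem_Cz.1 hgA]; group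
    have h2 : k * a = z * a := by
      rw [← h1, hkd]
      calc g * z * g⁻¹ * a = g * z * g⁻¹ * (g * a * g⁻¹) := by rw [hga]
        _ = _ := by group
    refine htne ?_
    rw [← hkq, mul_right_cancel h2]
  · refine B.za_ne.2.1 ?_
    calc z * a = g' * (z * a) * g'⁻¹ := by rw [mem_Cz.1 hg']; group
      _ = g' * (g'⁻¹ * g * a * (g'⁻¹ * g)⁻¹) * g'⁻¹ := by rw [e]
      _ = g * a * g⁻¹ := by group
      _ = a := hga

/-- The swapped case with large quotients. -/
theorem Big.swap_big (B : Big z a J π) (hH : ∀ x ∈ Hc z a, ∃ g, aut z π x = MulAut.conj g)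
    {φ : ↥(Cz a) →* X} (Q : Qt a φ) {Y : Type*} [Group Y] [Finite Y] {ψ : ↥(Cz (z * a)) →* Y} (Q' : Qt (z * a) ψ)
    (hX : Nonempty (X ≃* Cfsg.PSU 6 K4 2)) (hY : Nonempty (Y ≃* Cfsg.PSU 6 K4 2))
    (hconj : ∃ e : G, e * a * e⁻¹ = z * a) : Cfsg.Spor.IsoFi22 G := by
  have hconj' : ∃ e : G, e * (z * a) * e⁻¹ = z * (z * a) := by
    obtain ⟨e, he⟩ := hconj
    refine ⟨e⁻¹, ?_⟩
    rw [← mul_assoc z, B.zz, one_mul, ← he]
    group
  rcases B.fi_or_sign Q hX hconj with h | ⟨χ, hm, ha, hz⟩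
  · exact h
  rcases B.swap.fi_or_sign Q' hY hconj' with h | ⟨χ', hm', ha', hz'⟩
  · exact h
  exact (B.two_signs hH Q Q' hX hY χ χ' hm ha hz hm' ha' hz').elim

end CfsgLib.FiTwoType
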