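import Cfsg.Agent.Lib.FiTwoType.Natural

/-!
The wedge representation: square roots of `z` and the core argument; the two representations combined.
-/

set_option autoImplicit false
set_option linter.unusedSectionVars false
set_option linter.style.haveILetI false
set_option maxRecDepth 100000

open Cfsg CfsgLib.Extraspecial CfsgLib.USixType CfsgLib.USixTwo

namespace CfsgLib.FiTwoType

theorem top_sigma {β : V8 → V8 → Bool} {S : Fin 5 → Lin} {σ : Lin} (h : Kind β S σ) (hS : S = wL) :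
    app σ 192 = 192 ∧ qq β 192 = true := by
  rcases h with ⟨-, h, -⟩ | ⟨rfl, -, rfl⟩ | ⟨rfl, -, rfl⟩ | ⟨rfl, -, rfl⟩ | ⟨rfl, -, rfl⟩
  · exact absurd (congrFun (h.symm.trans hS) 0) (by decide +kernel)
  exacts [⟨top_sg.1, top_q.1⟩, ⟨top_sg.2, top_q.1⟩, ⟨top_sg.1, top_q.2⟩, ⟨top_sg.2, top_q.2⟩]

namespace Crd

variable {G : Type*} [Group G] [Finite G] {z a : G} {J : Subgroup G} {π : ↥(Cz z) →* MulAut G4}
  {β : V8 → V8 → Bool} {S : Fin 5 → Lin} {σ : Lin} (C : Crd z a J π β S σ) (B : Big z a J π) (hS : S = wL)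
include C B hS

theorem fix_top (g : G4) : app (C.M.L g) 192 = 192 := by
  subst hS
  have hg : g ∈ Subgroup.closure (Set.range gen) := by rw [gen_top]; exact Subgroup.mem_top g
  rw [← Subgroup.mem_toSubmonoid, Subgroup.closure_toSubmonoid_of_finite] at hg
  induction hg using Submonoid.closure_induction with
  | mem x hx => obtain ⟨k, rfl⟩ := hx; rw [C.M.gen_eq]; exact wL_top k
  | one => rw [C.M.one, id_app]
  | mul x y _ _ hx hy => rw [C.M.mul, app_comp, hy, hx]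

theorem mat_top {c : G} (hc : c ∈ Cz z) : ∃ M, C.Mat c M ∧ app M 192 = 192 := by
  obtain ⟨g, ⟨-, h⟩ | ⟨-, h⟩⟩ := C.mat_exists B hc
  · exact ⟨_, h, C.fix_top B hS g⟩
  · exact ⟨_, h, by rw [app_comp, (top_sigma C.kind hS).1, C.fix_top B hS g]⟩

/-- An inner involution modulo `J` centralises a square root of `z`. -/
theorem root_inner {x : G} (hx : Inner π x) (hn : x ∉ J) (h2 : x * x ∈ J) :
    ∃ y ∈ J, y * y = z ∧ x * y = y * x := by
  obtain ⟨k, c, hc, hck⟩ := B.inner_fix_rep hx hn h2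
  have hx' := B.inner_conj hc.1 hx
  suffices h : ∃ y ∈ J, y * y = z ∧ c * x * c⁻¹ * y = y * (c * x * c⁻¹) by
    obtain ⟨y, hy, hyy, hxy⟩ := h
    refine ⟨c⁻¹ * y * c, by simpa using B.conjJ (inv_mem hc.1) hy, ?_, ?_⟩
    · rw [show c⁻¹ * y * c * (c⁻¹ * y * c) = c⁻¹ * (y * y) * c by group, hyy, mul_assoc, ← mem_Cz.1 hc.1]
      group
    · calc x * (c⁻¹ * y * c) = c⁻¹ * (c * x * c⁻¹ * y) * c := by group
        _ = _ := by rw [hxy]; group
  have hok : witOK β k = true := by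
    have h := witOK_all
    simp only [Bool.and_eq_true] at h
    have hβ := (kind_beta C.kind).1
    simp only [List.mem_cons, List.not_mem_nil, or_false] at hβ
    rcases hβ with rfl | rfl <;> cases k
    exacts [h.1.1.1, h.1.1.2, h.1.2, h.2]
  simp only [witOK, Bool.and_eq_true, decide_eq_true_eq, beq_iff_eq] at hok
  obtain ⟨⟨⟨⟨⟨⟨hc1, hc2⟩, hv1⟩, hv2⟩, q1⟩, q2⟩, q12⟩ := hok
  have hL : ∀ w, C.M.L (evalW w) = linW wL w := fun w => by subst hS; exact C.M.evalW_L w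
  have hM : C.Mat (c * x * c⁻¹) (linW wL (repW k)) := hL (repW k) ▸ C.mat_inner B hx'.1 hck
  have step : ∀ {v : V8} {w : List (Fin 5)}, linW gL (w ++ repW k) = linW gL (repW k ++ w) →
      app (linW wL (repW k)) v = v → ∃ s, (s = 1 ∨ s = z) ∧ C.Lf (c * x * c⁻¹) (xr v (app (linW wL w) v)) s := by
    intro v w hw hv
    obtain ⟨u, hu, hud⟩ := B.inner_lift (evalW w)
    refine C.lf_disp B (B.inner_Hc hu) ?_ hM (hL w ▸ C.mat_inner B hu.1 hud) hv
    set y := c * x * c⁻¹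
    refine (B.aut_eq_one (mul_mem (mul_mem (mul_mem hu.1 hx'.1) (inv_mem hu.1)) (inv_mem hx'.1))).1 ?_
    rw [B.aut_mul (mul_mem (mul_mem hu.1 hx'.1) (inv_mem hu.1)) (inv_mem hx'.1),
      B.aut_mul (mul_mem hu.1 hx'.1) (inv_mem hu.1), B.aut_mul hu.1 hx'.1, B.aut_inv hu.1, B.aut_inv hx'.1, hud, hck,
      ← map_mul, ← evalW_append, evalW_eq hw, evalW_append, map_mul]
    group
  obtain ⟨s1, hs1, l1⟩ := step hc1 hv1
  obtain ⟨s2, hs2, l2⟩ := step hc2 hv2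
  exact C.root_of B hs1 hs2 l1 l2 q1 q2 q12

/-- The core argument, in normal position. -/
theorem core_syl {g : G} (hkC : g * z * g⁻¹ ∈ Hc z a) (hkJ : g * z * g⁻¹ ∉ J)
    (hbJ : g * a * g⁻¹ ∉ J) (hwJ : g * (z * a) * g⁻¹ ∉ J) {w0 : G} (hw0 : w0 ∈ J) (hw0z : w0 * w0 = z)
    (hw0k : w0 * (g * z * g⁻¹) = g * z * g⁻¹ * w0) (hw0b : w0 * (g * a * g⁻¹) = g * a * g⁻¹ * w0)
    {q : G} (hq : q ∈ J) (hqv : C.vec q = 192) {M : Lin} (hM : C.Mat (g * q * g⁻¹) M) (hmem : M ∈ sylL wL σ) :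
    False := by
  have hqq : q * q = z := C.sq_z B hq (by rw [hqv]; exact (top_sigma C.kind hS).2)
  set m := g⁻¹ * z * g with hm
  set ws := g⁻¹ * w0 * g with hws
  have hgz : ∀ {x : G}, x * (g * z * g⁻¹) = g * z * g⁻¹ * x → g⁻¹ * x * g ∈ Cz z := fun {x} hx => mem_Cz.2 (by
    calc g⁻¹ * x * g * z = g⁻¹ * (x * (g * z * g⁻¹)) * g := by group
      _ = g⁻¹ * (g * z * g⁻¹ * x) * g := by rw [hx]
      _ = _ := by group)
  have hga : ∀ {x : G}, x * (g * a * g⁻¹) = g * a * g⁻¹ * x → g⁻¹ * x * g ∈ Cz a := fun {x} hx => mem_Cz.2 (by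
    calc g⁻¹ * x * g * a = g⁻¹ * (x * (g * a * g⁻¹)) * g := by group
      _ = g⁻¹ * (g * a * g⁻¹ * x) * g := by rw [hx]
      _ = _ := by group)
  have hwsH : ws ∈ Hc z a := Subgroup.mem_inf.2 ⟨hgz hw0k, hga hw0b⟩
  have hmne : ¬ InZ z a m := by
    intro h
    have hme : m = g⁻¹ * z * g⁻¹⁻¹ := by rw [hm, inv_inv]
    rcases h with e | e | e | e
    · refine B.zne ?_
      calc z = g * m * g⁻¹ := by rw [hm]; group
        _ = 1 := by rw [e]; group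
    · refine hkJ ?_
      rw [show g * z * g⁻¹ = z by
        calc g * z * g⁻¹ = g * m * g⁻¹ := by rw [e]
          _ = z := by rw [hm]; group]
      exact B.zJ
    · exact B.not_conj g⁻¹ (hme ▸ e)
    · exact B.not_conj' g⁻¹ (hme ▸ e)
  have hmq : m * q = q * m := by
    obtain ⟨M1, hM1, h1⟩ := C.mat_top B hS hwsH.1
    obtain ⟨t, ht, q', hq', hqv', hqt⟩ := C.lf_exists B hM1 h1
    have hd := C.vec_eq B hq' hq (hqv'.trans hqv.symm)
    have htw : ws * t * ws⁻¹ = t := by rw [B.inZ_comm ht hwsH]; group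
    have hww : ws * ws = m := by rw [hws, hm, ← hw0z]; group
    have hq1 : ws * ws * q' = q' * (ws * ws) := by
      refine mul_inv_eq_iff_eq_mul.1 ?_
      calc ws * ws * q' * (ws * ws)⁻¹ = ws * (ws * q' * ws⁻¹) * ws⁻¹ := by group
        _ = ws * (q' * t) * ws⁻¹ := by rw [hqt]
        _ = ws * q' * ws⁻¹ * (ws * t * ws⁻¹) := by group
        _ = q' * (t * t) := by rw [hqt, htw]; group
        _ = _ := by rw [B.inZ_sq ht, mul_one]
    have hd2 : ws * ws * (q'⁻¹ * q) = q'⁻¹ * q * (ws * ws) := B.inZ_comm hd (mul_mem hwsH hwsH)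
    rw [← hww, show q = q' * (q'⁻¹ * q) by group]
    calc ws * ws * (q' * (q'⁻¹ * q)) = ws * ws * q' * (q'⁻¹ * q) := by group
      _ = q' * (ws * ws * (q'⁻¹ * q)) := by rw [hq1]; group
      _ = _ := by rw [hd2]; group
  set qs := g * q * g⁻¹ with hqs
  set k := g * z * g⁻¹ with hk
  have hqk : qs * qs = k := by rw [hk, hqs, ← hqq]; group
  -- it fixes the second involution
  have hqa : qs * a = a * qs := by
    by_contra hno
    have e := (B.a_perm hM.1).resolve_left fun e => hno (mul_inv_eq_iff_eq_mul.1 e)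
    set as := g⁻¹ * a * g with has
    have hasC : as ∈ Cz z := hgz (mem_Cz.1 hkC.2).symm
    obtain ⟨M1, hM1, h1⟩ := C.mat_top B hS hasC
    have hz0 : InZ z a (q⁻¹ * (as * q * as⁻¹)) := C.vec_eq B hq (B.conjJ hasC hq) (by rw [hM1.2 q hq, hqv, h1])
    have e1 : q * as * q⁻¹ * as⁻¹ = m := by
      rw [has, hm, show q * (g⁻¹ * a * g) * q⁻¹ * (g⁻¹ * a * g)⁻¹ = g⁻¹ * (qs * a * qs⁻¹ * a⁻¹) * g by
        rw [hqs]; group, e]
      group
    refine hmne ?_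
    set t := q⁻¹ * (as * q * as⁻¹) with ht
    have e2 : q * as * q⁻¹ * as⁻¹ = q * t⁻¹ * q⁻¹ := by rw [ht]; group
    rw [inv_eq_of_mul_eq_one_right (B.inZ_sq hz0), B.inZ_J_comm hz0 hq, mul_inv_cancel_right, e1] at e2
    exact e2 ▸ hz0
  have hqsH : qs ∈ Hc z a := Subgroup.mem_inf.2 ⟨hM.1, mem_Cz.2 hqa⟩
  -- what centralises the conjugate centralises its root
  have hfix : ∀ c ∈ J, c * k = k * c → c * qs = qs * c := by
    intro c hc hck
    obtain ⟨M1, hM1, h1⟩ := C.mat_top B hS (hgz hck)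
    have hz0 : InZ z a (q⁻¹ * (g⁻¹ * c * g * q * (g⁻¹ * c * g)⁻¹)) :=
      C.vec_eq B hq (B.conjJ hM1.1 hq) (by rw [hM1.2 q hq, hqv, h1])
    set t := q⁻¹ * (g⁻¹ * c * g * q * (g⁻¹ * c * g)⁻¹) with ht
    have e : c * qs * c⁻¹ * qs⁻¹ = g * t * g⁻¹ := by
      have e0 : q * t * q⁻¹ = t := by rw [B.inZ_J_comm hz0 hq]; group
      rw [← e0, ht, hqs]; group
    have hJ : c * qs * c⁻¹ * qs⁻¹ ∈ J := by
      rw [show c * qs * c⁻¹ * qs⁻¹ = c * (qs * c⁻¹ * qs⁻¹) by group]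
      exact J.mul_mem hc (B.conjJ hM.1 (J.inv_mem hc))
    rcases hz0 with h | h | h | h <;> rw [h] at e
    · rw [mul_one, mul_inv_cancel] at e
      calc c * qs = c * qs * c⁻¹ * qs⁻¹ * (qs * c) := by group
        _ = _ := by rw [e, one_mul]
    · rw [e] at hJ; exact absurd hJ hkJ
    · rw [e] at hJ; exact absurd hJ hbJ
    · rw [e] at hJ; exact absurd hJ hwJ
  have hMk : C.Mat k (comp M M) := hqk ▸ C.mat_mul B hM hM
  have hne : ¬ comp M M = idL := fun e => hkJ (C.mat_id B (e ▸ hMk))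
  have k2 : k * k = 1 := by rw [hk, show g * z * g⁻¹ * (g * z * g⁻¹) = g * (z * z) * g⁻¹ by group, B.zz]; group
  have h4 : comp (comp M M) (comp M M) = idL :=
    C.mat_unique B (C.mat_mul B hMk hMk) (k2.symm ▸ C.mat_J B J.one_mem)
  have ht : qTest β M = true := by
    subst hS
    rcases C.kind with ⟨-, h, -⟩ | ⟨rfl, -, rfl⟩ | ⟨rfl, -, rfl⟩ | ⟨rfl, -, rfl⟩ | ⟨rfl, -, rfl⟩
    · exact absurd (congrFun h 0) (by decide +kernel)
    · exact List.all_eq_true.1 (List.all_eq_true.1 qTest_ok.1 _ (by simp)) _ hmem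
    · exact List.all_eq_true.1 (List.all_eq_true.1 qTest_ok.1 _ (by simp)) _ hmem
    · exact List.all_eq_true.1 (List.all_eq_true.1 qTest_ok.2 _ (by simp)) _ hmem
    · exact List.all_eq_true.1 (List.all_eq_true.1 qTest_ok.2 _ (by simp)) _ hmem
  simp only [qTest, hne, h4, decide_false, decide_true, Bool.not_true, Bool.false_or, List.any_eq_true,
    Bool.and_eq_true, beq_iff_eq, bne_iff_ne, Bool.not_eq_true'] at ht
  obtain ⟨w, -, ⟨hw2, hw1⟩, hr⟩ := ht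
  obtain ⟨t, htZ, j, hj, hjw, hjt⟩ := C.lf_exists B hMk (v := w) (by rw [app_comp]; exact hw2)
  set j' := qs * j * qs⁻¹ with hj'
  have hj'J : j' ∈ J := B.conjJ hM.1 hj
  set jr := j⁻¹ * j' with hjr
  have hjrJ : jr ∈ J := J.mul_mem (J.inv_mem hj) hj'J
  have hjrv : C.vec jr = xr (app M w) w := by
    rw [C.mul _ (J.inv_mem hj) _ hj'J, C.vec_inv B hj, hj', hM.2 j hj, hjw, xr_comm]
  have hjr2 : jr * jr = 1 := by rw [C.sq _ hjrJ, hjrv, hr]; rfl
  have hkt : k * j' * k⁻¹ = j' * t := by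
    calc k * j' * k⁻¹ = qs * (k * j * k⁻¹) * qs⁻¹ := by rw [← hqk, hj']; group
      _ = qs * j * qs⁻¹ * (qs * t * qs⁻¹) := by rw [hjt]; group
      _ = _ := by rw [B.inZ_comm htZ hqsH, mul_inv_cancel_right]
  have hkr : jr * k = k * jr := by
    refine (mul_inv_eq_iff_eq_mul.1 ?_).symm
    calc k * jr * k⁻¹ = (k * j * k⁻¹)⁻¹ * (k * j' * k⁻¹) := by rw [hjr]; group
      _ = t⁻¹ * (j⁻¹ * j') * t := by rw [hjt, hkt]; group
      _ = t⁻¹ * (jr * t) := by rw [hjr]; group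
      _ = jr := by rw [B.inZ_J_comm htZ hjrJ, inv_mul_cancel_left]
  have hqr := hfix jr hjrJ hkr
  have hfin : k * j * k⁻¹ = j := by
    calc k * j * k⁻¹ = qs * j' * qs⁻¹ := by rw [← hqk, hj']; group
      _ = qs * (j * jr) * qs⁻¹ := by rw [hjr]; group
      _ = j' * (qs * jr * qs⁻¹) := by rw [hj']; group
      _ = j' * jr := by rw [← hqr, mul_inv_cancel_right]
      _ = j * (jr * jr) := by rw [hjr]; group
      _ = j := by rw [hjr2, mul_one]
  have hjq := hfix j hj (mul_inv_eq_iff_eq_mul.1 hfin).symm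
  refine hw1 ?_
  rw [← hjw, ← hM.2 j hj, ← hjq, mul_inv_cancel_right]

/-- The core argument. -/
theorem core {g : G} (hkC : g * z * g⁻¹ ∈ Hc z a) (hkJ : g * z * g⁻¹ ∉ J)
    (hbJ : g * a * g⁻¹ ∉ J) (hwJ : g * (z * a) * g⁻¹ ∉ J) {w0 : G} (hw0 : w0 ∈ J) (hw0z : w0 * w0 = z)
    (hw0k : w0 * (g * z * g⁻¹) = g * z * g⁻¹ * w0) (hw0b : w0 * (g * a * g⁻¹) = g * a * g⁻¹ * w0) : False := by
  obtain ⟨q, hq, hqv⟩ := C.surj 192
  have hqq : q * q = z := C.sq_z B hq (by rw [hqv]; exact (top_sigma C.kind hS).2)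
  -- the conjugate of the root lies in the centraliser
  have hqs : g * q * g⁻¹ ∈ Cz z := by
    refine mem_Cz.2 ?_
    set ws := g⁻¹ * w0 * g with hws
    have hwsz : ws ∈ Cz z := mem_Cz.2 (by
      calc ws * z = g⁻¹ * (w0 * (g * z * g⁻¹)) * g := by rw [hws]; group
        _ = _ := by rw [hw0k, hws]; group)
    have hwsa : ws ∈ Cz a := mem_Cz.2 (by
      calc ws * a = g⁻¹ * (w0 * (g * a * g⁻¹)) * g := by rw [hws]; group
        _ = _ := by rw [hw0b, hws]; group)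
    obtain ⟨M1, hM1, h1⟩ := C.mat_top B hS hwsz
    obtain ⟨t, ht, q', hq', hqv', hqt⟩ := C.lf_exists B hM1 h1
    have hd := C.vec_eq B hq' hq (hqv'.trans hqv.symm)
    have hH : ws ∈ Hc z a := Subgroup.mem_inf.2 ⟨hwsz, hwsa⟩
    have htt : ws * t * ws⁻¹ = t := by rw [B.inZ_comm ht hH]; group
    have hdd : ∀ {c : G}, c ∈ Hc z a → c * (q'⁻¹ * q) * c⁻¹ = q'⁻¹ * q := fun {c} hc => by
      rw [B.inZ_comm hd hc]; group
    have e : ws * q * ws⁻¹ = q' * (t * (q'⁻¹ * q)) := by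
      calc ws * q * ws⁻¹ = (ws * q' * ws⁻¹) * (ws * (q'⁻¹ * q) * ws⁻¹) := by group
        _ = _ := by rw [hqt, hdd hH]; group
    have e2 : ws * ws * q * (ws * ws)⁻¹ = q := by
      calc ws * ws * q * (ws * ws)⁻¹ = ws * (ws * q * ws⁻¹) * ws⁻¹ := by group
        _ = (ws * q' * ws⁻¹) * (ws * t * ws⁻¹) * (ws * (q'⁻¹ * q) * ws⁻¹) := by rw [e]; group
        _ = q' * (t * t) * (q'⁻¹ * q) := by rw [hqt, htt, hdd hH]; group
        _ = q := by rw [B.inZ_sq ht]; group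
    have e3 : ws * ws = g⁻¹ * z * g := by rw [hws, ← hw0z]; group
    rw [e3] at e2
    calc g * q * g⁻¹ * z = g * (q * (g⁻¹ * z * g)) * g⁻¹ := by group
      _ = g * (g⁻¹ * z * g * q) * g⁻¹ := by rw [← mul_inv_eq_iff_eq_mul.1 e2]
      _ = _ := by group
  obtain ⟨c, hc, M, hM, hmem⟩ := C.mat_syl B hqs (n := 2) (by
    have : (g * q * g⁻¹) ^ 2 ^ 2 = 1 := by
      rw [show (2 : ℕ) ^ 2 = 2 * 2 from rfl, pow_mul, pow_two, pow_two,
        show g * q * g⁻¹ * (g * q * g⁻¹) = g * (q * q) * g⁻¹ by group, hqq,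
        show g * z * g⁻¹ * (g * z * g⁻¹) = g * (z * z) * g⁻¹ by group, B.zz]
      group
    rw [this]; exact J.one_mem)
  have hcJ : ∀ {x : G}, c * x * c⁻¹ ∈ J → x ∈ J := fun {x} h => by
    simpa [mul_assoc] using B.conjJ (inv_mem hc) h
  have hcc : ∀ {x : G}, c * g * x * (c * g)⁻¹ = c * (g * x * g⁻¹) * c⁻¹ := fun {x} => by group
  refine C.core_syl B hS (g := c * g) ?_ (fun h => hkJ (hcJ (hcc ▸ h))) (fun h => hbJ (hcJ (hcc ▸ h)))
    (fun h => hwJ (hcJ (hcc ▸ h))) (w0 := c * w0 * c⁻¹) (B.conjJ hc hw0) ?_ ?_ ?_ hq hqv (M := M)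
    (by rw [hcc]; exact hM) (hS ▸ hmem)
  · rw [hcc]
    refine Subgroup.mem_inf.2 ⟨mul_mem (mul_mem hc hkC.1) (inv_mem hc), mem_Cz.2 ?_⟩
    have ha : ∀ e : G, c⁻¹ * a * c = e → g * z * g⁻¹ * e = e * (g * z * g⁻¹) → c * (g * z * g⁻¹) * c⁻¹ * a = a * (c * (g * z * g⁻¹) * c⁻¹) := fun e he h => by
      calc c * (g * z * g⁻¹) * c⁻¹ * a = c * (g * z * g⁻¹ * (c⁻¹ * a * c)) * c⁻¹ := by group
        _ = c * (c⁻¹ * a * c * (g * z * g⁻¹)) * c⁻¹ := by rw [he, h]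
        _ = _ := by group
    rcases B.a_perm (inv_mem hc) with e | e <;> rw [inv_inv] at e
    · exact ha a e (mem_Cz.1 hkC.2)
    · exact ha _ e ((show Commute (g * z * g⁻¹) z from mem_Cz.1 hkC.1).mul_right
        (show Commute (g * z * g⁻¹) a from mem_Cz.1 hkC.2)).eq
  · rw [show c * w0 * c⁻¹ * (c * w0 * c⁻¹) = c * (w0 * w0) * c⁻¹ by group, hw0z, mem_Cz.1 hc]
    group
  · rw [hcc]
    calc c * w0 * c⁻¹ * (c * (g * z * g⁻¹) * c⁻¹) = c * (w0 * (g * z * g⁻¹)) * c⁻¹ := by group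
      _ = _ := by rw [hw0k]; group
  · rw [hcc]
    calc c * w0 * c⁻¹ * (c * (g * a * g⁻¹) * c⁻¹) = c * (w0 * (g * a * g⁻¹)) * c⁻¹ := by group
      _ = _ := by rw [hw0b]; group

omit hS

/-- Three inner involutions sharing their centralisers in `J`. -/
theorem inner_false {g : G} (hk : Inner π (g * z * g⁻¹)) (hb : Inner π (g * a * g⁻¹))
    (hkJ : g * z * g⁻¹ ∉ J) (hbJ : g * a * g⁻¹ ∉ J) (hwJ : g * (z * a) * g⁻¹ ∉ J)
    (hbw : ∀ q ∈ J, g * a * g⁻¹ * q = q * (g * a * g⁻¹) → g * (z * a) * g⁻¹ * q = q * (g * (z * a) * g⁻¹))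
    (hwb : ∀ q ∈ J, g * (z * a) * g⁻¹ * q = q * (g * (z * a) * g⁻¹) → g * a * g⁻¹ * q = q * (g * a * g⁻¹))
    (hbk : ∀ q ∈ J, g * a * g⁻¹ * q = q * (g * a * g⁻¹) → g * z * g⁻¹ * q = q * (g * z * g⁻¹))
    (hodd : OddIso z (z * a)) : False := by
  have hw : g * a * g⁻¹ * (g * z * g⁻¹) = g * (z * a) * g⁻¹ := by rw [B.za]; group
  have sq : ∀ {v : G}, v * v = 1 → g * v * g⁻¹ * (g * v * g⁻¹) = 1 := fun {v} hv => by
    rw [show g * v * g⁻¹ * (g * v * g⁻¹) = g * (v * v) * g⁻¹ by group, hv]; group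
  rcases (kind_beta C.kind).2 with h | h
  · refine C.key B h hk hb (sq B.zz) (sq B.aa) ?_ hkJ hbJ (hw ▸ hwJ) (hw ▸ hbw) (hw ▸ hwb) fun u hu huw => ?_
    · calc g * z * g⁻¹ * (g * a * g⁻¹) = g * (z * a) * g⁻¹ := by group
        _ = _ := hw.symm
    · rw [hw] at huw
      have := hodd (g⁻¹ * u * g) (mem_Cz.2 (by
        calc g⁻¹ * u * g * (z * a) = g⁻¹ * (u * (g * (z * a) * g⁻¹)) * g := by group
          _ = _ := by rw [huw]; group))
      rwa [show u * (g * z * g⁻¹) * u⁻¹ * (g * z * g⁻¹) =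
        MulAut.conj g (g⁻¹ * u * g * z * (g⁻¹ * u * g)⁻¹ * z) by simp only [MulAut.conj_apply]; group,
        MulEquiv.orderOf_eq]
  · obtain ⟨y, hy, hyy, hyc⟩ := C.root_inner B h hb hbJ (by rw [sq B.aa]; exact J.one_mem)
    exact C.core B h (B.inner_Hc hk) hkJ hbJ hwJ hy hyy (hbk y hy hyc).symm hyc.symm

end Crd

end CfsgLib.FiTwoType
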